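import Mathlib
import Cfsg.Prelude.Def_FischerSpaces
import Cfsg.Agent.Lib.ThreeTrans.InnerTwins

/-!
Vocabulary for the classification of centreless primitive 3-transposition groups: the standing
hypotheses, the parameters of the commuting graph and the kinds of answers.
-/

set_option autoImplicit false

namespace CfsgLib.ThreeTrans.Classif

open CfsgLib.ThreeTrans
open CfsgLib.ThreeTrans.LocalSymThree (nbr)

universe u

variable {G : Type u} [Group G]

/-- A centreless primitive class of 3-transpositions of width at least two. -/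
structure Good (D : Set G) : Prop where
  set : InnerTwins.Setting D
  triv : Subgroup.center G = ⊥

/-- Number of members, members commuting with one, common ones for two commuting members, and common
ones for two members which do not commute. -/
structure Params (D : Set G) (n k l m : ℕ) : Prop where
  card : D.ncard = n
  deg : ∀ a ∈ D, (nbr D a).ncard = k
  lam : ∀ a ∈ D, ∀ b ∈ nbr D a, (nbr D a ∩ nbr D b).ncard = l
  mu : ∀ a ∈ D, ∀ c ∈ D, ¬ Commute a c → (nbr D a ∩ nbr D c).ncard = m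

/-- Symmetric group of degree `n` on its transpositions. -/
def KindSym (D : Set G) (n : ℕ) : Prop :=
  ∃ e : G ≃* Equiv.Perm (Fin n), e '' D = {σ : Equiv.Perm (Fin n) | σ.IsSwap}

/-- Symplectic group over two elements on its transvections. -/
def KindSp (D : Set G) (m : ℕ) : Prop :=
  ∃ e : G ≃* Matrix.symplecticGroup (Fin m) (ZMod 2),
    e '' D = {g : Matrix.symplecticGroup (Fin m) (ZMod 2) |
      ((g : Matrix (Fin m ⊕ Fin m) (Fin m ⊕ Fin m) (ZMod 2)) - 1).rank = 1}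

/-- Projective special unitary group over four elements on its transvections. -/
def KindPSU (D : Set G) (n : ℕ) : Prop :=
  ∃ (F : Type) (_ : Field F) (_ : Fintype F), Fintype.card F = 4 ∧ ∃ e : G ≃* Cfsg.PSU n F 2,
    e '' D = (QuotientGroup.mk : ↥(Cfsg.SU n F 2) → Cfsg.PSU n F 2) ''
      {g : ↥(Cfsg.SU n F 2) | (((g : Matrix.SpecialLinearGroup (Fin n) F) : Matrix (Fin n) (Fin n) F) - 1).rank = 1}

/-- Orthogonal group of plus type and dimension `2m` over two elements on its transvections. -/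
def KindOPlus (D : Set G) (m : ℕ) : Prop :=
  ∃ e : G ≃* ↥(Cfsg.isometryGroup (ZMod 2) (Cfsg.quadFormPlus m (ZMod 2))),
    e '' D = {g : ↥(Cfsg.isometryGroup (ZMod 2) (Cfsg.quadFormPlus m (ZMod 2))) |
      (((g : GL (Fin m ⊕ Fin m) (ZMod 2)) : Matrix (Fin m ⊕ Fin m) (Fin m ⊕ Fin m) (ZMod 2)) - 1).rank = 1}

/-- Orthogonal group of minus type and dimension `2m + 2` over two elements on its transvections. -/
def KindOMinus (D : Set G) (m : ℕ) : Prop :=
  ∃ e : G ≃* ↥(Cfsg.isometryGroup (ZMod 2) (Cfsg.quadFormMinus m (ZMod 2) 1 1)),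
    e '' D = {g : ↥(Cfsg.isometryGroup (ZMod 2) (Cfsg.quadFormMinus m (ZMod 2) 1 1)) |
      (((g : GL ((Fin m ⊕ Fin m) ⊕ Fin 2) (ZMod 2)) :
        Matrix ((Fin m ⊕ Fin m) ⊕ Fin 2) ((Fin m ⊕ Fin m) ⊕ Fin 2) (ZMod 2)) - 1).rank = 1}

/-- Projective reflection group over three elements for the form `Q` and the norm `c`. -/
def KindRefl (D : Set G) {n : ℕ} (Q : QuadraticForm (ZMod 3) (Fin n → ZMod 3)) (c : ZMod 3) : Prop :=
  ∃ e : G ≃* ↥(Cfsg.reflectionSubgroup (⇑Q) c) ⧸ Subgroup.center ↥(Cfsg.reflectionSubgroup (⇑Q) c),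
    e '' D = (QuotientGroup.mk : ↥(Cfsg.reflectionSubgroup (⇑Q) c) → _) ''
      {g : ↥(Cfsg.reflectionSubgroup (⇑Q) c) |
        (g : ↥(Cfsg.isometryGroup (ZMod 3) (⇑Q))) ∈ Cfsg.reflectionsOfNorm (⇑Q) c}

/-- The list: every good class is of one of these kinds. -/
def Known (D : Set G) : Prop :=
  (∃ n, 5 ≤ n ∧ KindSym D n) ∨ (∃ m, 3 ≤ m ∧ KindSp D m) ∨ (∃ n, 4 ≤ n ∧ KindPSU D n) ∨
    ((∃ m, 4 ≤ m ∧ KindOPlus D m) ∨ ∃ m, 2 ≤ m ∧ KindOMinus D m) ∨
    (∃ n, 6 ≤ n ∧ ∃ Q : QuadraticForm (ZMod 3) (Fin n → ZMod 3),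
      (QuadraticMap.polarBilin Q).Nondegenerate ∧ ∃ c : ZMod 3, c ≠ 0 ∧ KindRefl D Q c) ∨
    (Cfsg.IsOfTypeM22 G D ∨ Cfsg.IsOfTypeM23 G D ∨ Cfsg.IsOfTypeM24 G D)

end CfsgLib.ThreeTrans.Classif
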