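import Mathlib
import Cfsg.Agent.Lib.ThreeTrans.Classif.Kinds
import Cfsg.Agent.Lib.ThreeTrans.TypeStep
import Cfsg.Agent.Lib.ThreeTrans.FischerTypes
import Cfsg.Agent.Lib.ThreeTrans.FischerHyp
import Cfsg.Agent.Lib.ThreeTrans.InnerTwinsFive
import Cfsg.Agent.Lib.ThreeTrans.OddCore
import Cfsg.Agent.Lib.ThreeTrans.Tower.Local

/-!
The members commuting with one member of a good class: either a small case, or their group modulo
its centre carries a centreless class without cores, in bijection with them.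
-/

set_option autoImplicit false

namespace CfsgLib.ThreeTrans.Classif

open CfsgLib.ThreeTrans
open CfsgLib.ThreeTrans.LocalSymThree (nbr)
open CfsgLib.Sporadic

universe u v

variable {G : Type u} [Group G]

/-- A centreless class of 3-transpositions with trivial cores and a commuting pair. -/
structure Semi {Y : Type v} [Group Y] (E : Set Y) : Prop where
  hE : ClassTwo E
  triv : Subgroup.center Y = ⊥
  two : Cfsg.pCore 2 Y = ⊥
  three : Cfsg.pCore 3 Y = ⊥
  pair : ∃ a ∈ E, ∃ b ∈ E, a ≠ b ∧ Commute a b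

theorem Semi.good {Y : Type v} [Group Y] [Finite Y] {E : Set Y} (S : Semi E)
    (hc : (Cfsg.commutingGraph E).Connected) : Good E := by
  obtain ⟨L, hL⟩ := S.hE.exists_component (S.two ▸ bot_le) (S.three ▸ bot_le)
  exact ⟨⟨S.hE, S.hE.primitive_of_index_le_two (S.two ▸ bot_le) (S.three ▸ bot_le) hL
    (S.hE.index_le_two_of_connected hL hc), S.pair⟩, S.triv⟩

theorem Good.semi [Finite G] {D : Set G} (hG : Good D) : Semi D := by
  obtain ⟨h2, h3⟩ := hG.set.hD.cores_of_primitive hG.set.prim hG.set.pair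
  rw [hG.triv, le_bot_iff] at h2 h3
  exact ⟨hG.set.hD, hG.triv, h2, h3, hG.set.pair⟩

theorem Good.group {D : Set G} (hG : Good D) : Cfsg.IsThreeTranspositionGroup D :=
  ⟨hG.set.hD.closed.set, hG.set.hD.closed.conj, hG.set.hD.gen⟩

theorem Good.noTwins [Finite G] {D : Set G} (hG : Good D) : NoTwins D :=
  noTwins_of_primitive hG.group hG.set.prim hG.set.pair

/-- `f` carries the members commuting with `x` to the class `E`. -/
structure Chart (D : Set G) (x : G) {Y : Type v} [Group Y] (f : G → Y) (E : Set Y) : Prop where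
  mem : x ∈ D
  bij : Set.BijOn f (nbr D x) E
  comm : ∀ a ∈ nbr D x, ∀ b ∈ nbr D x, (Commute (f a) (f b) ↔ Commute a b)
  conj : ∀ a ∈ nbr D x, ∀ b ∈ nbr D x, f (a * b * a) = f a * f b * f a

theorem nbr_closed {D : Set G} (hc : ConjClosed D) {x a b : G} (ha : a ∈ nbr D x)
    (hb : b ∈ nbr D x) : a * b * a ∈ nbr D x := by
  have := InnerTwins.conj_mem_nbr hc ha.2.2.symm hb
  rwa [inv_eq hc.set ha.1] at this

variable [Finite G] {D : Set G}

/-- The class on the members commuting with `x`, inside the group they generate. -/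
theorem classTwo_nbr (hG : Good D) {x : G} (hx : x ∈ D) (htwo : ∃ a ∈ nbr D x, ∃ b ∈ nbr D x, a ≠ b) :
    ClassTwo {e : Hd D x | (e : G) ∈ nbr D x} := by
  have hc := hG.set.hD.closed
  refine ⟨⟨⟨fun e he => ?_, fun d hd e he => ?_⟩, fun g e he => ?_⟩,
    Subgroup.closure_closure_coe_preimage, fun a ha b hb => ?_, ?_⟩
  · rw [← Subgroup.orderOf_coe]; exact hc.set.1 _ he.1
  · exact (hc.set.2 _ hd.1 _ he.1).imp (fun k => Subtype.ext k) (fun k => Subtype.ext k)
  · exact InnerTwins.conj_mem_nbr hc (commute_of_mem_Hd g.2) he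
  · obtain ⟨g, hg, e⟩ := FischerHyp.perp_class hG.set.hD hG.set.prim hG.set.pair hx _ ha _ hb
    exact ⟨⟨g, hg⟩, Subtype.ext e⟩
  · obtain ⟨a, ha, b, hb, hab⟩ := htwo
    exact ⟨⟨a, Subgroup.subset_closure ha⟩, ha, ⟨b, Subgroup.subset_closure hb⟩, hb,
      fun k => hab (congrArg Subtype.val k)⟩

omit [Finite G] in
/-- A central extension of a nilpotent normal subgroup is inside the centre when the Fitting subgroup is. -/
theorem map_le_bot {X Y : Type*} [Group X] [Group Y] (π : X →* Y) (hπ : Function.Surjective π)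
    (hker : π.ker ≤ Subgroup.center X) (hF : Cfsg.fittingSubgroup X ≤ π.ker) (N : Subgroup Y)
    [N.Normal] (hN : Group.IsNilpotent N) : N = ⊥ := by
  have hnil : Group.IsNilpotent (N.comap π) := by
    let f : N.comap π →* N := (π.comp (N.comap π).subtype).codRestrict N fun y => y.2
    refine Subgroup.isNilpotent_of_ker_le_center f fun y hy => ?_
    rw [Subgroup.mem_center_iff]
    intro z
    have : (y : X) ∈ π.ker := congrArg Subtype.val (MonoidHom.mem_ker.1 hy)
    exact Subtype.ext (Subgroup.mem_center_iff.1 (hker this) z)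
  have hle := (CfsgLib.Fitting.le_fitting (N := N.comap π) inferInstance hnil).trans hF
  rw [eq_bot_iff]
  intro n hn
  obtain ⟨y, rfl⟩ := hπ n
  exact Subgroup.mem_bot.2 (hle (show y ∈ N.comap π from hn))

/-- The members commuting with one member: the small case, noncentral 2-core, or a chart. -/
theorem local_cases (hG : Good D) {x : G} (hx : x ∈ D) :
    Nonempty (G ≃* Equiv.Perm (Fin 5)) ∨
      ¬ Cfsg.pCore 2 (Hd D x) ≤ Subgroup.center (Hd D x) ∨
      ∃ (π : Hd D x →* Hd D x ⧸ Subgroup.center (Hd D x)),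
        π = QuotientGroup.mk' (Subgroup.center (Hd D x)) ∧ IsBase D x π ∧ Semi (imgSet D x π) ∧ Chart D x (Tower.phi π) (imgSet D x π) ∧
        Nat.card (Hd D x ⧸ Subgroup.center (Hd D x)) < Nat.card G := by
  classical
  have hc := hG.set.hD.closed
  have hD := hG.set.hD
  by_cases hno : ∀ e ∈ nbr D x, ∀ f ∈ nbr D x, e ≠ f → ¬ Commute e f
  · left
    have hall : ∀ d ∈ D, ∀ e ∈ nbr D d, ∀ f ∈ nbr D d, e ≠ f → ¬ Commute e f := by
      intro d hd e he f hf hne
      obtain ⟨g, rfl⟩ := hD.class_eq x hx d hd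
      rw [InnerTwins.nbr_conj hc] at he hf
      obtain ⟨e', he', rfl⟩ := he
      obtain ⟨f', hf', rfl⟩ := hf
      rw [commute_conj_iff]
      exact hno e' he' f' hf' fun k => hne (k ▸ rfl)
    refine InnerTwins.symFive hG.set hG.triv hall fun d hd => ?_
    by_contra! hone
    -- each member would commute with exactly one other
    obtain ⟨a, ha, b, hb, hab, hcab⟩ := hG.set.pair
    have hsing : ∀ d ∈ D, ∀ e ∈ nbr D d, ∀ f ∈ nbr D d, e = f := by
      intro u hu e he f hf
      obtain ⟨g, rfl⟩ := hD.class_eq d hd u hu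
      rw [InnerTwins.nbr_conj hc] at he hf
      obtain ⟨e', he', rfl⟩ := he
      obtain ⟨f', hf', rfl⟩ := hf
      rw [hone e' he' f' hf']
    have hconn := hD.connected_of_primitive hG.set.prim hG.set.pair
    have hP : ∀ y : D, (y : G) = a ∨ (y : G) = b := by
      intro y
      obtain ⟨w⟩ := hconn.preconnected ⟨a, ha⟩ y
      suffices key : ∀ (u v : D), (Cfsg.commutingGraph D).Walk u v →
          ((u : G) = a ∨ (u : G) = b) → ((v : G) = a ∨ (v : G) = b) from key _ _ w (Or.inl rfl)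
      intro u v w
      induction w with
      | nil => exact id
      | @cons p q r hadj _ ih =>
        intro hp
        refine ih ?_
        rw [Cfsg.commutingGraph, SimpleGraph.fromRel_adj] at hadj
        have hq : (q : G) ∈ nbr D (p : G) :=
          ⟨q.2, fun k => hadj.1 (Subtype.ext k).symm, hadj.2.elim id Commute.symm⟩
        rcases hp with hp | hp
        · rw [hp] at hq
          exact Or.inr (hsing a ha _ hq b ⟨hb, hab.symm, hcab⟩)
        · rw [hp] at hq
          exact Or.inl (hsing b hb _ hq a ⟨ha, hab, hcab.symm⟩)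
    obtain ⟨c, hcD, hnc⟩ := exists_not_commute hD.gen hc hD.class_eq hD.two ha
    rcases hP ⟨c, hcD⟩ with h | h
    · exact hnc (by rw [show c = a from h])
    · exact hnc (by rw [show c = b from h]; exact hcab)
  push Not at hno
  obtain ⟨e₀, he₀, f₀, hf₀, hne₀, hef₀⟩ := hno
  right
  by_cases h2 : Cfsg.pCore 2 (Hd D x) ≤ Subgroup.center (Hd D x)
  swap
  · exact Or.inl h2
  right
  set EH : Set (Hd D x) := {e | (e : G) ∈ nbr D x} with hEH
  have hCE : ClassTwo EH := classTwo_nbr hG hx ⟨e₀, he₀, f₀, hf₀, hne₀⟩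
  have h3 : Cfsg.pCore 3 (Hd D x) ≤ Subgroup.center (Hd D x) := by
    by_contra h
    obtain ⟨y, hy, -⟩ := hCE.two
    obtain ⟨w, hyw, hwy⟩ := hCE.exists_wRel_ne h hy
    have hT : InnerTwins.Tw D x (y : G) (w : G) :=
      ⟨(InnerTwins.wRel_coe_iff (fun e he => Subgroup.subset_closure he) y w).1 hyw,
        fun k => hwy (Subtype.ext k).symm⟩
    exact InnerTwins.nbr_noncomm hG.set hx hT x hx e₀ he₀ f₀ hf₀ hne₀ hef₀
  set π := QuotientGroup.mk' (Subgroup.center (Hd D x)) with hπ
  have hB : IsBase D x π := ⟨hG.group, hx, QuotientGroup.mk'_surjective _, fun y => by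
    rw [hπ, QuotientGroup.mk'_apply, QuotientGroup.eq_one_iff]⟩
  have hNT := hG.noTwins
  have hker : π.ker = Subgroup.center (Hd D x) := QuotientGroup.ker_mk' _
  have hF : Cfsg.fittingSubgroup (Hd D x) ≤ π.ker := by
    rw [hker, hCE.fitting_eq_center h2 h3]
  have hcen : Subgroup.center (Hd D x ⧸ Subgroup.center (Hd D x)) = ⊥ := by
    refine map_le_bot π hB.surj hker.le hF _ ?_
    exact @CommGroup.isNilpotent _ { (inferInstance : Group (Subgroup.center
      (Hd D x ⧸ Subgroup.center (Hd D x)))) with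
      mul_comm := fun a b => Subtype.ext (Subgroup.mem_center_iff.1 b.2 a.1) }
  have hcore : ∀ p, p.Prime → Cfsg.pCore p (Hd D x ⧸ Subgroup.center (Hd D x)) = ⊥ := fun p hp => by
    haveI := Fact.mk hp
    haveI : (Cfsg.pCore p (Hd D x ⧸ Subgroup.center (Hd D x))).Normal := Cfsg.pCore_normal p _
    exact map_le_bot π hB.surj hker.le hF _
      (CfsgLib.PCore.pCore_isPGroup (p := p)).isNilpotent
  have hphi : ∀ e (he : e ∈ nbr D x), Tower.phi π e = π ⟨e, Subgroup.subset_closure he⟩ :=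
    fun e he => Tower.phi_of_mem π (x := ⟨e, Subgroup.subset_closure he⟩) he
  have hcls := hG.set.prim.1
  have hinj : Set.InjOn (Tower.phi π) (nbr D x) := fun a ha b hb h => by
    rw [hphi a ha, hphi b hb] at h
    exact congrArg Subtype.val (hB.img_injective hcls hNT (x := ⟨a, Subgroup.subset_closure ha⟩)
      (y := ⟨b, Subgroup.subset_closure hb⟩) ha hb h)
  refine ⟨π, hπ, hB, ⟨⟨conjClosed_of_group hB.img_group, hB.img_gen, ?_, ?_⟩, hcen,
    hcore 2 Nat.prime_two, hcore 3 Nat.prime_three, ?_⟩, ⟨hx, ⟨?_, hinj, ?_⟩, ?_, ?_⟩, ?_⟩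
  · rintro _ ⟨-, a, ha, rfl⟩ _ ⟨-, b, hb, rfl⟩
    obtain ⟨g, hg, e⟩ := FischerHyp.perp_class hD hG.set.prim hG.set.pair hx _ ha _ hb
    exact ⟨π ⟨g, hg⟩, by rw [← map_inv, ← map_mul, ← map_mul]; exact congrArg π (Subtype.ext e)⟩
  · refine ⟨_, hB.img_mem hcls hNT (x := ⟨e₀, Subgroup.subset_closure he₀⟩) he₀, _,
      hB.img_mem hcls hNT (x := ⟨f₀, Subgroup.subset_closure hf₀⟩) hf₀, fun h => hne₀ ?_⟩
    exact congrArg Subtype.val (hB.img_injective hcls hNT (x := ⟨e₀, Subgroup.subset_closure he₀⟩)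
      (y := ⟨f₀, Subgroup.subset_closure hf₀⟩) he₀ hf₀ h)
  · refine ⟨_, hB.img_mem hcls hNT (x := ⟨e₀, Subgroup.subset_closure he₀⟩) he₀, _,
      hB.img_mem hcls hNT (x := ⟨f₀, Subgroup.subset_closure hf₀⟩) hf₀, fun h => hne₀ ?_,
      Commute.map (show Commute (⟨e₀, _⟩ : Hd D x) ⟨f₀, _⟩ from Subtype.ext hef₀) π⟩
    exact congrArg Subtype.val (hB.img_injective hcls hNT (x := ⟨e₀, Subgroup.subset_closure he₀⟩)
      (y := ⟨f₀, Subgroup.subset_closure hf₀⟩) he₀ hf₀ h)
  · intro e he
    rw [hphi e he]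
    exact hB.img_mem hcls hNT he
  · rintro _ ⟨-, y, hy, rfl⟩
    exact ⟨y, hy, hphi _ hy⟩
  · intro a ha b hb
    rw [hphi a ha, hphi b hb]
    exact hB.commute_img (x := ⟨a, Subgroup.subset_closure ha⟩)
      (y := ⟨b, Subgroup.subset_closure hb⟩) ha hb
  · intro a ha b hb
    rw [hphi a ha, hphi b hb, hphi _ (nbr_closed hc ha hb), ← map_mul, ← map_mul]
    rfl
  · refine lt_of_le_of_lt (Nat.card_le_card_of_surjective π hB.surj) ?_
    have hne : (Hd D x : Subgroup G) ≠ ⊤ := by
      intro htop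
      refine ne_one hc.set hx (Subgroup.mem_bot.1 (hG.triv ▸ mem_center_of_commute hD.gen fun d hd => ?_))
      exact (commute_of_mem_Hd (htop ▸ Subgroup.mem_top d)).symm
    exact lt_of_le_of_ne (Subgroup.card_le_card_group _) fun h => hne (Subgroup.eq_top_of_card_eq _ h)

end CfsgLib.ThreeTrans.Classif
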