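import Mathlib
import Cfsg.Agent.Lib.ThreeTrans.Classif.Local

/-! The parameters of the commuting graph of a good class and of its class one level down. -/

set_option autoImplicit false

namespace CfsgLib.ThreeTrans.Classif

open CfsgLib.ThreeTrans
open CfsgLib.ThreeTrans.LocalSymThree (nbr)
open CfsgLib.Sporadic

universe u v

variable {G : Type u} [Group G] [Finite G] {D : Set G}

theorem Params.unique {n k l m n' k' l' m' : ℕ} (hG : Good D) (P : Params D n k l m)
    (P' : Params D n' k' l' m') : n = n' ∧ k = k' ∧ l = l' ∧ m = m' := by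
  obtain ⟨a, ha, b, hb, hne, hab⟩ := hG.set.pair
  obtain ⟨c, hc, hac⟩ := exists_not_commute hG.set.hD.gen hG.set.hD.closed hG.set.hD.class_eq
    hG.set.hD.two ha
  exact ⟨P.card.symm.trans P'.card, (P.deg a ha).symm.trans (P'.deg a ha),
    (P.lam a ha b ⟨hb, hne.symm, hab⟩).symm.trans (P'.lam a ha b ⟨hb, hne.symm, hab⟩),
    (P.mu a ha c hc hac).symm.trans (P'.mu a ha c hc hac)⟩

/-- A good class has parameters, with `0 < m < k`. -/
theorem exists_params (hG : Good D) : ∃ n k l m, Params D n k l m ∧ 0 < m ∧ m < k := by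
  classical
  have hc := hG.set.hD.closed
  have hinj : ∀ g : G, Function.Injective fun y : G => g * y * g⁻¹ :=
    fun g a b h => mul_left_cancel (mul_right_cancel h)
  obtain ⟨a, ha, b, hb, hne, hab⟩ := hG.set.pair
  obtain ⟨c, hcD, hac⟩ := exists_not_commute hG.set.hD.gen hc hG.set.hD.class_eq hG.set.hD.two ha
  have hb' : b ∈ nbr D a := ⟨hb, hne.symm, hab⟩
  have hmu : ∀ u ∈ D, ∀ w ∈ D, ¬ Commute u w →
      (nbr D u ∩ nbr D w).ncard = (nbr D a ∩ nbr D c).ncard := by
    intro u hu w hw h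
    obtain ⟨g, rfl, rfl⟩ := hG.set.pairConj_far ha hcD hu hw hac h
    rw [InnerTwins.nbr_conj hc, InnerTwins.nbr_conj hc, ← Set.image_inter (hinj g),
      Set.ncard_image_of_injective _ (hinj g)]
  refine ⟨D.ncard, (nbr D a).ncard, (nbr D a ∩ nbr D b).ncard, (nbr D a ∩ nbr D c).ncard,
    ⟨rfl, fun u hu => ?_, fun u hu w hw => ?_, hmu⟩, ?_, ?_⟩
  · obtain ⟨g, rfl⟩ := hG.set.hD.class_eq a ha u hu
    rw [InnerTwins.nbr_conj hc, Set.ncard_image_of_injective _ (hinj g)]
  · obtain ⟨g, rfl, rfl⟩ := hG.set.pairConj_perp ha hb' hu hw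
    rw [InnerTwins.nbr_conj hc, InnerTwins.nbr_conj hc, ← Set.image_inter (hinj g),
      Set.ncard_image_of_injective _ (hinj g)]
  · obtain ⟨z, hz, hza, haz, hcz⟩ :=
      RankThree.exists_common hG.set.hD hG.set.prim hG.set.pair ha hcD hac
    exact (Set.ncard_pos (Set.toFinite _)).2
      ⟨z, ⟨hz, hza, haz⟩, hz, fun h => hac (by rwa [h] at haz), hcz⟩
  · refine lt_of_le_of_ne (Set.ncard_le_ncard Set.inter_subset_left (Set.toFinite _)) fun h => ?_
    have h1 : nbr D a ∩ nbr D c = nbr D a :=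
      Set.eq_of_subset_of_ncard_le Set.inter_subset_left h.ge (Set.toFinite _)
    have h2 : nbr D a ∩ nbr D c = nbr D c := by
      refine Set.eq_of_subset_of_ncard_le Set.inter_subset_right ?_ (Set.toFinite _)
      obtain ⟨g, hg⟩ := hG.set.hD.class_eq a ha c hcD
      rw [h1, ← hg, InnerTwins.nbr_conj hc, Set.ncard_image_of_injective _ (hinj g)]
    have hW : WRel D a c := ⟨ha, hcD, h1.symm.trans h2⟩
    obtain ⟨-, h3⟩ := hG.set.hD.cores_of_primitive hG.set.prim hG.set.pair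
    exact hac (hG.set.hD.wRel_eq_self h3 hW ▸ Commute.refl a)

variable {Y : Type v} [Group Y] {E : Set Y} {f : G → Y} {x : G}

omit [Finite G] in
theorem Chart.inj (C : Chart D x f E) {a b : G} (ha : a ∈ nbr D x) (hb : b ∈ nbr D x) :
    f a = f b ↔ a = b :=
  ⟨fun h => C.bij.injOn ha hb h, fun h => h ▸ rfl⟩

omit [Finite G] in
theorem Chart.image_nbr (C : Chart D x f E) {a : G} (ha : a ∈ nbr D x) :
    f '' (nbr D x ∩ nbr D a) = nbr E (f a) := by
  ext e
  constructor
  · rintro ⟨y, ⟨hy, hya⟩, rfl⟩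
    exact ⟨C.bij.mapsTo hy, fun h => hya.2.1 ((C.inj hy ha).1 h), (C.comm a ha y hy).2 hya.2.2⟩
  · rintro ⟨he, hne, hcomm⟩
    obtain ⟨y, hy, rfl⟩ := C.bij.surjOn he
    exact ⟨y, ⟨hy, hy.1, fun h => hne (h ▸ rfl), (C.comm a ha y hy).1 hcomm⟩, rfl⟩

omit [Finite G] in
theorem Chart.ncard_inter (C : Chart D x f E) {a : G} (ha : a ∈ nbr D x) :
    (nbr D x ∩ nbr D a).ncard = (nbr E (f a)).ncard := by
  rw [← C.image_nbr ha, Set.InjOn.ncard_image (C.bij.injOn.mono Set.inter_subset_left)]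

omit [Finite G] in
theorem Chart.ncard_eq (C : Chart D x f E) : (nbr D x).ncard = E.ncard := by
  rw [← C.bij.image_eq, Set.InjOn.ncard_image C.bij.injOn]

/-- The degree of a good class is the size of the class one level down, and the next one its degree. -/
theorem Params.of_chart (hG : Good D) {n k l m k' : ℕ} (P : Params D n k l m) (C : Chart D x f E)
    (hdeg : ∀ e ∈ E, (nbr E e).ncard = k') : k = E.ncard ∧ l = k' := by
  obtain ⟨a, ha, b, hb, hne, hab⟩ := hG.set.pair
  have h1 : k = E.ncard := (P.deg x C.mem).symm.trans C.ncard_eq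
  refine ⟨h1, ?_⟩
  have hk : 0 < (nbr D x).ncard := by
    rw [P.deg x C.mem, ← P.deg a ha]
    exact (Set.ncard_pos (Set.toFinite _)).2 ⟨b, hb, hne.symm, hab⟩
  obtain ⟨y, hy⟩ := (Set.ncard_pos (Set.toFinite _)).1 hk
  rw [← P.lam x C.mem y hy, C.ncard_inter hy, hdeg _ (C.bij.mapsTo hy)]

end CfsgLib.ThreeTrans.Classif
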