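import Mathlib
import Cfsg.Agent.Lib.ThreeTrans.Classif.Local

/-!
A 3-transposition class in which the third member of a line is the sum of the other two as far as
commuting goes is described by vectors over two elements, as soon as this is so on a generating set.
-/

set_option autoImplicit false

namespace CfsgLib.ThreeTrans.Classif

open CfsgLib.ThreeTrans
open CfsgLib.ThreeTrans.LocalSymThree (nbr)

universe u v

variable {G : Type u} [Group G]

open Classical in
/-- `1` when the two elements do not commute, `0` otherwise. -/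
noncomputable def row (a b : G) : ZMod 2 := if Commute a b then 0 else 1

theorem row_eq_zero {a b : G} : row a b = 0 ↔ Commute a b := by
  unfold row; split <;> simp_all

theorem row_eq_one {a b : G} : row a b = 1 ↔ ¬ Commute a b := by
  unfold row; split <;> simp_all

theorem row_comm (a b : G) : row a b = row b a := by
  by_cases h : Commute a b
  · rw [row_eq_zero.2 h, row_eq_zero.2 h.symm]
  · rw [row_eq_one.2 h, row_eq_one.2 fun k => h k.symm]

theorem row_self (a : G) : row a a = 0 := row_eq_zero.2 (Commute.refl a)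

/-- Commuting is additive along lines: there is no affine plane. -/
def Additive (D : Set G) : Prop :=
  ∀ a ∈ D, ∀ c ∈ D, ∀ x ∈ D, ¬ Commute a c → row x (a * c * a) = row x a + row x c

variable [Finite G] {D : Set G}

/-- A property of members kept under conjugation by a generating set of members holds for all. -/
theorem closed_all (hD : ClassTwo D) {T : Set G} (hTD : T ⊆ D) (hne : T.Nonempty)
    (hT : Subgroup.closure T = ⊤) (P : G → Prop) (h0 : ∀ t ∈ T, P t)
    (hstep : ∀ t ∈ T, ∀ y ∈ D, P y → P (t * y * t)) : ∀ x ∈ D, P x := by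
  have hinv : ∀ g : G, ∀ y ∈ {y | y ∈ D ∧ P y}, g * y * g⁻¹ ∈ {y | y ∈ D ∧ P y} := fun g =>
    CfsgLib.Sporadic.RankThree.closure_preserves (S := T) (P := {y | y ∈ D ∧ P y}) (fun t ht y hy =>
      ⟨hD.closed.conj t y hy.1, by rw [inv_eq hD.closed.set (hTD ht)]; exact hstep t ht y hy.1 hy.2⟩)
      (hT ▸ Subgroup.mem_top g)
  intro x hx
  obtain ⟨t, ht⟩ := hne
  obtain ⟨g, rfl⟩ := hD.class_eq t (hTD ht) x hx
  exact (hinv g t ⟨hTD ht, h0 t ht⟩).2

variable {V : Type v} [AddCommGroup V] [Module (ZMod 2) V]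

/-- Vectors on a generating set extend to all members. -/
theorem exists_vectors (hD : ClassTwo D) (hA : Additive D) {T : Set G} (hTD : T ⊆ D)
    (hne : T.Nonempty) (hT : Subgroup.closure T = ⊤)
    (B : V →ₗ[ZMod 2] V →ₗ[ZMod 2] ZMod 2) (hBs : ∀ u w, B u w = B w u)
    (P : V → Prop) (hP : ∀ u w, P u → P w → B u w = 1 → P (u + w))
    (φ₀ : G → V) (hP₀ : ∀ t ∈ T, P (φ₀ t)) (h0 : ∀ s ∈ T, ∀ t ∈ T, B (φ₀ s) (φ₀ t) = row s t)
    (huniq : ∀ u w, P u → P w → (∀ t ∈ T, B u (φ₀ t) = B w (φ₀ t)) → u = w) :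
    ∃ φ : G → V, (∀ t ∈ T, φ t = φ₀ t) ∧ (∀ x ∈ D, P (φ x)) ∧
      (∀ x ∈ D, ∀ y ∈ D, B (φ x) (φ y) = row x y) ∧
      (∀ a ∈ D, ∀ b ∈ D, φ (a * b * a) = φ b + row a b • φ a) ∧
      (NoTwins D → Set.InjOn φ D) := by
  classical
  have hc := hD.closed
  have hcase : ∀ a ∈ D, ∀ b ∈ D, ∀ x ∈ D, row x (a * b * a) = row x b + row a b * row x a := by
    intro a ha b hb x hx
    by_cases h : Commute a b
    · rw [h.eq, mul_assoc, mul_self hc.set ha, mul_one, row_eq_zero.2 h, zero_mul, add_zero]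
    · rw [hA a ha b hb x hx h, row_eq_one.2 h, one_mul, add_comm]
  have hadd : ∀ a b : ZMod 2, ∀ u w : V, P u → P w → B u w = a → b = a → P (w + b • u) := by
    intro a b u w hu hw hB hb
    subst hb
    rcases (show ∀ z : ZMod 2, z = 0 ∨ z = 1 by decide) b with rfl | rfl
    · rwa [zero_smul, add_zero]
    · rw [one_smul]
      exact hP w u hw hu ((hBs _ _).trans hB)
  have hex : ∀ x ∈ D, ∃ u, P u ∧ ∀ t ∈ T, B u (φ₀ t) = row x t := by
    refine closed_all hD hTD hne hT _ (fun t ht => ⟨φ₀ t, hP₀ t ht, h0 t ht⟩) ?_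
    rintro s hs y hy ⟨u, hu, hut⟩
    refine ⟨u + row s y • φ₀ s, hadd _ _ _ _ (hP₀ s hs) hu ((hBs _ _).trans (hut s hs))
      (row_comm s y), fun t ht => ?_⟩
    rw [map_add, LinearMap.add_apply, map_smul, LinearMap.smul_apply, hut t ht, h0 s hs t ht,
      smul_eq_mul, row_comm (s * y * s) t, hcase s (hTD hs) y hy t (hTD ht), row_comm t y,
      row_comm t s]
  choose! φ hφP hφT using hex
  have hφ0 : ∀ t ∈ T, φ t = φ₀ t := fun t ht => huniq _ _ (hφP t (hTD ht)) (hP₀ t ht) fun s hs => by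
    rw [hφT t (hTD ht) s hs, h0 t ht s hs]
  have hstep : ∀ s ∈ T, ∀ y ∈ D, φ (s * y * s) = φ y + row s y • φ s := by
    intro s hs y hy
    have hm := conj_mem_left hc (hTD hs) hy
    refine huniq _ _ (hφP _ hm) (hadd _ _ _ _ (hφP s (hTD hs)) (hφP y hy)
      ((hBs _ _).trans (by rw [hφ0 s hs]; exact hφT y hy s hs)) (row_comm s y)) fun t ht => ?_
    rw [hφT _ hm t ht, map_add, LinearMap.add_apply, map_smul, LinearMap.smul_apply,
      hφT y hy t ht, hφ0 s hs, h0 s hs t ht, smul_eq_mul, row_comm (s * y * s) t,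
      hcase s (hTD hs) y hy t (hTD ht), row_comm t y, row_comm t s]
  have hB : ∀ y ∈ D, ∀ x ∈ D, B (φ x) (φ y) = row x y := by
    refine closed_all hD hTD hne hT _ (fun t ht x hx => by rw [hφ0 t ht, hφT x hx t ht]) ?_
    intro s hs y hy ih x hx
    rw [hstep s hs y hy, map_add, map_smul, ih x hx, hφ0 s hs, hφT x hx s hs, smul_eq_mul,
      hcase s (hTD hs) y hy x hx]
  refine ⟨φ, hφ0, hφP, fun x hx y hy => hB y hy x hx, fun a ha b hb => ?_, fun hNT a ha b hb h => ?_⟩
  · have hm := conj_mem_left hc ha hb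
    refine huniq _ _ (hφP _ hm) (hadd _ _ _ _ (hφP a ha) (hφP b hb) (hB b hb a ha) rfl)
      fun t ht => ?_
    rw [hφT _ hm t ht, map_add, LinearMap.add_apply, map_smul, LinearMap.smul_apply,
      hφT b hb t ht, hφT a ha t ht, smul_eq_mul, row_comm (a * b * a) t,
      hcase a ha b hb t (hTD ht), row_comm t b, row_comm t a]
  · refine hNT a ha b hb fun y hy => ?_
    rw [← row_eq_zero, ← row_eq_zero, ← hB y hy a ha, ← hB y hy b hb, h]

end CfsgLib.ThreeTrans.Classif
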