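import Mathlib
import Cfsg.Agent.Lib.ThreeTrans.Classif.Params
import Cfsg.Agent.Lib.ThreeTrans.Classif.RowExtend

/-!
The relation between the parameters of a good class, and the criterion for commuting to be additive
along lines; the members generating the group.
-/

set_option autoImplicit false

namespace CfsgLib.ThreeTrans.Classif

open CfsgLib.ThreeTrans
open CfsgLib.ThreeTrans.LocalSymThree (nbr nbr_symm)

universe u

variable {G : Type u} [Group G] [Finite G] {D : Set G}

/-- The members not commuting with `d`. -/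
def far (D : Set G) (d : G) : Set G := {y | y ∈ D ∧ ¬ Commute d y}

omit [Finite G] in
theorem split_at {d : G} (hd : d ∈ D) : D = {d} ∪ nbr D d ∪ far D d := by
  ext y
  constructor
  · intro hy
    by_cases h : Commute d y
    · by_cases e : y = d
      · exact Or.inl (Or.inl e)
      · exact Or.inl (Or.inr ⟨hy, e, h⟩)
    · exact Or.inr ⟨hy, h⟩
  · rintro ((rfl | h) | h)
    exacts [hd, h.1, h.1]

theorem Params.card_far {n k l m : ℕ} (P : Params D n k l m) {d : G} (hd : d ∈ D) :
    n = 1 + k + (far D d).ncard := by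
  have h := congrArg Set.ncard (split_at (D := D) hd)
  rw [P.card, Set.ncard_union_eq, Set.ncard_union_eq, Set.ncard_singleton, P.deg d hd] at h
  · exact h
  · rw [Set.disjoint_singleton_left]; exact fun h' => h'.2.1 rfl
  · rw [Set.disjoint_union_left, Set.disjoint_singleton_left]
    exact ⟨fun h' => h'.2 (Commute.refl d), Set.disjoint_left.2 fun y h1 h2 => h2.2 h1.2.2⟩

/-- Edges between the members commuting with `d` and the others, counted from both sides. -/
theorem Params.mul_far {n k l m : ℕ} (P : Params D n k l m) {d : G} (hd : d ∈ D) :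
    (far D d).ncard * m = k * (k - 1 - l) := by
  classical
  haveI : Fintype G := Fintype.ofFinite G
  set A := (nbr D d).toFinset with hA
  set F := (far D d).toFinset with hF
  have hout : ∀ a ∈ A, (F.filter fun y => Commute a y).card = k - 1 - l := by
    intro a ha
    rw [hA, Set.mem_toFinset] at ha
    rw [← Set.ncard_coe_finset]
    have e : ((F.filter fun y => Commute a y : Finset G) : Set G) =
        nbr D a \ ({d} ∪ (nbr D d ∩ nbr D a)) := by
      ext y
      simp only [Finset.coe_filter, hF, Set.mem_toFinset, Set.mem_ofPred_eq, Set.mem_diff,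
        Set.mem_union, Set.mem_singleton_iff, Set.mem_inter_iff]
      constructor
      · rintro ⟨⟨hy, hdy⟩, hay⟩
        refine ⟨⟨hy, fun e => hdy (e ▸ ha.2.2), hay⟩, ?_⟩
        rintro (rfl | ⟨h, -⟩)
        exacts [hdy (Commute.refl _), hdy h.2.2]
      · rintro ⟨⟨hy, hya, hay⟩, hno⟩
        refine ⟨⟨hy, fun hdy => hno (Or.inr ⟨⟨hy, fun e => hno (Or.inl e), hdy⟩, hy, hya, hay⟩)⟩, hay⟩
    rw [e, Set.ncard_diff ?_ (Set.toFinite _), Set.ncard_union_eq, Set.ncard_singleton,
      P.lam d hd a ha, P.deg a ha.1]
    · omega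
    · rw [Set.disjoint_singleton_left]; exact fun h' => h'.1.2.1 rfl
    · rintro y (rfl | h)
      exacts [nbr_symm hd ha, h.2]
  have hin : ∀ y ∈ F, (A.filter fun a => Commute a y).card = m := by
    intro y hy
    rw [hF, Set.mem_toFinset] at hy
    rw [← Set.ncard_coe_finset, ← P.mu d hd y hy.1 hy.2]
    congr 1
    ext a
    simp only [Finset.coe_filter, hA, Set.mem_toFinset, Set.mem_ofPred_eq, Set.mem_inter_iff]
    refine ⟨fun ⟨h1, h2⟩ => ⟨h1, h1.1, fun e => hy.2 (e ▸ h1.2.2), h2.symm⟩, fun ⟨h1, h2⟩ =>
      ⟨h1, h2.2.2.symm⟩⟩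
  have h := Finset.sum_card_bipartiteAbove_eq_sum_card_bipartiteBelow (fun a y : G => Commute a y)
    (s := A) (t := F)
  simp only [Finset.bipartiteAbove, Finset.bipartiteBelow] at h
  rw [Finset.sum_congr rfl hout, Finset.sum_congr rfl hin, Finset.sum_const, Finset.sum_const,
    smul_eq_mul, smul_eq_mul, hA, hF, ← Set.ncard_eq_toFinset_card', ← Set.ncard_eq_toFinset_card',
    P.deg d hd] at h
  exact h.symm

/-- Commuting with two members of a line means commuting with the third. -/
theorem commute_third {a c x : G} (h1 : Commute x a) (h2 : Commute x c) : Commute x (a * c * a) :=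
  (h1.mul_right h2).mul_right h1

/-- Commuting is additive as soon as every member commutes with a member of each line. -/
theorem additive_of_params (hG : Good D) {n k l m : ℕ} (P : Params D n k l m)
    (hn : n + 2 * m = 3 + 3 * k) : Additive D := by
  have hc := hG.set.hD.closed
  have hs := hc.set
  intro a ha c hcD x hx hac
  set z := a * c * a with hz
  have hzD : z ∈ D := conj_mem_left hc ha hcD
  have haz : ¬ Commute a z := fun h => hac (by
    have := (commute_conj_iff a a z).2 h
    rwa [mul_inv_cancel_right, inv_eq hs ha, hz,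
      show a * (a * c * a) * a = c by simp [mul_assoc, mul_self hs ha, mul_self_mul hs ha]] at this)
  have hcz : ¬ Commute c z := fun h => hac (by
    have e : z = c * a * c := braid hs ha hcD hac
    rw [e] at h
    have := (commute_conj_iff c c (c * a * c)).2 h
    rwa [mul_inv_cancel_right, inv_eq hs hcD,
      show c * (c * a * c) * c = a by simp [mul_assoc, mul_self hs hcD, mul_self_mul hs hcD],
      Commute.symm_iff] at this)
  have hback : a * z * a = c := by simp [hz, mul_assoc, mul_self hs ha, mul_self_mul hs ha]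
  have hback' : c * z * c = a := by
    rw [braid hs ha hcD hac] at hz
    simp [hz, mul_assoc, mul_self hs hcD, mul_self_mul hs hcD]
  -- commuting with any two gives the third
  have t1 : Commute x a → Commute x c → Commute x z := fun h1 h2 => commute_third h1 h2
  have t2 : Commute x a → Commute x z → Commute x c := fun h1 h2 => hback ▸ commute_third h1 h2
  have t3 : Commute x c → Commute x z → Commute x a := fun h1 h2 => hback' ▸ commute_third h1 h2
  have hsome : Commute x a ∨ Commute x c ∨ Commute x z := by
    by_contra! hno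
    obtain ⟨hxa, hxc, hxz⟩ := hno
    set A := nbr D a
    set C := nbr D c
    set Z := nbr D z
    have hAC : (A ∩ C).ncard = m := P.mu a ha c hcD hac
    have hsub : A ∩ C ⊆ Z := fun y hy =>
      ⟨hy.1.1, fun e => haz (e ▸ hy.1.2.2), (commute_third hy.1.2.2.symm hy.2.2.2.symm).symm⟩
    have hAZ : A ∩ Z = A ∩ C := by
      refine (Set.eq_of_subset_of_ncard_le
        (show A ∩ C ⊆ A ∩ Z from fun y hy => ⟨hy.1, hsub hy⟩) ?_ (Set.toFinite _)).symm
      rw [P.mu a ha z hzD haz, hAC]
    have hCZ : C ∩ Z = A ∩ C := by
      refine (Set.eq_of_subset_of_ncard_le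
        (show A ∩ C ⊆ C ∩ Z from fun y hy => ⟨hy.2, hsub hy⟩) ?_ (Set.toFinite _)).symm
      rw [P.mu c hcD z hzD hcz, hAC]
    have hu : ((A ∪ C) ∪ Z).ncard + 2 * m = 3 * k := by
      have h1 := Set.ncard_union_add_ncard_inter A C
      have h2 := Set.ncard_union_add_ncard_inter (A ∪ C) Z
      rw [Set.union_inter_distrib_right, hAZ, hCZ, Set.union_self] at h2
      rw [P.deg a ha, P.deg c hcD] at h1
      rw [P.deg z hzD] at h2
      omega
    have hL : ({a, c, z} : Set G).ncard = 3 := by
      rw [Set.ncard_eq_three]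
      exact ⟨a, c, z, fun e => hac (e ▸ Commute.refl a), fun e => haz (e ▸ Commute.refl a),
        fun e => hcz (e ▸ Commute.refl c), rfl⟩
    have hdisj : Disjoint ((A ∪ C) ∪ Z) ({a, c, z} : Set G) := by
      refine Set.disjoint_left.2 fun y hy hy' => ?_
      rcases hy' with rfl | rfl | rfl
      · rcases hy with (h | h) | h
        exacts [h.2.1 rfl, hac h.2.2.symm, haz h.2.2.symm]
      · rcases hy with (h | h) | h
        exacts [hac h.2.2, h.2.1 rfl, hcz h.2.2.symm]
      · rcases hy with (h | h) | h
        exacts [haz h.2.2, hcz h.2.2, h.2.1 rfl]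
    have hall : ((A ∪ C) ∪ Z) ∪ {a, c, z} = D := by
      refine Set.eq_of_subset_of_ncard_le ?_ ?_ (Set.toFinite _)
      · rintro y (((h | h) | h) | (rfl | rfl | rfl))
        exacts [h.1, h.1, h.1, ha, hcD, hzD]
      · rw [Set.ncard_union_eq hdisj, hL, P.card]; omega
    rw [← hall] at hx
    rcases hx with ((h | h) | h) | (rfl | rfl | rfl)
    exacts [hxa h.2.2.symm, hxc h.2.2.symm, hxz h.2.2.symm, hxa (Commute.refl _),
      hxc (Commute.refl _), hxz (Commute.refl _)]
  unfold row
  split_ifs with h1 h2 h3 h2 h3 <;> first | rfl | decide | (exfalso; tauto)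

/-- A member, the others commuting with it and one further member generate. -/
theorem closure_base (hG : Good D) {d c : G} (hd : d ∈ D) (hc : c ∈ D) (hdc : ¬ Commute d c) :
    Subgroup.closure (insert c (insert d (nbr D d))) = ⊤ := by
  obtain ⟨-, hmax⟩ := hG.set.hD.dSubgroup_maximal hG.set.prim hG.set.pair hd
  set T := insert c (insert d (nbr D d)) with hT
  have hTD : T ⊆ D := Set.insert_subset hc (Set.insert_subset hd fun y hy => hy.1)
  have hsub : {y : G | y ∈ D ∧ Commute d y} ⊆ T := fun y hy => by
    by_cases e : y = d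
    · exact Or.inr (Or.inl e)
    · exact Or.inr (Or.inr ⟨hy.1, e, hy.2⟩)
  have hDS : Cfsg.IsDSubgroup D (Subgroup.closure T) :=
    le_antisymm ((Subgroup.closure_le _).2 fun y hy => hy.2)
      (Subgroup.closure_mono fun y hy => ⟨hTD hy, Subgroup.subset_closure hy⟩)
  refine (hmax _ hDS (Subgroup.closure_mono hsub)).resolve_left fun h => hdc ?_
  have : c ∈ Subgroup.closure {y : G | y ∈ D ∧ Commute d y} :=
    h ▸ Subgroup.subset_closure (Or.inl rfl)
  exact (CfsgLib.Sporadic.RankThree.commute_of_mem_closure_cD this).symm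

end CfsgLib.ThreeTrans.Classif
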