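import Mathlib
import Cfsg.Agent.Lib.ThreeTrans.Classif.Kinds

/-!
Point models for the classes met one level down: a bijection of the class with the points of a
classical space under which commuting and conjugation are the visible ones.
-/

set_option autoImplicit false

namespace CfsgLib.ThreeTrans.Classif

universe v w

variable {Y : Type v} [Group Y]

/-- The non-zero vectors of a symplectic space over two elements. -/
structure SympPts (E : Set Y) {W : Type w} [AddCommGroup W] [Module (ZMod 2) W]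
    (B : W →ₗ[ZMod 2] W →ₗ[ZMod 2] ZMod 2) (ψ : Y → W) : Prop where
  alt : ∀ u, B u u = 0
  sep : ∀ u, (∀ z, B u z = 0) → u = 0
  bij : Set.BijOn ψ E {z | z ≠ 0}
  comm : ∀ a ∈ E, ∀ b ∈ E, (Commute a b ↔ B (ψ a) (ψ b) = 0)
  conj : ∀ a ∈ E, ∀ b ∈ E, ψ (a * b * a) = ψ b + B (ψ a) (ψ b) • ψ a

/-- The non-singular vectors of a quadratic space over two elements. -/
structure OrthPts (E : Set Y) {W : Type w} [AddCommGroup W] [Module (ZMod 2) W]
    (Q : QuadraticForm (ZMod 2) W) (ψ : Y → W) : Prop where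
  sep : ∀ u, (∀ z, QuadraticMap.polar Q u z = 0) → u = 0
  bij : Set.BijOn ψ E {z | Q z = 1}
  comm : ∀ a ∈ E, ∀ b ∈ E, (Commute a b ↔ QuadraticMap.polar Q (ψ a) (ψ b) = 0)
  conj : ∀ a ∈ E, ∀ b ∈ E, ψ (a * b * a) = ψ b + QuadraticMap.polar Q (ψ a) (ψ b) • ψ a

/-- The pairs of an `n`-set. -/
structure SymPts (E : Set Y) {n : ℕ} (ψ : Y → Finset (Fin n)) : Prop where
  bij : Set.BijOn ψ E {s | s.card = 2}
  comm : ∀ a ∈ E, ∀ b ∈ E, (Commute a b ↔ a = b ∨ Disjoint (ψ a) (ψ b))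
  conj : ∀ a ∈ E, ∀ b ∈ E, ψ (a * b * a) =
    if (ψ a ∩ ψ b).card = 1 then symmDiff (ψ a) (ψ b) else ψ b

/-- The vectors of norm `c` of a quadratic space over three elements, up to sign. -/
structure ReflPts (E : Set Y) {n : ℕ} (Q : QuadraticForm (ZMod 3) (Fin n → ZMod 3)) (c : ZMod 3)
    (ψ : Y → Fin n → ZMod 3) : Prop where
  nondeg : (QuadraticMap.polarBilin Q).Nondegenerate
  ne : c ≠ 0
  norm : ∀ a ∈ E, Q (ψ a) = c
  inj : ∀ a ∈ E, ∀ b ∈ E, (ψ a = ψ b ∨ ψ a = -ψ b) → a = b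
  surj : ∀ z, Q z = c → ∃ a ∈ E, ψ a = z ∨ ψ a = -z
  comm : ∀ a ∈ E, ∀ b ∈ E, (Commute a b ↔ a = b ∨ QuadraticMap.polar Q (ψ a) (ψ b) = 0)
  conj : ∀ a ∈ E, ∀ b ∈ E,
    let z := ψ b - (QuadraticMap.polar Q (ψ a) (ψ b) / c) • ψ a
    ψ (a * b * a) = z ∨ ψ (a * b * a) = -z

end CfsgLib.ThreeTrans.Classif
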