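import Cfsg.Agent.S0439
import Cfsg.Agent.Lib.ThreeTrans.Classif.Kinds
import Cfsg.Agent.Lib.ThreeTrans.PolarTwins.Models
import Cfsg.Agent.Lib.ThreeTrans.ReflClass
import Cfsg.Agent.Lib.ThreeTrans.TransvecTwo
import Cfsg.Agent.Lib.ThreeTrans.MinusSix

/-!
# The small isomorphisms between the kinds of 3-transposition classes

`Sp(4,2) ≅ S₆`, `O⁺(6,2) ≅ S₈`, and `O⁻(6,2)`, `PSU(4,2)` as projective reflection groups of the five
dimensional space over three elements (norm equal, resp. opposite, to the discriminant).  Each comes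
from a table of the members which respects the product `a * b * a`.
-/

set_option autoImplicit false
set_option linter.unusedSectionVars false

namespace CfsgLib.ThreeTrans.Classif.SmallIso

open Cfsg CfsgLib.ThreeTrans
open QuadraticMap CfsgLib.Orth

universe u

/-- Two classes with the same table are isomorphic. -/
theorem of_param {ι : Type} [Nonempty ι] {G₁ G₂ : Type*} [Group G₁] [Group G₂] {D₁ : Set G₁}
    {D₂ : Set G₂} (h₁ : IsThreeTranspositionGroup D₁) (h₂ : IsThreeTranspositionGroup D₂)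
    (hZ₁ : Subgroup.center G₁ = ⊥) (hZ₂ : Subgroup.center G₂ = ⊥) {f₁ : ι → G₁} {f₂ : ι → G₂}
    (r₁ : D₁ = Set.range f₁) (r₂ : D₂ = Set.range f₂) (i₁ : Function.Injective f₁)
    (i₂ : Function.Injective f₂) (op : ι → ι → ι) (c₁ : ∀ i j, f₁ i * f₁ j * f₁ i = f₁ (op i j))
    (c₂ : ∀ i j, f₂ i * f₂ j * f₂ i = f₂ (op i j)) :
    ∃ e : G₁ ≃* G₂, e '' D₁ = D₂ := by
  have hx : ∀ i, Function.extend f₁ f₂ (fun _ => 1) (f₁ i) = f₂ i := fun i => i₁.extend_apply _ _ i
  have hb : Set.BijOn (Function.extend f₁ f₂ (fun _ => 1)) D₁ D₂ := by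
    subst r₁ r₂
    refine ⟨?_, ?_, ?_⟩
    · rintro _ ⟨i, rfl⟩
      exact ⟨i, (hx i).symm⟩
    · rintro _ ⟨i, rfl⟩ _ ⟨j, rfl⟩ e
      rw [hx, hx] at e
      rw [i₂ e]
    · rintro _ ⟨i, rfl⟩
      exact ⟨f₁ i, ⟨i, rfl⟩, hx i⟩
  obtain ⟨e, -, he⟩ := Uniq.exists_mulEquiv h₁ h₂ hZ₁ hZ₂ hb (by
    subst r₁
    rintro _ ⟨i, rfl⟩ _ ⟨j, rfl⟩
    rw [c₁, hx, hx, hx, c₂])
  exact ⟨e, he⟩

/-- Transport of a class along an isomorphism of its target. -/
theorem compose {G₁ G₂ G₃ : Type*} [Group G₁] [Group G₂] [Group G₃] {D₁ : Set G₁} {D₂ : Set G₂}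
    {D₃ : Set G₃} (e : G₁ ≃* G₂) (he : e '' D₁ = D₂) {e' : G₂ ≃* G₃} (he' : e' '' D₂ = D₃) :
    ∃ k : G₁ ≃* G₃, k '' D₁ = D₃ :=
  ⟨e.trans e', by rw [← he', ← he, ← Set.image_comp]; rfl⟩

theorem symm_image {G₁ G₂ : Type*} [Group G₁] [Group G₂] {D₁ : Set G₁} {D₂ : Set G₂} {e : G₁ ≃* G₂}
    (he : e '' D₁ = D₂) : e.symm '' D₂ = D₁ := by
  rw [← he, ← Set.image_comp]
  simp

/-! ### Symmetric groups -/

theorem center_perm {n : ℕ} (hn : 3 ≤ n) : Subgroup.center (Equiv.Perm (Fin n)) = ⊥ := by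
  refine (Subgroup.eq_bot_iff_forall _).2 fun g hg => Equiv.ext fun a => ?_
  rw [Equiv.Perm.one_apply]
  by_contra hne
  obtain ⟨c, hca, hcg⟩ : ∃ c : Fin n, c ≠ a ∧ c ≠ g a := by
    by_contra hall
    push Not at hall
    have := Finset.card_le_card (s := Finset.univ) (t := ({a, g a} : Finset (Fin n))) fun c _ => by
      by_cases h : c = a
      · simp [h]
      · simp [hall c h]
    simp only [Finset.card_univ, Fintype.card_fin] at this
    exact absurd (this.trans Finset.card_le_two) (by omega)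
  have h := congrArg (fun p : Equiv.Perm (Fin n) => p a) (Subgroup.mem_center_iff.1 hg (Equiv.swap (g a) c))
  simp only [Equiv.Perm.mul_apply, Equiv.swap_apply_left] at h
  rw [Equiv.swap_apply_of_ne_of_ne (Ne.symm hne) hca.symm] at h
  exact hcg h

/-- Coordinates of the six points in the symplectic space of dimension four. -/
def sixVec : Fin 6 → Fin 2 ⊕ Fin 2 → ZMod 2 :=
  fun i => Sum.elim
    ![(![0, 1, 0, 1, 1, 1] : Fin 6 → ZMod 2) i, (![0, 0, 0, 1, 0, 1] : Fin 6 → ZMod 2) i]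
    ![(![0, 0, 1, 1, 1, 1] : Fin 6 → ZMod 2) i, (![0, 0, 0, 0, 1, 1] : Fin 6 → ZMod 2) i]

/-- The vector of a permutation: the sum over the points moved. -/
def sixPhi (σ : Equiv.Perm (Fin 6)) : Fin 2 ⊕ Fin 2 → ZMod 2 :=
  ∑ i, if σ i = i then 0 else sixVec i

theorem six_swap : ∀ i j : Fin 6, i ≠ j → sixPhi (Equiv.swap i j) = sixVec i + sixVec j ∧
    sixVec i + sixVec j ≠ 0 := by decide +kernel

theorem six_inj : ∀ i j k l : Fin 6, i ≠ j → k ≠ l → sixVec i + sixVec j = sixVec k + sixVec l →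
    (i = k ∧ j = l) ∨ (i = l ∧ j = k) := by decide +kernel

theorem six_surj : ∀ v : Fin 2 ⊕ Fin 2 → ZMod 2, v ≠ 0 → ∃ i j : Fin 6, i ≠ j ∧
    sixVec i + sixVec j = v := by decide +kernel

theorem six_comm : ∀ i j k l : Fin 6, i ≠ j → k ≠ l →
    (Equiv.swap i j * Equiv.swap k l = Equiv.swap k l * Equiv.swap i j ↔
      sympForm 2 (ZMod 2) (sixVec i + sixVec j) (sixVec k + sixVec l) = 0) := by decide +kernel

/-- `S₆` on its transpositions is `Sp(4,2)` on its transvections. -/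
theorem six_iso : KindSp {σ : Equiv.Perm (Fin 6) | σ.IsSwap} 2 := by
  exact PolarTwins.Models.sp_of_points (m := 2)
    (group_of_class (Cfsg.Agent.S0439.result 6 (by norm_num))) (center_perm (by norm_num)) (by norm_num) sixPhi
    (by
      refine ⟨?_, ?_, ?_⟩
      · rintro _ ⟨i, j, hij, rfl⟩
        rw [(six_swap i j hij).1]
        exact (six_swap i j hij).2
      · rintro _ ⟨i, j, hij, rfl⟩ _ ⟨k, l, hkl, rfl⟩ h
        rw [(six_swap i j hij).1, (six_swap k l hkl).1] at h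
        rcases six_inj i j k l hij hkl h with ⟨rfl, rfl⟩ | ⟨rfl, rfl⟩
        · rfl
        · exact Equiv.swap_comm _ _
      · intro v hv
        obtain ⟨i, j, hij, hv'⟩ := six_surj v hv
        exact ⟨Equiv.swap i j, ⟨i, j, hij, rfl⟩, ((six_swap i j hij).1).trans hv'⟩)
    (by
      rintro _ ⟨i, j, hij, rfl⟩ _ ⟨k, l, hkl, rfl⟩
      rw [(six_swap i j hij).1, (six_swap k l hkl).1]
      exact six_comm i j k l hij hkl)

/-- `Sp(4,2)` on its transvections is `S₆` on its transpositions. -/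
theorem sp4_sym6 {G : Type u} [Group G] {D : Set G} (hD : KindSp D 2) : KindSym D 6 := by
  obtain ⟨e, he⟩ := hD
  obtain ⟨e', he'⟩ := six_iso
  exact compose e he (symm_image he')

/-- `S₆` on its transpositions is `Sp(4,2)` on its transvections. -/
theorem sym6_sp4 {G : Type u} [Group G] {D : Set G} (hD : KindSym D 6) : KindSp D 2 := by
  obtain ⟨e, he⟩ := hD
  obtain ⟨e', he'⟩ := six_iso
  exact compose e he he'

/-! ### Orthogonal groups over two elements -/

section OrthTwo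

variable {ι : Type} [Fintype ι] [DecidableEq ι] {Q : QuadraticForm (ZMod 2) (ι → ZMod 2)}

theorem refl_injective_two (hQ : Q.polarBilin.Nondegenerate) {u w : ι → ZMod 2} (hu : Q u ≠ 0)
    (hw : Q w ≠ 0) (h : refl Q u = refl Q w) : u = w := by
  obtain ⟨y, hy⟩ := exists_polar_eq_one hQ (v := u) fun k => hu (by rw [k, QuadraticMap.map_zero])
  have h2 := congrArg (fun t : O Q => app t y) h
  simp only [TransvecTwo.app_refl_add hu, TransvecTwo.app_refl_add hw, add_right_inj] at h2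
  rw [polar_comm (⇑Q) y u, hy, one_smul] at h2
  rcases (show ∀ z : ZMod 2, z = 0 ∨ z = 1 by decide) (polar Q y w) with k | k
  · rw [k, zero_smul] at h2
    exact absurd (by rw [h2, QuadraticMap.map_zero]) hu
  · rwa [k, one_smul] at h2

/-- The model given by a table of the anisotropic vectors. -/
theorem orth_model (hQ : Q.polarBilin.Nondegenerate) (hι : Fintype.card ι ≠ 4)
    (h1 : 1 ≤ Fintype.card ι) {κ : Type} (v : κ → ι → ZMod 2) (hv : ∀ i, Q (v i) = 1)
    (hinj : Function.Injective v) (hcov : ∀ w, Q w = 1 → ∃ i, v i = w)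
    (hspan : ∀ i : ι, ∃ k l, Pi.single i 1 = v k ∨ Pi.single i 1 = v k + v l) :
    let T := {g : ↥(Cfsg.isometryGroup (ZMod 2) ⇑Q) |
      (((g : Matrix.GeneralLinearGroup ι (ZMod 2)) : Matrix ι ι (ZMod 2)) - 1).rank = 1}
    IsThreeTranspositionGroup T ∧ Subgroup.center ↥(Cfsg.isometryGroup (ZMod 2) ⇑Q) = ⊥ ∧
      T = Set.range (fun i => refl Q (v i)) ∧ Function.Injective (fun i => refl Q (v i)) ∧
      ∀ (op : κ → κ → κ), (∀ i j, v (op i j) = v j + polar Q (v j) (v i) • v i) →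
        ∀ i j, refl Q (v i) * refl Q (v j) * refl Q (v i) = refl Q (v (op i j)) := by
  intro T
  have hne : ∀ i, Q (v i) ≠ 0 := fun i => by rw [hv]; exact one_ne_zero
  refine ⟨group_of_class (TransvecTwo.isClass hQ hι h1), ?_, ?_, ?_, ?_⟩
  · refine (Subgroup.eq_bot_iff_forall _).2 fun g hg => ext_app fun x => ?_
    have hfix : ∀ i, app g (v i) = v i := fun i => by
      refine refl_injective_two hQ (by rw [Q_app]; exact hne i) (hne i) ?_
      rw [← refl_conj, ← Subgroup.mem_center_iff.1 hg (refl Q (v i)), mul_inv_cancel_right]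
    rw [app_one, pi_eq_sum_univ' x]
    simp only [map_sum, map_smul]
    refine Finset.sum_congr rfl fun i _ => ?_
    obtain ⟨k, l, h | h⟩ := hspan i <;> rw [h]
    · rw [hfix]
    · rw [map_add, hfix, hfix]
  · ext g
    refine (TransvecTwo.rank_one_iff hQ g).trans ⟨?_, ?_⟩
    · rintro ⟨w, hw, rfl⟩
      obtain ⟨i, rfl⟩ := hcov w (TransvecTwo.eq_one_of_ne hw)
      exact ⟨i, rfl⟩
    · rintro ⟨i, rfl⟩
      exact ⟨v i, hne i, rfl⟩
  · exact fun i j h => hinj (refl_injective_two hQ (hne i) (hne j) h)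
  · intro op hop i j
    have h := refl_conj (refl Q (v i)) (v j)
    rw [refl_inv, TransvecTwo.app_refl_add (hne i), ← hop] at h
    exact h

end OrthTwo

/-- The digit `k` of `c` in base `b`. -/
def digit (b : ℕ) (c k : ℕ) : ZMod b := ((c / b ^ k : ℕ) : ZMod b)

/-! ### `O⁺(6,2)` -/

/-- A vector of the hyperbolic space from its code. -/
def plusOf (c : ℕ) : Fin 3 ⊕ Fin 3 → ZMod 2 :=
  Sum.elim ![digit 2 c 0, digit 2 c 1, digit 2 c 4] ![digit 2 c 2, digit 2 c 3, digit 2 c 5]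

/-- The code of a vector of the hyperbolic space. -/
def plusCode (v : Fin 3 ⊕ Fin 3 → ZMod 2) : ℕ :=
  (v (.inl 0)).val + 2 * (v (.inl 1)).val + 4 * (v (.inr 0)).val + 8 * (v (.inr 1)).val +
    16 * (v (.inl 2)).val + 32 * (v (.inr 2)).val

/-- The anisotropic vectors of the hyperbolic space. -/
def plusPt : Fin 28 → Fin 3 ⊕ Fin 3 → ZMod 2 := fun i => plusOf ((
  ![5, 7, 10, 11, 13, 14, 21, 23, 26, 27, 29, 30, 37, 39, 42, 43, 45, 46, 48, 49, 50, 51, 52, 54, 56,
    57, 60, 63] : Fin 28 → ℕ) i)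

/-- The index of an anisotropic vector. -/
def plusIdx (v : Fin 3 ⊕ Fin 3 → ZMod 2) : Fin 28 :=
  ([0, 0, 0, 0, 0, 0, 0, 1, 0, 0, 2, 3, 0, 4, 5, 0, 0, 0, 0, 0, 0, 6, 0, 7, 0, 0, 8, 9, 0, 10, 11, 0,
    0, 0, 0, 0, 0, 12, 0, 13, 0, 0, 14, 15, 0, 16, 17, 0, 18, 19, 20, 21, 22, 0, 23, 0, 24, 25, 0, 0,
    26, 0, 0, 27] : List (Fin 28)).getD (plusCode v) 0

/-- First letters of the transpositions. -/
def eightA : Fin 28 → Fin 8 :=
  ![0, 2, 2, 0, 3, 1, 4, 6, 3, 1, 2, 0, 4, 5, 3, 1, 2, 0, 5, 1, 4, 0, 0, 1, 2, 0, 1, 3]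

/-- Second letters of the transpositions. -/
def eightB : Fin 28 → Fin 8 :=
  ![1, 3, 6, 4, 6, 4, 5, 7, 7, 5, 7, 5, 7, 6, 5, 7, 5, 7, 7, 3, 6, 2, 3, 2, 4, 6, 6, 4]

/-- The third member. -/
def plusOp (i j : Fin 28) : Fin 28 :=
  plusIdx (plusPt j + polar (quadFormPlus 3 (ZMod 2)) (plusPt j) (plusPt i) • plusPt i)

theorem plus_pt : ∀ i, quadFormPlus 3 (ZMod 2) (plusPt i) = 1 ∧ plusIdx (plusPt i) = i := by
  decide +kernel

theorem plus_cov : ∀ w, quadFormPlus 3 (ZMod 2) w = 1 → plusPt (plusIdx w) = w := by decide +kernel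

theorem plus_span : ∀ i : Fin 3 ⊕ Fin 3,
    ∃ k l, Pi.single i (1 : ZMod 2) = plusPt k ∨ Pi.single i (1 : ZMod 2) = plusPt k + plusPt l := by
  decide +kernel

theorem plus_op : ∀ i j, plusPt (plusOp i j) =
    plusPt j + polar (quadFormPlus 3 (ZMod 2)) (plusPt j) (plusPt i) • plusPt i := by decide +kernel

theorem eight_ne : ∀ i, eightA i ≠ eightB i := by decide +kernel

theorem eight_inj : ∀ i j, (eightA i = eightA j ∧ eightB i = eightB j) ∨
    (eightA i = eightB j ∧ eightB i = eightA j) → i = j := by decide +kernel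

theorem eight_cov : ∀ x y : Fin 8, x ≠ y → ∃ i, (eightA i = x ∧ eightB i = y) ∨
    (eightA i = y ∧ eightB i = x) := by decide +kernel

theorem eight_op : ∀ i j,
    (Equiv.swap (eightA i) (eightB i) (eightA j) = eightA (plusOp i j) ∧
      Equiv.swap (eightA i) (eightB i) (eightB j) = eightB (plusOp i j)) ∨
    (Equiv.swap (eightA i) (eightB i) (eightA j) = eightB (plusOp i j) ∧
      Equiv.swap (eightA i) (eightB i) (eightB j) = eightA (plusOp i j)) := by decide +kernel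

/-- `O⁺(6,2)` on its transvections is `S₈` on its transpositions. -/
theorem oPlus6_sym8 {G : Type u} [Group G] {D : Set G} (hD : KindOPlus D 3) : KindSym D 8 := by
  rw [KindOPlus, ← plusQ_coe] at hD
  obtain ⟨e, he⟩ := hD
  obtain ⟨h₁, hZ₁, r₁, i₁, c₁⟩ := orth_model (Q := plusQ 3 (ZMod 2)) (plusQ_nondegenerate 3) (by simp)
    (by simp) plusPt (fun i => by rw [plusQ_coe]; exact (plus_pt i).1)
    (fun i j h => by rw [← (plus_pt i).2, h, (plus_pt j).2])
    (fun w hw => ⟨plusIdx w, plus_cov w (by rwa [plusQ_coe] at hw)⟩) plus_span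
  have c₁' := c₁ plusOp fun i j => by rw [plusQ_coe]; exact plus_op i j
  obtain ⟨k, hk⟩ := of_param (f₂ := fun i => Equiv.swap (eightA i) (eightB i))
    h₁ (group_of_class (Cfsg.Agent.S0439.result 8 (by norm_num))) hZ₁ (center_perm (by norm_num)) r₁ (by
      ext σ
      constructor
      · rintro ⟨x, y, hxy, rfl⟩
        obtain ⟨i, ⟨ha, hb⟩ | ⟨ha, hb⟩⟩ := eight_cov x y hxy
        · exact ⟨i, by simp only [ha, hb]⟩
        · exact ⟨i, by simp only [ha, hb]; exact Equiv.swap_comm _ _⟩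
      · rintro ⟨i, rfl⟩
        exact ⟨_, _, eight_ne i, rfl⟩)
    i₁ (fun i j h => eight_inj i j (by
      have key : ∀ a b c d : Fin 8, a ≠ b → Equiv.swap a b = Equiv.swap c d →
          (a = c ∧ b = d) ∨ (a = d ∧ b = c) := fun a b c d hab h => by
        have ha := congrArg (fun p : Equiv.Perm (Fin 8) => p a) h
        simp only [Equiv.swap_apply_left] at ha
        rcases eq_or_ne a c with rfl | hac
        · exact Or.inl ⟨rfl, by rwa [Equiv.swap_apply_left] at ha⟩
        rcases eq_or_ne a d with rfl | had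
        · exact Or.inr ⟨rfl, by rwa [Equiv.swap_apply_right] at ha⟩
        rw [Equiv.swap_apply_of_ne_of_ne hac had] at ha
        exact absurd ha.symm hab
      exact key _ _ _ _ (eight_ne i) h))
    plusOp c₁' (fun i j => by
      have h := (Equiv.swap_apply_apply (Equiv.swap (eightA i) (eightB i)) (eightA j) (eightB j)).symm
      rw [Equiv.swap_inv] at h
      show _ = Equiv.swap (eightA (plusOp i j)) (eightB (plusOp i j))
      rw [h]
      rcases eight_op i j with ⟨ha, hb⟩ | ⟨ha, hb⟩ <;> rw [ha, hb]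
      exact Equiv.swap_comm _ _)
  exact compose e he hk

/-! ### Reflection groups of the five dimensional space over three elements -/

/-- A twin-free class stays a class with trivial centre modulo the centre. -/
theorem quot_class {R : Type*} [Group R] {T : Set R} (h : IsThreeTranspositionGroup T)
    (hne : ∀ a ∈ T, ∃ x ∈ T, ¬ Commute a x)
    (htw : ∀ a ∈ T, ∀ b ∈ T, a ≠ b → Commute a b → ∃ x ∈ T, Commute x b ∧ ¬ Commute x a) :
    IsThreeTranspositionGroup ((QuotientGroup.mk : R → R ⧸ Subgroup.center R) '' T) ∧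
      Subgroup.center (R ⧸ Subgroup.center R) = ⊥ ∧
      Set.InjOn (QuotientGroup.mk : R → R ⧸ Subgroup.center R) T ∧
      ∀ a ∈ T, ∀ b ∈ T, Commute (QuotientGroup.mk a : R ⧸ Subgroup.center R) (QuotientGroup.mk b) →
        Commute a b := by
  have inj : Set.InjOn (QuotientGroup.mk : R → R ⧸ Subgroup.center R) T := fun a ha b hb e => by
    rw [QuotientGroup.eq, inv_eq h.1 ha] at e
    by_contra hab
    have hcz : ∀ x, Commute x (a * b) := fun x => Subgroup.mem_center_iff.1 e x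
    have hcab : Commute a b := by
      have := (hcz a).eq
      rw [← mul_assoc, mul_self h.1 ha, one_mul] at this
      show a * b = b * a
      calc a * b = (a * b) * (a * a) := by rw [mul_self h.1 ha, mul_one]
        _ = b * a := by rw [← mul_assoc, ← this]
    obtain ⟨x, -, hxb, hxa⟩ := htw a ha b hb hab hcab
    refine hxa ?_
    have := (hcz x).mul_right hxb
    rwa [mul_assoc, mul_self h.1 hb, mul_one] at this
  have hcm : ∀ a ∈ T, ∀ b ∈ T, Commute (QuotientGroup.mk a : R ⧸ Subgroup.center R) (QuotientGroup.mk b) →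
      Commute a b := fun a ha b hb e => mul_inv_eq_iff_eq_mul.1 (inj (h.2.1 a b hb) hb (by
        rw [QuotientGroup.mk_mul, QuotientGroup.mk_mul, QuotientGroup.mk_inv, e.eq, mul_inv_cancel_right]))
  refine ⟨⟨⟨?_, ?_⟩, ?_, ?_⟩, ?_, inj, hcm⟩
  · rintro _ ⟨a, ha, rfl⟩
    refine orderOf_eq_prime (by rw [← QuotientGroup.mk_pow, pow_two, mul_self h.1 ha, QuotientGroup.mk_one])
      fun e => ?_
    obtain ⟨x, hx, hax⟩ := hne a ha
    exact hax (hcm a ha x hx (by rw [e]; exact Commute.one_left _))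
  · rintro _ ⟨a, ha, rfl⟩ _ ⟨b, hb, rfl⟩
    rcases h.1.2 a ha b hb with e | e
    · exact Or.inl (by rw [← QuotientGroup.mk_mul, ← QuotientGroup.mk_pow, e, QuotientGroup.mk_one])
    · exact Or.inr (by rw [← QuotientGroup.mk_mul, ← QuotientGroup.mk_pow, e, QuotientGroup.mk_one])
  · rintro x _ ⟨a, ha, rfl⟩
    obtain ⟨g, rfl⟩ := QuotientGroup.mk_surjective x
    exact ⟨g * a * g⁻¹, h.2.1 g a ha, by simp⟩
  · have hm := congrArg (Subgroup.map (QuotientGroup.mk' (Subgroup.center R))) h.2.2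
    rwa [MonoidHom.map_closure,
      Subgroup.map_top_of_surjective _ (QuotientGroup.mk'_surjective _)] at hm
  · refine (Subgroup.eq_bot_iff_forall _).2 fun x hx => ?_
    obtain ⟨g, rfl⟩ := QuotientGroup.mk_surjective x
    rw [QuotientGroup.eq_one_iff]
    refine mem_center_of_commute h.2.2 fun a ha => mul_inv_eq_iff_eq_mul.1 ?_
    refine inj (h.2.1 g a ha) ha ?_
    rw [QuotientGroup.mk_mul, QuotientGroup.mk_mul, QuotientGroup.mk_inv,
      ← Subgroup.mem_center_iff.1 hx, mul_inv_cancel_right]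

/-- The sum of squares on the five dimensional space over three elements. -/
def sq5 (v : Fin 5 → ZMod 3) : ZMod 3 :=
  v 0 * v 0 + v 1 * v 1 + v 2 * v 2 + v 3 * v 3 + v 4 * v 4

/-- The sum of squares as a quadratic form. -/
noncomputable def Q5 : QuadraticForm (ZMod 3) (Fin 5 → ZMod 3) :=
  QuadraticMap.weightedSumSquares (ZMod 3) (1 : Fin 5 → ZMod 3)

theorem Q5_coe : ⇑Q5 = sq5 := funext fun v => by
  simp [Q5, sq5, QuadraticMap.weightedSumSquares_apply, Fin.sum_univ_five]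

theorem Q5_nondeg : (QuadraticMap.polarBilin Q5).Nondegenerate := by
  have key : ∀ x, (∀ y, polar Q5 x y = 0) → x = 0 := fun x hx => funext fun i => by
    have h := hx (Pi.single i 1)
    rw [Q5_coe] at h
    exact (show ∀ (i : Fin 5) (x : Fin 5 → ZMod 3), polar sq5 x (Pi.single i 1) = 0 → x i = 0 by
      decide +kernel) i x h
  exact ⟨fun x hx => key x hx, fun x hx => key x fun y => by rw [polar_comm]; exact hx y⟩

theorem Q5_det : polarGramDet (⇑Q5) = 2 := by
  rw [polarGramDet, Q5_coe, show (Matrix.of fun i j : Fin 5 => polar sq5 (Pi.single i 1) (Pi.single j 1)) =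
    Matrix.diagonal (fun _ => (2 : ZMod 3)) by decide +kernel, Matrix.det_diagonal]
  decide

/-- The member of a vector of norm `c` in the projective reflection group. -/
noncomputable def rmk (c : ZMod 3) (v : Fin 5 → ZMod 3) (hv : Q5 v = c) :
    ↥(Cfsg.reflectionSubgroup (⇑Q5) c) ⧸ Subgroup.center ↥(Cfsg.reflectionSubgroup (⇑Q5) c) :=
  QuotientGroup.mk (ReflClass.rc v hv)

/-- The model given by a table of the vectors of norm `c` up to sign. -/
theorem refl_model {c : ZMod 3} (hc : c ≠ 0) {κ : Type} (v : κ → Fin 5 → ZMod 3)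
    (hv : ∀ i, Q5 (v i) = c) (hinj : ∀ i j, v j = v i ∨ v j = -v i → i = j)
    (hcov : ∀ w, Q5 w = c → ∃ i, w = v i ∨ w = -v i)
    (hne : ∀ i, ∃ j, j ≠ i ∧ polar Q5 (v i) (v j) ≠ 0)
    (htw : ∀ i j, i ≠ j → polar Q5 (v i) (v j) = 0 →
      ∃ k, k ≠ i ∧ polar Q5 (v k) (v j) = 0 ∧ polar Q5 (v k) (v i) ≠ 0) :
    let f : κ → ↥(Cfsg.reflectionSubgroup (⇑Q5) c) ⧸ Subgroup.center ↥(Cfsg.reflectionSubgroup (⇑Q5) c) :=
      fun i => rmk c (v i) (hv i)
    IsThreeTranspositionGroup (Set.range f) ∧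
      Subgroup.center (↥(Cfsg.reflectionSubgroup (⇑Q5) c) ⧸
        Subgroup.center ↥(Cfsg.reflectionSubgroup (⇑Q5) c)) = ⊥ ∧
      Function.Injective f ∧
      (QuotientGroup.mk '' ReflClass.cls Q5 c = Set.range f) ∧
      (∀ i j, Commute (f i) (f j) ↔ i = j ∨ polar Q5 (v i) (v j) = 0) ∧
      ∀ op : κ → κ → κ,
        (∀ i j, v (op i j) = v j - (c⁻¹ * polar Q5 (v j) (v i)) • v i ∨
          v (op i j) = -(v j - (c⁻¹ * polar Q5 (v j) (v i)) • v i)) →
        ∀ i j, f i * f j * f i = f (op i j) := by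
  intro f
  have hT := group_of_class (ReflClass.isThreeTranspositionClass Q5_nondeg le_rfl hc)
  have hmem : ∀ i, ReflClass.rc (v i) (hv i) ∈ ReflClass.cls Q5 c := fun i => ReflClass.rc_mem _
  have hidx : ∀ i j, ReflClass.rc (v i) (hv i) = ReflClass.rc (v j) (hv j) → i = j := fun i j h =>
    hinj i j ((ReflClass.rc_eq_iff hc _ _).1 h)
  have hex : ∀ g ∈ ReflClass.cls Q5 c, ∃ i, g = ReflClass.rc (v i) (hv i) := fun g hg => by
    obtain ⟨w, hw, rfl⟩ := ReflClass.exists_rc hg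
    obtain ⟨i, hi⟩ := hcov w hw
    exact ⟨i, ((ReflClass.rc_eq_iff hc (hv i) hw).2 hi).symm⟩
  have hcom : ∀ i j, Commute (ReflClass.rc (v i) (hv i)) (ReflClass.rc (v j) (hv j)) ↔
      i = j ∨ polar Q5 (v i) (v j) = 0 := fun i j => by
    rw [ReflClass.rc_commute_iff hc]
    constructor
    · rintro (h | h)
      · exact Or.inr h
      · exact Or.inl (hinj i j h)
    · rintro (rfl | h)
      · exact Or.inr (Or.inl rfl)
      · exact Or.inl h
  obtain ⟨hG, hZ, hinjq, hcq⟩ := quot_class hT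
    (fun a ha => by
      obtain ⟨i, rfl⟩ := hex a ha
      obtain ⟨j, hji, hp⟩ := hne i
      exact ⟨_, hmem j, fun h => ((hcom i j).1 h).elim (fun e => hji e.symm) hp⟩)
    (fun a ha b hb hab hc' => by
      obtain ⟨i, rfl⟩ := hex a ha
      obtain ⟨j, rfl⟩ := hex b hb
      have hij : i ≠ j := fun e => hab (by subst e; rfl)
      obtain ⟨k, hki, h1, h2⟩ := htw i j hij (((hcom i j).1 hc').resolve_left hij)
      exact ⟨_, hmem k, (hcom k j).2 (Or.inr h1), fun h => ((hcom k i).1 h).elim hki h2⟩)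
  have him : QuotientGroup.mk '' ReflClass.cls Q5 c = Set.range f := by
    ext x
    constructor
    · rintro ⟨g, hg, rfl⟩
      obtain ⟨i, rfl⟩ := hex g hg
      exact ⟨i, rfl⟩
    · rintro ⟨i, rfl⟩
      exact ⟨_, hmem i, rfl⟩
  refine ⟨him ▸ hG, hZ, fun i j h => hidx i j (hinjq (hmem i) (hmem j) h), him, fun i j => ?_, ?_⟩
  · exact ⟨fun h => (hcom i j).1 (hcq _ (hmem i) _ (hmem j) h),
      fun h => ((hcom i j).2 h).map (QuotientGroup.mk' _)⟩
  · intro op hop i j
    show QuotientGroup.mk _ * QuotientGroup.mk _ * QuotientGroup.mk _ = (QuotientGroup.mk _ : _ ⧸ _)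
    rw [← QuotientGroup.mk_mul, ← QuotientGroup.mk_mul]
    congr 1
    apply Subtype.ext
    show refl Q5 (v i) * refl Q5 (v j) * refl Q5 (v i) = refl Q5 (v (op i j))
    have h := refl_conj (refl Q5 (v i)) (v j)
    rw [refl_inv, app_refl, hv i] at h
    rw [h]
    rcases hop i j with e | e <;> rw [e]
    rw [refl_neg]

/-! ### `O⁻(6,2)` -/

local notation "ι6" => (Fin 2 ⊕ Fin 2) ⊕ Fin 2

/-- A vector of the elliptic space from its code. -/
def minusOf (c : ℕ) : ι6 → ZMod 2 :=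
  Sum.elim (Sum.elim ![digit 2 c 0, digit 2 c 1] ![digit 2 c 2, digit 2 c 3]) ![digit 2 c 4, digit 2 c 5]

/-- The code of a vector of the elliptic space. -/
def minusCode (v : ι6 → ZMod 2) : ℕ :=
  (v (.inl (.inl 0))).val + 2 * (v (.inl (.inl 1))).val + 4 * (v (.inl (.inr 0))).val +
    8 * (v (.inl (.inr 1))).val + 16 * (v (.inr 0)).val + 32 * (v (.inr 1)).val

/-- The anisotropic vectors of the elliptic space. -/
def minusPt : Fin 36 → ι6 → ZMod 2 := fun i => minusOf ((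
  ![5, 7, 10, 11, 13, 14, 16, 17, 18, 19, 20, 22, 24, 25, 28, 31, 32, 33, 34, 35, 36, 38, 40, 41, 44,
    47, 48, 49, 50, 51, 52, 54, 56, 57, 60, 63] : Fin 36 → ℕ) i)

/-- The index of an anisotropic vector. -/
def minusIdx (v : ι6 → ZMod 2) : Fin 36 :=
  ([0, 0, 0, 0, 0, 0, 0, 1, 0, 0, 2, 3, 0, 4, 5, 0, 6, 7, 8, 9, 10, 0, 11, 0, 12, 13, 0, 0, 14, 0, 0,
    15, 16, 17, 18, 19, 20, 0, 21, 0, 22, 23, 0, 0, 24, 0, 0, 25, 26, 27, 28, 29, 30, 0, 31, 0, 32,
    33, 0, 0, 34, 0, 0, 35] : List (Fin 36)).getD (minusCode v) 0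

/-- The vectors of norm two, one of each sign pair, in matching order. -/
def twoPt : Fin 36 → Fin 5 → ZMod 3 := fun i k => digit 3 ((
  ![4, 5, 131, 130, 133, 134, 36, 87, 45, 84, 82, 83, 149, 148, 152, 151, 90, 33, 99, 30, 28, 29, 160,
    161, 157, 158, 135, 12, 108, 15, 11, 10, 124, 125, 121, 122] : Fin 36 → ℕ) i) k

/-- The third member. -/
def minusOp (i j : Fin 36) : Fin 36 :=
  minusIdx (minusPt j + polar (quadFormMinus 2 (ZMod 2) 1 1) (minusPt j) (minusPt i) • minusPt i)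

theorem minus_pt : ∀ i, quadFormMinus 2 (ZMod 2) 1 1 (minusPt i) = 1 ∧ minusIdx (minusPt i) = i := by
  decide +kernel

theorem minus_cov : ∀ w, quadFormMinus 2 (ZMod 2) 1 1 w = 1 → minusPt (minusIdx w) = w := by
  decide +kernel

theorem minus_span : ∀ i : ι6,
    ∃ k l, Pi.single i (1 : ZMod 2) = minusPt k ∨ Pi.single i (1 : ZMod 2) = minusPt k + minusPt l := by
  decide +kernel

theorem minus_op : ∀ i j, minusPt (minusOp i j) =
    minusPt j + polar (quadFormMinus 2 (ZMod 2) 1 1) (minusPt j) (minusPt i) • minusPt i := by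
  decide +kernel

theorem two_pt : ∀ i, sq5 (twoPt i) = 2 := by decide +kernel

theorem two_inj : ∀ i j, twoPt j = twoPt i ∨ twoPt j = -twoPt i → i = j := by decide +kernel

theorem two_cov : ∀ w, sq5 w = 2 → ∃ i, w = twoPt i ∨ w = -twoPt i := by decide +kernel

theorem two_ne_orth : ∀ i, ∃ j, j ≠ i ∧ polar sq5 (twoPt i) (twoPt j) ≠ 0 := by decide +kernel

theorem two_twin : ∀ i j, i ≠ j → polar sq5 (twoPt i) (twoPt j) = 0 →
    ∃ k, k ≠ i ∧ polar sq5 (twoPt k) (twoPt j) = 0 ∧ polar sq5 (twoPt k) (twoPt i) ≠ 0 := by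
  decide +kernel

theorem two_op : ∀ i j,
    twoPt (minusOp i j) = twoPt j - (2 * polar sq5 (twoPt j) (twoPt i)) • twoPt i ∨
      twoPt (minusOp i j) = -(twoPt j - (2 * polar sq5 (twoPt j) (twoPt i)) • twoPt i) := by
  decide +kernel

/-- `O⁻(6,2)` on its transvections is the projective reflection group of a five dimensional space over
three elements of discriminant equal to the norm. -/
theorem oMinus6_refl {G : Type u} [Group G] {D : Set G} (hD : KindOMinus D 2) :
    ∃ Q : QuadraticForm (ZMod 3) (Fin 5 → ZMod 3), (QuadraticMap.polarBilin Q).Nondegenerate ∧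
      ∃ c : ZMod 3, c ≠ 0 ∧ KindRefl D Q c ∧ polarGramDet (⇑Q) = c := by
  rw [KindOMinus, ← minusQ_coe] at hD
  obtain ⟨e, he⟩ := hD
  obtain ⟨h₁, hZ₁, r₁, i₁, c₁⟩ := orth_model (Q := minusQ 2 (ZMod 2) 1 1)
    (CfsgLib.POmega.minusQ_nondegenerate_any MinusSix.aniso) (by simp) (by simp) minusPt
    (fun i => by rw [minusQ_coe]; exact (minus_pt i).1)
    (fun i j h => by rw [← (minus_pt i).2, h, (minus_pt j).2])
    (fun w hw => ⟨minusIdx w, minus_cov w (by rwa [minusQ_coe] at hw)⟩) minus_span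
  obtain ⟨h₂, hZ₂, i₂, him, -, c₂⟩ := refl_model (c := 2) (by decide) twoPt
    (fun i => by rw [Q5_coe]; exact two_pt i) two_inj
    (fun w hw => two_cov w (by rwa [Q5_coe] at hw))
    (fun i => by rw [Q5_coe]; exact two_ne_orth i)
    (fun i j h1 h2 => by rw [Q5_coe] at h2 ⊢; exact two_twin i j h1 h2)
  obtain ⟨k, hk⟩ := of_param h₁ h₂ hZ₁ hZ₂ r₁ rfl i₁ i₂ minusOp
    (c₁ minusOp fun i j => by rw [minusQ_coe]; exact minus_op i j)
    (c₂ minusOp fun i j => by
      rw [Q5_coe, show (2 : ZMod 3)⁻¹ = 2 from inv_eq_of_mul_eq_one_right (by decide)]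
      exact two_op i j)
  obtain ⟨e', he'⟩ := compose e he hk
  exact ⟨Q5, Q5_nondeg, 2, by decide, ⟨e', he'.trans him.symm⟩, Q5_det⟩

/-! ### `PSU(4,2)` -/

/-- The field of four elements as pairs of bits, `(x, y)` standing for `x + y w`. -/
def fmul (a b : ZMod 2 × ZMod 2) : ZMod 2 × ZMod 2 :=
  (a.1 * b.1 + a.2 * b.2, a.1 * b.2 + a.2 * b.1 + a.2 * b.2)

/-- The hermitian form on pairs of bits. -/
def fherm (u v : Fin 4 → ZMod 2 × ZMod 2) : ZMod 2 × ZMod 2 :=
  fmul (u 0) (fmul (v 0) (v 0)) + fmul (u 1) (fmul (v 1) (v 1)) + fmul (u 2) (fmul (v 2) (v 2)) +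
    fmul (u 3) (fmul (v 3) (v 3))

/-- The isotropic points of the hermitian space. -/
def unitPt : Fin 45 → Fin 4 → ZMod 2 × ZMod 2 := fun i k =>
  (digit 2 ((![5, 6, 7, 17, 18, 19, 20, 24, 28, 65, 66, 67, 68, 72, 76, 80, 85, 86, 87, 89, 90, 91, 93,
      94, 95, 96, 101, 102, 103, 105, 106, 107, 109, 110, 111, 112, 117, 118, 119, 121, 122, 123, 125,
      126, 127] : Fin 45 → ℕ) i) (2 * k),
    digit 2 ((![5, 6, 7, 17, 18, 19, 20, 24, 28, 65, 66, 67, 68, 72, 76, 80, 85, 86, 87, 89, 90, 91, 93,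
      94, 95, 96, 101, 102, 103, 105, 106, 107, 109, 110, 111, 112, 117, 118, 119, 121, 122, 123, 125,
      126, 127] : Fin 45 → ℕ) i) (2 * k + 1))

/-- The vectors of norm one, one of each sign pair, in matching order. -/
def onePt : Fin 45 → Fin 5 → ZMod 3 := fun i k => digit 3 ((
  ![1, 118, 119, 140, 106, 50, 139, 107, 49, 143, 103, 53, 142, 104, 52, 3, 9, 154, 145, 155, 27, 128,
    146, 127, 81, 120, 150, 112, 41, 113, 156, 94, 40, 95, 132, 123, 159, 97, 116, 98, 129, 43, 115,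
    44, 147] : Fin 45 → ℕ) i) k

theorem unit_pt : ∀ i, unitPt i ≠ 0 ∧ fherm (unitPt i) (unitPt i) = 0 := by decide +kernel

theorem unit_cov : ∀ u : Fin 4 → ZMod 2 × ZMod 2, u ≠ 0 → fherm u u = 0 →
    ∃ i a, u = fun k => fmul a (unitPt i k) := by decide +kernel

theorem unit_inj : ∀ i j a, (unitPt j = fun k => fmul a (unitPt i k)) → i = j := by decide +kernel

theorem unit_comm : ∀ i j, i = j ∨ polar sq5 (onePt i) (onePt j) = 0 ↔
    fherm (unitPt i) (unitPt j) = 0 := by decide +kernel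

theorem one_pt : ∀ i, sq5 (onePt i) = 1 := by decide +kernel

theorem one_inj : ∀ i j, onePt j = onePt i ∨ onePt j = -onePt i → i = j := by decide +kernel

theorem one_cov : ∀ w, sq5 w = 1 → ∃ i, w = onePt i ∨ w = -onePt i := by decide +kernel

theorem one_ne_orth : ∀ i, ∃ j, j ≠ i ∧ polar sq5 (onePt i) (onePt j) ≠ 0 := by decide +kernel

theorem one_twin : ∀ i j, i ≠ j → polar sq5 (onePt i) (onePt j) = 0 →
    ∃ k, k ≠ i ∧ polar sq5 (onePt k) (onePt j) = 0 ∧ polar sq5 (onePt k) (onePt i) ≠ 0 := by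
  decide +kernel

/-- Coordinates in a field of four elements. -/
theorem exists_coord (F : Type) [Field F] [Fintype F] (hF : Fintype.card F = 4) :
    ∃ θ : ZMod 2 × ZMod 2 ≃ F, θ 0 = 0 ∧ (∀ a b, θ (a + b) = θ a + θ b) ∧
      ∀ a b, θ (fmul a b) = θ a * θ b := by
  classical
  have : CharP F 2 := by
    obtain ⟨p, hp⟩ := CharP.exists F
    obtain ⟨k, hpp, hk⟩ := FiniteField.card F p
    have : p ∣ 2 ^ 2 := by
      rw [show (2 : ℕ) ^ 2 = Fintype.card F by rw [hF]; norm_num, hk]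
      exact dvd_pow_self _ k.pos.ne'
    rwa [← (Nat.prime_dvd_prime_iff_eq hpp Nat.prime_two).1 (hpp.dvd_of_dvd_pow this)]
  obtain ⟨w, hw0, hw1⟩ : ∃ w : F, w ≠ 0 ∧ w ≠ 1 := by
    by_contra hc
    push Not at hc
    have := Finset.card_le_card (s := Finset.univ) (t := ({0, 1} : Finset F)) fun x _ => by
      by_cases h : x = 0
      · simp [h]
      · simp [hc x h]
    rw [Finset.card_univ, hF] at this
    exact absurd (this.trans Finset.card_le_two) (by norm_num)
  have h2 : (2 : F) = 0 := CharTwo.two_eq_zero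
  have hw : w * w = 1 + w := by
    have h3 := FiniteField.pow_card_sub_one_eq_one w hw0
    rw [hF] at h3
    have : (w - 1) * (w * w - 1 - w) = 0 := by linear_combination h3 - (w * w - 1) * h2
    exact sub_eq_zero.1 (by linear_combination (mul_eq_zero.1 this).resolve_left (sub_ne_zero.2 hw1))
  set c := ZMod.castHom (dvd_refl 2) F with hc
  set f : ZMod 2 × ZMod 2 → F := fun a => c a.1 + c a.2 * w with hf
  have hadd : ∀ a b, f (a + b) = f a + f b := fun a b => by
    simp only [hf, Prod.fst_add, Prod.snd_add, map_add]; ring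
  have hinj : Function.Injective f := by
    intro a b h
    rw [← sub_eq_zero]
    have h' : f (a - b) = 0 := by
      have := hadd (a - b) b
      rw [sub_add_cancel, h, eq_comm, add_eq_right] at this
      exact this
    generalize a - b = d at h' ⊢
    obtain ⟨x, y⟩ := d
    rcases (show ∀ z : ZMod 2, z = 0 ∨ z = 1 by decide) x with rfl | rfl <;>
      rcases (show ∀ z : ZMod 2, z = 0 ∨ z = 1 by decide) y with rfl | rfl
    · rfl
    · exact absurd (by simpa [hf] using h') hw0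
    · exact absurd (show (1 : F) = 0 by simp [hf] at h') one_ne_zero
    · simp only [hf, map_one, one_mul] at h'
      exact absurd (by linear_combination h' - h2) hw1
  have hbij : Function.Bijective f :=
    (Fintype.bijective_iff_injective_and_card f).2 ⟨hinj, by rw [hF]; rfl⟩
  refine ⟨Equiv.ofBijective f hbij, by simp [hf], hadd, fun a b => ?_⟩
  show f (fmul a b) = f a * f b
  simp only [hf, fmul, map_add, map_mul]
  linear_combination -(c a.2 * c b.2) * hw

/-- `PSU(4,2)` on its transvections is the projective reflection group of a five dimensional space over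
three elements of discriminant opposite to the norm. -/
theorem psu4_refl {G : Type u} [Group G] {D : Set G} (hD : KindPSU D 4) :
    ∃ Q : QuadraticForm (ZMod 3) (Fin 5 → ZMod 3), (QuadraticMap.polarBilin Q).Nondegenerate ∧
      ∃ c : ZMod 3, c ≠ 0 ∧ KindRefl D Q c ∧ polarGramDet (⇑Q) = -c := by
  obtain ⟨F, iF, iT, hF, e, he⟩ := hD
  obtain ⟨θ, θ0, θadd, θmul⟩ := exists_coord F hF
  obtain ⟨h₂, hZ₂, i₂, him, hcom, -⟩ := refl_model (c := 1) one_ne_zero onePt
    (fun i => by rw [Q5_coe]; exact one_pt i) one_inj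
    (fun w hw => one_cov w (by rwa [Q5_coe] at hw))
    (fun i => by rw [Q5_coe]; exact one_ne_orth i)
    (fun i j h1 h2 => by rw [Q5_coe] at h2 ⊢; exact one_twin i j h1 h2)
  set f : Fin 45 → ↥(Cfsg.reflectionSubgroup (⇑Q5) 1) ⧸ Subgroup.center ↥(Cfsg.reflectionSubgroup (⇑Q5) 1) :=
    fun i => rmk 1 (onePt i) (by rw [Q5_coe]; exact one_pt i) with hf
  have hherm : ∀ u v : Fin 4 → ZMod 2 × ZMod 2,
      hermForm 4 F 2 (θ ∘ u) (θ ∘ v) = θ (fherm u v) := fun u v => by
    simp only [hermForm, fherm, Fin.sum_univ_four, θadd, θmul, Function.comp_apply, pow_two]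
  set φ := Function.extend f (fun i => θ ∘ unitPt i) (fun _ => 0) with hφ
  have hx : ∀ i, φ (f i) = θ ∘ unitPt i := fun i => i₂.extend_apply _ _ i
  have hz : ∀ u : Fin 4 → ZMod 2 × ZMod 2, θ ∘ u = 0 → u = 0 := fun u h =>
    funext fun k => θ.injective ((congrFun h k).trans θ0.symm)
  obtain ⟨e', he'⟩ := PolarTwins.Models.psu_of_points h₂ hZ₂ F hF (n := 4) le_rfl φ
    (by
      rintro _ ⟨i, rfl⟩
      rw [hx, hherm, (unit_pt i).2, θ0]
      exact ⟨fun h => (unit_pt i).1 (hz _ h), rfl⟩)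
    (by
      intro v hv0 hv
      obtain ⟨u, rfl⟩ : ∃ u, θ ∘ u = v := ⟨θ.symm ∘ v, by ext k; simp⟩
      rw [hherm, ← θ0] at hv
      obtain ⟨i, a, rfl⟩ := unit_cov u (fun h => hv0 (by rw [h]; funext k; exact θ0)) (θ.injective hv)
      exact ⟨f i, ⟨i, rfl⟩, θ a, by rw [hx]; funext k; exact θmul _ _⟩)
    (by
      rintro _ ⟨i, rfl⟩ _ ⟨j, rfl⟩ c h
      rw [hx, hx] at h
      obtain ⟨a, rfl⟩ := θ.surjective c
      rw [unit_inj i j a (funext fun k => θ.injective ((congrFun h k).trans (θmul _ _).symm))])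
    (by
      rintro _ ⟨i, rfl⟩ _ ⟨j, rfl⟩
      rw [hx, hx, hherm, hcom, Q5_coe, unit_comm]
      exact ⟨fun h => by rw [h, θ0], fun h => θ.injective (h.trans θ0.symm)⟩)
  obtain ⟨k, hk⟩ := compose e he (symm_image he')
  exact ⟨Q5, Q5_nondeg, 1, one_ne_zero, ⟨k, hk.trans him.symm⟩, Q5_det.trans (by decide)⟩

end CfsgLib.ThreeTrans.Classif.SmallIso
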