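import Mathlib
import Cfsg.Agent.Lib.ThreeTrans.Classif.Points
import Cfsg.Agent.Lib.ThreeTrans.Classif.SmallIso
import Cfsg.Agent.Lib.ThreeTrans.Classif.FromRefl.Graph
import Cfsg.Agent.Lib.KnownSimple.QuadTwo

/-! Point models read off from the kinds. -/

set_option autoImplicit false

namespace CfsgLib.ThreeTrans.Classif.KindPts

open QuadraticMap CfsgLib.ThreeTrans
open CfsgLib.KnownSimple.QuadTwo (B B_apply B_self)
open CfsgLib.Orth (O refl refl_inv refl_conj app app_refl refl_neg Q_app)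

universe u

variable {Y : Type u} [Group Y] {E : Set Y}

/-- The reflection classes have the vectors of their norm as model. -/
theorem refl_points {n : ℕ} (Q : QuadraticForm (ZMod 3) (Fin n → ZMod 3)) (c : ZMod 3) (hn : 5 ≤ n)
    (hQ : (QuadraticMap.polarBilin Q).Nondegenerate) (hc : c ≠ 0) (hK : KindRefl E Q c) :
    ∃ ψ, ReflPts E Q c ψ := by
  classical
  obtain ⟨e, he⟩ := hK
  set R := Cfsg.reflectionSubgroup (⇑Q) c
  obtain ⟨-, -, hqinj⟩ := FromRefl.target hQ hn hc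
  have hrep : ∀ a : E, ∃ v, ∃ hv : Q v = c, e a.1 = (ReflClass.rc v hv : R) := by
    intro a
    obtain ⟨g, hg, hga⟩ := (Set.ext_iff.1 he (e a.1)).1 (Set.mem_image_of_mem e a.2)
    obtain ⟨v, hv, rfl⟩ := ReflClass.exists_rc (show g ∈ ReflClass.cls Q c from hg)
    exact ⟨v, hv, hga.symm⟩
  choose v hv hev using hrep
  let ψ : Y → Fin n → ZMod 3 := fun a => if h : a ∈ E then v ⟨a, h⟩ else 0
  have hψ : ∀ a (h : a ∈ E), ∃ hh : Q (ψ a) = c, e a = (ReflClass.rc (ψ a) hh : R) := fun a h => by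
    have hp : ψ a = v ⟨a, h⟩ := dif_pos h
    rw [hp]
    exact ⟨hv ⟨a, h⟩, hev ⟨a, h⟩⟩
  have hrf : ∀ u w, ∀ hu : Q u = c, ∀ hw : Q w = c,
      ∃ hz : Q (w - (polar Q u w / c) • u) = c,
        ReflClass.rc u hu * ReflClass.rc w hw * ReflClass.rc u hu =
          ReflClass.rc (w - (polar Q u w / c) • u) hz := by
    intro u w hu hw
    have h := refl_conj (refl Q u) w
    have ha : app (refl Q u) w = w - (polar Q u w / c) • u := by
      rw [app_refl, hu, polar_comm, div_eq_inv_mul]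
    rw [refl_inv, ha] at h
    exact ⟨by rw [← ha, Q_app, hw], Subtype.ext h⟩
  refine ⟨ψ, hQ, hc, fun a ha => (hψ a ha).1, fun a ha b hb h => ?_, fun z hz => ?_, fun a ha b hb => ?_,
    fun a ha b hb => ?_⟩
  · obtain ⟨h1, e1⟩ := hψ a ha
    obtain ⟨h2, e2⟩ := hψ b hb
    apply e.injective
    rw [e1, e2]
    refine congrArg _ ((ReflClass.rc_eq_iff hc h1 h2).2 ?_)
    rcases h with h | h
    · exact Or.inl h.symm
    · exact Or.inr (by rw [h, neg_neg])
  · obtain ⟨a, ha, hae⟩ := (Set.ext_iff.1 he (ReflClass.rc z hz : R)).2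
      (Set.mem_image_of_mem _ (ReflClass.rc_mem hz))
    obtain ⟨h1, e1⟩ := hψ a ha
    rw [e1] at hae
    refine ⟨a, ha, ?_⟩
    rcases hqinj _ _ _ _ hae with h | h
    · exact Or.inl h.symm
    · exact Or.inr (by rw [h, neg_neg])
  · obtain ⟨h1, e1⟩ := hψ a ha
    obtain ⟨h2, e2⟩ := hψ b hb
    obtain ⟨hz, hrc⟩ := hrf _ _ h1 h2
    rw [← commute_map_iff e.injective, e1, e2]
    constructor
    · intro h
      by_cases hab : a = b
      · exact Or.inl hab
      right
      have h3 : ((ReflClass.rc (ψ a) h1 : R) : R ⧸ Subgroup.center R) * ((ReflClass.rc (ψ b) h2 : R) : R ⧸ Subgroup.center R) *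
          ((ReflClass.rc (ψ a) h1 : R) : R ⧸ Subgroup.center R) = ((ReflClass.rc (ψ b) h2 : R) : R ⧸ Subgroup.center R) := by
        rw [h.eq, mul_assoc, ← QuotientGroup.mk_mul, show ReflClass.rc (ψ a) h1 * ReflClass.rc (ψ a) h1 = 1 from
          Subtype.ext (CfsgLib.Orth.refl_mul_self _), QuotientGroup.mk_one, mul_one]
      rw [← QuotientGroup.mk_mul, ← QuotientGroup.mk_mul, hrc] at h3
      rcases hqinj _ _ _ _ h3 with h4 | h4
      · rw [eq_comm, sub_eq_self, smul_eq_zero] at h4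
        rcases h4 with h4 | h4
        · exact (div_eq_zero_iff.1 h4).resolve_right hc
        · exact absurd (by rw [← h1, h4, QuadraticMap.map_zero]) hc
      · have h5 : ψ b = (-(polar Q (ψ a) (ψ b) / c)) • ψ a := by
          funext i
          have key : ∀ a b k : ZMod 3, b = -(b - k * a) → b = -k * a := by decide
          exact key _ _ _ (congrFun h4 i)
        refine absurd (e.injective ?_) hab
        rw [e1, e2]
        exact congrArg _ ((ReflClass.rc_eq_iff hc h1 h2).2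
          (ReflClass.eq_or_neg_of_smul (Q := Q) (by rwa [h2]) h5))
    · rintro (rfl | h)
      · exact Commute.refl _
      · exact ((ReflClass.rc_commute_iff hc h1 h2).2 (Or.inl h)).map (QuotientGroup.mk' _)
  · intro z
    obtain ⟨h1, e1⟩ := hψ a ha
    obtain ⟨h2, e2⟩ := hψ b hb
    obtain ⟨hz, hrc⟩ := hrf _ _ h1 h2
    have himg : e (a * b * a) = ((ReflClass.rc z hz : R) : R ⧸ Subgroup.center R) := by
      rw [map_mul, map_mul, e1, e2, ← QuotientGroup.mk_mul, ← QuotientGroup.mk_mul, hrc]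
    have hm : a * b * a ∈ E := by
      obtain ⟨x, hx, hxe⟩ := (Set.ext_iff.1 he (e (a * b * a))).2
        (himg ▸ Set.mem_image_of_mem _ (ReflClass.rc_mem hz))
      rwa [← e.injective hxe]
    obtain ⟨h3, e3⟩ := hψ _ hm
    rw [e3] at himg
    rcases hqinj _ _ _ _ himg with h4 | h4
    · exact Or.inl h4.symm
    · exact Or.inr (by rw [h4, neg_neg])

theorem B_eq (m : ℕ) (u v : Fin m ⊕ Fin m → ZMod 2) : B m u v = Cfsg.sympForm m (ZMod 2) u v := by
  rw [B_apply]
  simp [Cfsg.sympForm, Matrix.J, dotProduct, Matrix.mulVec, Fintype.sum_sum_type, Matrix.one_apply,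
    Finset.sum_add_distrib, CharTwo.neg_eq]

/-- The symplectic transvection classes have the non-zero vectors as model. -/
theorem sp_points {m : ℕ} (hK : KindSp E m) : ∃ ψ, SympPts E (B m) ψ := by
  classical
  obtain ⟨e, he⟩ := hK
  have hrep : ∀ a : E, ∃ v : Fin m ⊕ Fin m → ZMod 2, v ≠ 0 ∧ e a.1 = CfsgLib.Sp.tmat v 1 := fun a =>
    (Cfsg.Agent.S0440.mem_D_iff _).1 (by
      have := Set.mem_image_of_mem e a.2; rw [he] at this; exact this)
  choose v hv hev using hrep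
  let ψ : Y → Fin m ⊕ Fin m → ZMod 2 := fun a => if h : a ∈ E then v ⟨a, h⟩ else 0
  have hψ : ∀ a (h : a ∈ E), ψ a ≠ 0 ∧ e a = CfsgLib.Sp.tmat (ψ a) 1 := fun a h => by
    simp only [ψ, dif_pos h]; exact ⟨hv ⟨a, h⟩, hev ⟨a, h⟩⟩
  have hsurj : ∀ z : Fin m ⊕ Fin m → ZMod 2, z ≠ 0 → ∃ a ∈ E, ψ a = z := fun z hz => by
    obtain ⟨a, ha, hae⟩ : CfsgLib.Sp.tmat z 1 ∈ e '' E := by
      rw [he]; exact (Cfsg.Agent.S0440.mem_D_iff _).2 ⟨z, hz, rfl⟩
    exact ⟨a, ha, PolarTwins.Models.sp_tmat_injective (hψ a ha).1 ((hψ a ha).2.symm.trans hae)⟩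
  refine ⟨ψ, B_self, fun u h => ?_, ⟨fun a ha => (hψ a ha).1, fun a ha b hb h => ?_, fun z hz => ?_⟩,
    fun a ha b hb => ?_, fun a ha b hb => ?_⟩
  · refine CfsgLib.Sp.sympBilin_separatingLeft _ fun y => ?_
    rw [CfsgLib.Sp.sympBilin_apply, ← B_eq]
    exact h y
  · exact e.injective (by rw [(hψ a ha).2, (hψ b hb).2, h])
  · obtain ⟨a, ha, h⟩ := hsurj z hz
    exact ⟨a, ha, h⟩
  · rw [← commute_map_iff e.injective, (hψ a ha).2, (hψ b hb).2,
      PolarTwins.Models.sp_commute_iff (hψ a ha).1 (hψ b hb).1, B_eq]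
  · have hinv : (CfsgLib.Sp.tmat (ψ a) (1 : ZMod 2))⁻¹ = CfsgLib.Sp.tmat (ψ a) 1 := by
      rw [← (hψ a ha).2, ← map_inv]
      refine congrArg e (inv_eq_of_mul_eq_one_right ?_)
      have h := (Cfsg.Agent.S0440.three_set (n := m)).1 _
        ((Cfsg.Agent.S0440.mem_D_iff _).2 ⟨_, (hψ a ha).1, rfl⟩)
      rw [← (hψ a ha).2, MulEquiv.orderOf_eq] at h
      rw [← pow_two, ← h, pow_orderOf_eq_one]
    have h := Cfsg.Agent.S0440.conj_cases (ψ a) (ψ b)
    rw [hinv] at h
    have hne : ψ b + Cfsg.sympForm m (ZMod 2) (ψ b) (ψ a) • ψ a ≠ 0 := by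
      intro k
      rcases Cfsg.Agent.S0440.zmod_two_cases (Cfsg.sympForm m (ZMod 2) (ψ b) (ψ a)) with h2 | h2
      · rw [h2, zero_smul, add_zero] at k; exact (hψ b hb).1 k
      · have e' : ψ b = ψ a := by
          rw [h2, one_smul] at k
          have := congrArg (· + ψ a) k
          simpa [add_assoc, ZModModule.add_self] using this
        rw [e', CfsgLib.Sp.sympForm_self] at h2
        exact zero_ne_one h2
    obtain ⟨x, hx, hxv⟩ := hsurj _ hne
    have hxe : x = a * b * a := e.injective (by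
      rw [(hψ x hx).2, hxv, map_mul, map_mul, (hψ a ha).2, (hψ b hb).2, h])
    rw [← hxe, hxv, B_eq, CfsgLib.Sp.sympForm_flip, CharTwo.neg_eq]

/-- The transpositions of six points have the symplectic model. -/
theorem sym_six_points (hK : KindSym E 6) : ∃ ψ, SympPts E (B 2) ψ := by
  obtain ⟨e, he⟩ := hK
  obtain ⟨e', he'⟩ := PolarTwins.Models.sp_of_points (m := 2)
    (group_of_class (Cfsg.Agent.S0439.result 6 (by norm_num))) (SmallIso.center_perm (by norm_num))
    (by norm_num) SmallIso.sixPhi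
    (by
      refine ⟨?_, ?_, ?_⟩
      · rintro _ ⟨i, j, hij, rfl⟩
        rw [(SmallIso.six_swap i j hij).1]
        exact (SmallIso.six_swap i j hij).2
      · rintro _ ⟨i, j, hij, rfl⟩ _ ⟨k, l, hkl, rfl⟩ h
        rw [(SmallIso.six_swap i j hij).1, (SmallIso.six_swap k l hkl).1] at h
        rcases SmallIso.six_inj i j k l hij hkl h with ⟨rfl, rfl⟩ | ⟨rfl, rfl⟩
        · rfl
        · exact Equiv.swap_comm _ _
      · intro v hv
        obtain ⟨i, j, hij, hv'⟩ := SmallIso.six_surj v hv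
        exact ⟨Equiv.swap i j, ⟨i, j, hij, rfl⟩, ((SmallIso.six_swap i j hij).1).trans hv'⟩)
    (by
      rintro _ ⟨i, j, hij, rfl⟩ _ ⟨k, l, hkl, rfl⟩
      rw [(SmallIso.six_swap i j hij).1, (SmallIso.six_swap k l hkl).1]
      exact SmallIso.six_comm i j k l hij hkl)
  exact sp_points (SmallIso.compose e he he')

/-- The two small classes which are five-dimensional reflection classes. -/
theorem small_points (hK : KindPSU E 4 ∨ KindOMinus E 2) :
    ∃ (Q : QuadraticForm (ZMod 3) (Fin 5 → ZMod 3)) (c : ZMod 3) (ψ : Y → Fin 5 → ZMod 3),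
      ReflPts E Q c ψ := by
  rcases hK with hK | hK
  · obtain ⟨Q, hQ, c, hc, hR, -⟩ := SmallIso.psu4_refl hK
    obtain ⟨ψ, hψ⟩ := refl_points Q c le_rfl hQ hc hR
    exact ⟨Q, c, ψ, hψ⟩
  · obtain ⟨Q, hQ, c, hc, hR, -⟩ := SmallIso.oMinus6_refl hK
    obtain ⟨ψ, hψ⟩ := refl_points Q c le_rfl hQ hc hR
    exact ⟨Q, c, ψ, hψ⟩

end CfsgLib.ThreeTrans.Classif.KindPts
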