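import Mathlib
import Cfsg.Agent.Lib.ThreeTrans.Classif.Params
import Cfsg.Agent.Lib.ThreeTrans.Classif.Points

/-!
The members commuting with two non-commuting members, seen in the class one level down.
-/

set_option autoImplicit false

namespace CfsgLib.ThreeTrans.Classif

open CfsgLib.ThreeTrans
open CfsgLib.ThreeTrans.LocalSymThree (nbr nbr_symm)
open CfsgLib.Sporadic

universe u v

/-- What is known of the image `S` of the members commuting with both of two non-commuting members. -/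
structure MuData {Y : Type v} [Group Y] (E S : Set Y) (m : ℕ) : Prop where
  sub : S ⊆ E
  ne : S.Nonempty
  card : S.ncard = m
  closed : ∀ a ∈ S, ∀ b ∈ S, a * b * a ∈ S
  /-- At a member of `S`, the rest of `S` commuting with it is an image of such a set of `E`. -/
  swap : ∀ a ∈ S, ∃ p ∈ E, ¬ Commute a p ∧ ∃ θ : Y → Y, Set.BijOn θ (nbr E a) (nbr E a) ∧
    (∀ u ∈ nbr E a, ∀ w ∈ nbr E a, (Commute (θ u) (θ w) ↔ Commute u w)) ∧
    (∀ u ∈ nbr E a, ∀ w ∈ nbr E a, θ (u * w * u) = θ u * θ w * θ u) ∧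
    S ∩ nbr E a = θ '' (nbr E a ∩ nbr E p)

variable {G : Type u} [Group G] [Finite G] {D : Set G} {Y : Type v} [Group Y] {E : Set Y} {f : G → Y}

/-- The image of the members commuting with `d` and `c` has these properties. -/
theorem muData (hG : Good D) {n k l m : ℕ} (P : Params D n k l m) (hm : 0 < m) {d c : G}
    (C : Chart D d f E) (hcD : c ∈ D) (hdc : ¬ Commute d c) :
    MuData E (f '' (nbr D d ∩ nbr D c)) m := by
  have hc := hG.set.hD.closed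
  have hd := C.mem
  have hinj : Set.InjOn f (nbr D d ∩ nbr D c) := C.bij.injOn.mono Set.inter_subset_left
  refine ⟨?_, ?_, ?_, ?_, ?_⟩
  · rintro _ ⟨y, hy, rfl⟩
    exact C.bij.mapsTo hy.1
  · refine ((Set.ncard_pos (Set.toFinite _)).1 ?_).image f
    rwa [P.mu d hd c hcD hdc]
  · rw [hinj.ncard_image, P.mu d hd c hcD hdc]
  · rintro _ ⟨a, ha, rfl⟩ _ ⟨b, hb, rfl⟩
    exact ⟨a * b * a, ⟨nbr_closed hc ha.1 hb.1, nbr_closed hc ha.2 hb.2⟩, C.conj a ha.1 b hb.1⟩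
  rintro _ ⟨a, ha, rfl⟩
  obtain ⟨g, hgd, hga⟩ := hG.set.pairConj_perp hd ha.1 ha.1.1 (nbr_symm hd ha.1)
  have hgd' : g⁻¹ * a * g = d := by rw [← hgd]; group
  have hga' : g⁻¹ * d * g = a := by rw [← hga]; group
  have hnc : g * c * g⁻¹ ∈ nbr D d := by
    refine ⟨hc.conj g c hcD, fun e => ha.2.2.1 ?_, ?_⟩
    · exact mul_left_cancel (mul_right_cancel (hga.trans e.symm))
    · rw [← hga, commute_conj_iff]; exact ha.2.2.2.symm
  refine ⟨f (g * c * g⁻¹), C.bij.mapsTo hnc, fun h => hdc ?_, ?_⟩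
  · rw [C.comm a ha.1 _ hnc, ← hgd, commute_conj_iff] at h
    exact h
  -- conjugation by `g⁻¹` keeps the members commuting with `d` and `a`
  have hN : ∀ y, y ∈ nbr D d ∩ nbr D a → g⁻¹ * y * g ∈ nbr D d ∩ nbr D a := by
    intro y hy
    have h1 := (InnerTwins.nbr_conj hc g⁻¹ a).symm ▸ Set.mem_image_of_mem (fun z => g⁻¹ * z * g⁻¹⁻¹) hy.2
    have h2 := (InnerTwins.nbr_conj hc g⁻¹ d).symm ▸ Set.mem_image_of_mem (fun z => g⁻¹ * z * g⁻¹⁻¹) hy.1
    rw [inv_inv] at h1 h2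
    rw [hgd'] at h1
    rw [hga'] at h2
    exact ⟨h1, h2⟩
  have hN' : ∀ y, y ∈ nbr D d ∩ nbr D a → g * y * g⁻¹ ∈ nbr D d ∩ nbr D a := by
    intro y hy
    have h1 := (InnerTwins.nbr_conj hc g a).symm ▸ Set.mem_image_of_mem (fun z => g * z * g⁻¹) hy.2
    have h2 := (InnerTwins.nbr_conj hc g d).symm ▸ Set.mem_image_of_mem (fun z => g * z * g⁻¹) hy.1
    rw [hga] at h1
    rw [hgd] at h2
    exact ⟨h1, h2⟩
  let inv := Function.invFunOn f (nbr D d)
  have hinv : ∀ y ∈ nbr D d, inv (f y) = y := fun y hy => C.bij.injOn.leftInvOn_invFunOn hy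
  let θ : Y → Y := fun e => f (g⁻¹ * inv e * g)
  have hθ : ∀ y ∈ nbr D d, θ (f y) = f (g⁻¹ * y * g) := fun y hy => by simp only [θ, hinv y hy]
  have himg := C.image_nbr ha.1
  refine ⟨θ, ⟨?_, ?_, ?_⟩, ?_, ?_, ?_⟩
  · intro e he
    rw [← himg] at he ⊢
    obtain ⟨y, hy, rfl⟩ := he
    exact ⟨_, hN y hy, (hθ y hy.1).symm⟩
  · intro e he e' he' h
    rw [← himg] at he he'
    obtain ⟨y, hy, rfl⟩ := he
    obtain ⟨y', hy', rfl⟩ := he'
    rw [hθ y hy.1, hθ y' hy'.1, C.inj (hN y hy).1 (hN y' hy').1] at h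
    rw [mul_left_cancel (mul_right_cancel h)]
  · intro e he
    rw [← himg] at he
    obtain ⟨y, hy, rfl⟩ := he
    refine ⟨f (g * y * g⁻¹), himg ▸ Set.mem_image_of_mem f (hN' y hy), ?_⟩
    rw [hθ _ (hN' y hy).1]
    congr 1
    group
  · intro u hu w hw
    rw [← himg] at hu hw
    obtain ⟨y, hy, rfl⟩ := hu
    obtain ⟨z, hz, rfl⟩ := hw
    rw [hθ y hy.1, hθ z hz.1, C.comm _ (hN y hy).1 _ (hN z hz).1, C.comm y hy.1 z hz.1]
    have := commute_conj_iff g⁻¹ y z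
    rwa [inv_inv] at this
  · intro u hu w hw
    rw [← himg] at hu hw
    obtain ⟨y, hy, rfl⟩ := hu
    obtain ⟨z, hz, rfl⟩ := hw
    rw [← C.conj y hy.1 z hz.1, hθ _ (nbr_closed hc hy.1 hz.1), hθ y hy.1, hθ z hz.1,
      ← C.conj _ (hN y hy).1 _ (hN z hz).1]
    congr 1
    group
  · rw [← himg, ← C.image_nbr hnc,
      ← C.bij.injOn.image_inter Set.inter_subset_left Set.inter_subset_left,
      ← C.bij.injOn.image_inter Set.inter_subset_left Set.inter_subset_left]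
    ext e
    constructor
    · rintro ⟨y, ⟨⟨hy1, hy2⟩, -, hy3⟩, rfl⟩
      refine ⟨f (g * y * g⁻¹), ⟨_, ⟨hN' y ⟨hy1, hy3⟩, (hN' y ⟨hy1, hy3⟩).1, ?_⟩, rfl⟩, ?_⟩
      · rw [InnerTwins.nbr_conj hc g c]
        exact Set.mem_image_of_mem _ hy2
      · rw [hθ _ (hN' y ⟨hy1, hy3⟩).1]
        congr 1
        group
    · rintro ⟨_, ⟨y, ⟨⟨hy1, hy3⟩, -, hy2⟩, rfl⟩, rfl⟩
      rw [InnerTwins.nbr_conj hc g c] at hy2
      obtain ⟨z, hz, rfl⟩ := hy2
      rw [hθ _ hy1]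
      have e : g⁻¹ * (g * z * g⁻¹) * g = z := by group
      have := hN _ ⟨hy1, hy3⟩
      rw [e] at this ⊢
      exact ⟨z, ⟨⟨this.1, hz⟩, this⟩, rfl⟩

end CfsgLib.ThreeTrans.Classif
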