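import Cfsg.Agent.Lib.ThreeTrans.Classif.SrgTrace

/-!
The possible numbers of common partners of two members which do not commute, for the values of the
other parameters met in the classification.
-/

set_option autoImplicit false

namespace CfsgLib.ThreeTrans.Classif

/-- The test at a divisor `d` of `k - l - 1`, standing for one more than the larger eigenvalue. -/
def srgTest (k l : ℕ) (ms : List ℕ) (d : ℕ) : Bool :=
  let N := k - l - 1
  let q := N / d
  let m := k - (d - 1) * (1 + q)
  let v : ℤ := (((k * N) / m + k + 1 : ℕ) : ℤ)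
  let e : ℤ := ((d + q : ℕ) : ℤ)
  let s : ℤ := -1 - (q : ℤ)
  decide (d * q = N → 2 ≤ d → 0 < m → (k * N) % m = 0 →
    (-(k : ℤ) - s * k) % e = 0 → (-(k : ℤ) - s * ((m : ℤ) - 1)) % e = 0 →
      ((v - 2 * k + l) - k - s * ((l : ℤ) + 1)) % e = 0 → m ∈ ms)

variable {G : Type*} [Group G] [Finite G] {D : Set G} {v k l m : ℕ}

/-- If every divisor passes the test, the parameter `m` is in the list. -/
theorem mem_of_srgTest (hG : Good D) (hP : Params D v k l m) (hm : 0 < m) (hmk : m < k)
    {ms : List ℕ} (B : ℕ) (hk : k ≠ 2 * (l + 1)) (hN : 0 < k - l - 1) (hB : k - l - 1 < (B + 1) * (B + 1))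
    (hall : (List.range (B + 1)).all (fun i => srgTest k l ms i && srgTest k l ms ((k - l - 1) / i)) = true) :
    m ∈ ms := by
  obtain ⟨r, s, hsum, hprod, hlt, d1, d2, d3⟩ := Params.divisibility hG hP hm hmk hk
  obtain ⟨hkv, hlk, heq⟩ := Params.card_eq hG hP hmk
  have hr : 0 < r ∧ s < 0 := by
    have h1 : r * s < 0 := by rw [hprod]; omega
    rcases mul_neg_iff.1 h1 with h | h
    · exact h
    · omega
  obtain ⟨d, hd⟩ : ∃ d : ℕ, (d : ℤ) = r + 1 := ⟨(r + 1).toNat, by omega⟩
  obtain ⟨q, hq⟩ : ∃ q : ℕ, (q : ℤ) = -s - 1 := ⟨(-s - 1).toNat, by omega⟩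
  have hdq : d * q = k - l - 1 := by
    have h1 : ((d * q : ℕ) : ℤ) = ((k - l - 1 : ℕ) : ℤ) := by
      push_cast [Nat.sub_sub, Nat.cast_sub hlk, hd, hq]
      linear_combination (-1 : ℤ) * hsum - hprod
    exact_mod_cast h1
  have hd2 : 2 ≤ d := by omega
  have htest : srgTest k l ms d = true := by
    rw [List.all_eq_true] at hall
    rcases le_or_gt d B with h | h
    · exact ((Bool.and_eq_true _ _).mp (hall d (List.mem_range.2 (by omega)))).1
    · have hq0 : 0 < q := Nat.pos_of_ne_zero fun e => by rw [e, mul_zero] at hdq; omega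
      have hqB : q ≤ B := by
        by_contra hqB
        have := Nat.mul_le_mul (show B + 1 ≤ d from h) (show B + 1 ≤ q by omega)
        omega
      have h1 := ((Bool.and_eq_true _ _).mp (hall q (List.mem_range.2 (by omega)))).2
      rwa [← hdq, Nat.mul_div_cancel _ hq0] at h1
  have hqd : (k - l - 1) / d = q := by rw [← hdq, Nat.mul_div_cancel_left _ (by omega)]
  have hmd : k - (d - 1) * (1 + q) = m := by
    have h1 : (((d - 1) * (1 + q) : ℕ) : ℤ) = (k : ℤ) - m := by
      push_cast [Nat.cast_sub (show 1 ≤ d by omega), hd, hq]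
      linear_combination (-1 : ℤ) * hprod
    omega
  have hv : (k * (k - l - 1)) / m + k + 1 = v := by
    rw [← heq, Nat.mul_div_cancel_left _ hm]
    omega
  have he : (((d + q : ℕ)) : ℤ) = r - s := by push_cast; omega
  have hs : (-1 - (q : ℤ)) = s := by omega
  simp only [srgTest, decide_eq_true_eq, hqd, hmd, hv, he, hs] at htest
  exact htest hdq hd2 hm (by rw [← heq]; exact Nat.mul_mod_right _ _) (Int.emod_eq_zero_of_dvd d1)
    (Int.emod_eq_zero_of_dvd d2) (Int.emod_eq_zero_of_dvd d3)

variable (hG : Good D) (hm : 0 < m)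
include hG hm

theorem mu_ten (hP : Params D v 10 3 m) (hmk : m < 10) : m = 6 :=
  List.mem_singleton.1 (mem_of_srgTest hG hP hm hmk 3 (by norm_num) (by norm_num) (by norm_num) (by decide +kernel))

theorem mu_fifteen (hP : Params D v 15 6 m) (hmk : m < 15) : m = 6 ∨ m = 10 := by
  simpa using mem_of_srgTest hG hP hm hmk (ms := [6, 10]) 3 (by norm_num) (by norm_num) (by norm_num) (by decide +kernel)

theorem mu_twentyEight (hP : Params D v 28 15 m) (hmk : m < 28) : m = 21 :=
  List.mem_singleton.1 (mem_of_srgTest hG hP hm hmk 3 (by norm_num) (by norm_num) (by norm_num) (by decide +kernel))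

theorem mu_thirtySix (hP : Params D v 36 15 m) (hmk : m < 36) : m = 9 :=
  List.mem_singleton.1 (mem_of_srgTest hG hP hm hmk 4 (by norm_num) (by norm_num) (by norm_num) (by decide +kernel))

theorem mu_fortyFive (hP : Params D v 45 12 m) (hmk : m < 45) : m = 10 ∨ m = 18 := by
  simpa using mem_of_srgTest hG hP hm hmk (ms := [10, 18]) 5 (by norm_num) (by norm_num) (by norm_num) (by decide +kernel)

theorem mu_sixtyThree (hP : Params D v 63 30 m) (hmk : m < 63) : m = 28 ∨ m = 36 := by
  simpa using mem_of_srgTest hG hP hm hmk (ms := [28, 36]) 5 (by norm_num) (by norm_num) (by norm_num) (by decide +kernel)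

theorem mu_oneSixtyFive (hP : Params D v 165 36 m) (hmk : m < 165) : m = 30 :=
  List.mem_singleton.1 (mem_of_srgTest hG hP hm hmk 11 (by norm_num) (by norm_num) (by norm_num) (by decide +kernel))

theorem mu_threeSixty (hP : Params D v 360 63 m) (hmk : m < 360) : m = 36 :=
  List.mem_singleton.1 (mem_of_srgTest hG hP hm hmk 17 (by norm_num) (by norm_num) (by norm_num) (by decide +kernel))

theorem mu_sixNinetyThree (hP : Params D v 693 180 m) (hmk : m < 693) : m = 126 :=
  List.mem_singleton.1 (mem_of_srgTest hG hP hm hmk 22 (by norm_num) (by norm_num) (by norm_num) (by decide +kernel))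

theorem not_threeTwoForty (hP : Params D v 3240 351 m) (hmk : m < 3240) : False :=
  List.not_mem_nil (mem_of_srgTest hG hP hm hmk (ms := []) 53 (by norm_num) (by norm_num) (by norm_num) (by decide +kernel))

theorem mu_threeFiveTen (hP : Params D v 3510 693 m) (hmk : m < 3510) : m = 351 :=
  List.mem_singleton.1 (mem_of_srgTest hG hP hm hmk 53 (by norm_num) (by norm_num) (by norm_num) (by decide +kernel))

theorem mu_threeOneSixSevenOne (hP : Params D v 31671 3510 m) (hmk : m < 31671) : m = 3240 :=
  List.mem_singleton.1 (mem_of_srgTest hG hP hm hmk 167 (by norm_num) (by norm_num) (by norm_num) (by decide +kernel))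

theorem not_threeOhSixNineThreeSix (hP : Params D v 306936 31671 m) (hmk : m < 306936) : False :=
  List.not_mem_nil (mem_of_srgTest hG hP hm hmk (ms := []) 524 (by norm_num) (by norm_num) (by norm_num) (by decide +kernel))

end CfsgLib.ThreeTrans.Classif
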