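import Mathlib
import Cfsg.Agent.Lib.ThreeTrans.Classif.MuSet
import Cfsg.Agent.Lib.ThreeTrans.Classif.SrgTables

/-!
The image of the members commuting with two non-commuting members is never of the required shape in
the class of isotropic points of a hermitian space of dimension at least eight over four elements;
in dimension seven the parameters are impossible.
-/

set_option autoImplicit false

namespace CfsgLib.ThreeTrans.Classif

open CfsgLib.ThreeTrans.LocalSymThree (nbr)

universe v w z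

/-- The isotropic points of a non-degenerate hermitian space over four elements. -/
structure UnitPts {Y : Type v} [Group Y] (E : Set Y) {F : Type z} [Field F] [Fintype F] {W : Type w}
    [AddCommGroup W] [Module F W] (B : W → W → F) (ψ : Y → W) : Prop where
  card : Fintype.card F = 4
  add_left : ∀ u u' x, B (u + u') x = B u x + B u' x
  smul_left : ∀ (c : F) u x, B (c • u) x = c * B u x
  herm : ∀ u x, B x u = B u x ^ 2
  sep : ∀ u, (∀ x, B u x = 0) → u = 0
  ne : ∀ a ∈ E, ψ a ≠ 0
  iso : ∀ a ∈ E, B (ψ a) (ψ a) = 0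
  inj : ∀ a ∈ E, ∀ b ∈ E, (∃ c : F, ψ b = c • ψ a) → a = b
  surj : ∀ x, x ≠ 0 → B x x = 0 → ∃ a ∈ E, ∃ c : F, x = c • ψ a
  comm : ∀ a ∈ E, ∀ b ∈ E, (Commute a b ↔ B (ψ a) (ψ b) = 0)
  conj : ∀ a ∈ E, ∀ b ∈ E, ∃ c : F, c ≠ 0 ∧ ψ (a * b * a) = c • (ψ b + B (ψ b) (ψ a) • ψ a)

variable {Y : Type v} [Group Y] {E S : Set Y} {F : Type z} [Field F] [Fintype F] {W : Type w}
  [AddCommGroup W] [Module F W] {B : W → W → F} {ψ : Y → W}

namespace UKill

/-! ### The field and the form -/

theorem charTwo (hE : UnitPts E B ψ) : CharP F 2 :=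
  ringChar.of_eq (FiniteField.even_card_iff_char_two.2 (by rw [hE.card]))

theorem sq_add (hE : UnitPts E B ψ) (x y : F) : (x + y) ^ 2 = x ^ 2 + y ^ 2 := by
  have := charTwo hE
  exact add_pow_char x y 2

theorem sq_sq (hE : UnitPts E B ψ) (x : F) : (x ^ 2) ^ 2 = x := by
  rw [← pow_mul]
  simpa [hE.card] using FiniteField.pow_card x

theorem add_right (hE : UnitPts E B ψ) (u x x' : W) : B u (x + x') = B u x + B u x' := by
  rw [hE.herm (x + x') u, hE.add_left, sq_add hE, ← hE.herm x u, ← hE.herm x' u]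

theorem smul_right (hE : UnitPts E B ψ) (c : F) (u x : W) : B u (c • x) = c ^ 2 * B u x := by
  rw [hE.herm (c • x) u, hE.smul_left, mul_pow, ← hE.herm x u]

theorem symm_zero (hE : UnitPts E B ψ) {u x : W} (h : B u x = 0) : B x u = 0 := by
  rw [hE.herm u x, h, zero_pow two_ne_zero]

theorem zero_left (hE : UnitPts E B ψ) (x : W) : B 0 x = 0 := by
  rw [← zero_smul F (0 : W), hE.smul_left, zero_mul]

theorem self_cases (hE : UnitPts E B ψ) (u : W) : B u u = 0 ∨ B u u = 1 := by
  have h := hE.herm u u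
  rcases mul_eq_zero.1 (show B u u * (B u u - 1) = 0 by rw [mul_sub, mul_one, ← sq, ← h, sub_self])
    with h' | h'
  · exact Or.inl h'
  · exact Or.inr (sub_eq_zero.1 h')

theorem exists_trace (hE : UnitPts E B ψ) {q : F} (hq : q = 0 ∨ q = 1) : ∃ t : F, t + t ^ 2 = q := by
  have := charTwo hE
  rcases hq with rfl | rfl
  · exact ⟨0, by simp⟩
  classical
  obtain ⟨t, ht⟩ : ∃ t : F, t ∉ ({0, 1} : Finset F) := by
    by_contra! h
    have := Finset.card_le_card (fun x (_ : x ∈ (Finset.univ : Finset F)) => h x)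
    rw [Finset.card_univ, hE.card, Finset.card_pair zero_ne_one] at this
    omega
  simp only [Finset.mem_insert, Finset.mem_singleton, not_or] at ht
  refine ⟨t, ?_⟩
  have h : (t + t ^ 2) ^ 2 = t + t ^ 2 := by rw [sq_add hE, sq_sq hE, add_comm]
  rcases mul_eq_zero.1 (show (t + t ^ 2) * (t + t ^ 2 - 1) = 0 by
    rw [mul_sub, mul_one, ← sq, h, sub_self]) with h' | h'
  · rcases mul_eq_zero.1 (show t * (1 + t) = 0 by rw [mul_add, mul_one, ← sq, h']) with k | k
    · exact absurd k ht.1
    · exact absurd (CharTwo.add_eq_zero.1 k).symm ht.2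
  · exact sub_eq_zero.1 h'

/-- The form represents every functional. -/
theorem exists_dual [Fintype W] (hE : UnitPts E B ψ) (f : W →ₗ[F] F) :
    ∃ u : W, ∀ x, B x u = f x := by
  let Φ : W → (W →ₗ[F] F) := fun u =>
    { toFun := fun x => B x u
      map_add' := fun x x' => hE.add_left x x' u
      map_smul' := fun c x => hE.smul_left c x u }
  have hinj : Function.Injective Φ := by
    intro u u' h
    have := charTwo hE
    have h2 : ∀ x, B x (u - u') = 0 := fun x => by
      have h3 : B x u = B x u' := LinearMap.congr_fun h x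
      have h4 : B x u = B x (u - u') + B x u' := by rw [← add_right hE, sub_add_cancel]
      rw [h3] at h4
      exact add_eq_right.1 h4.symm
    exact sub_eq_zero.1 (hE.sep _ fun x => symm_zero hE (h2 x))
  have : Finite (W →ₗ[F] F) := Finite.of_injective _ DFunLike.coe_injective
  let _ : Fintype (W →ₗ[F] F) := Fintype.ofFinite _
  have hcard : Fintype.card W = Fintype.card (W →ₗ[F] F) := by
    rw [Module.card_eq_pow_finrank (K := F) (V := W),
      Module.card_eq_pow_finrank (K := F) (V := W →ₗ[F] F), Subspace.dual_finrank_eq]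
  obtain ⟨u, hu⟩ := ((Fintype.bijective_iff_injective_and_card Φ).2 ⟨hinj, hcard⟩).2 f
  exact ⟨u, fun x => LinearMap.congr_fun hu x⟩

/-- The vectors on a member of `S`. -/
def Img (S : Set Y) (ψ : Y → W) (x : W) : Prop := ∃ e ∈ S, ∃ c : F, c ≠ 0 ∧ x = c • ψ e

theorem img_iff (hE : UnitPts E B ψ) (hS : S ⊆ E) {e : Y} (he : e ∈ E) {c : F} (hc : c ≠ 0) :
    Img (F := F) S ψ (c • ψ e) ↔ e ∈ S := by
  refine ⟨?_, fun h => ⟨e, h, c, hc, rfl⟩⟩
  rintro ⟨e', he', c', hc', h⟩
  have h' : ψ e' = (c'⁻¹ * c) • ψ e := by rw [mul_smul, h, inv_smul_smul₀ hc']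
  rwa [hE.inj e he e' (hS he') ⟨_, h'⟩]

theorem mem_nbr (hE : UnitPts E B ψ) {a e : Y} (ha : a ∈ E) :
    e ∈ nbr E a ↔ e ∈ E ∧ (∀ c : F, ψ e ≠ c • ψ a) ∧ B (ψ a) (ψ e) = 0 :=
  ⟨fun h => ⟨h.1, fun c k => h.2.1 (hE.inj a ha e h.1 ⟨c, k⟩).symm, (hE.comm a ha e h.1).1 h.2.2⟩,
    fun h => ⟨h.1, fun k => h.2.1 1 (by rw [k, one_smul]), (hE.comm a ha e h.1).2 h.2.2⟩⟩

/-! ### Twins are collinear -/

theorem twin_span [Fintype W] (hE : UnitPts E B ψ) {a y x : Y} (ha : a ∈ E) (hy : y ∈ nbr E a)
    (hx : x ∈ nbr E a) (h : ∀ e ∈ nbr E a, (Commute y e ↔ Commute x e)) :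
    ψ x ∈ Submodule.span F {ψ a, ψ y} := by
  have := charTwo hE
  by_contra hn
  obtain ⟨-, -, hay⟩ := (mem_nbr hE ha).1 hy
  obtain ⟨-, -, hax⟩ := (mem_nbr hE ha).1 hx
  have hyx : B (ψ y) (ψ x) = 0 :=
    symm_zero hE ((hE.comm x hx.1 y hy.1).1 ((h y hy).1 (Commute.refl y)))
  obtain ⟨f, hfx, hf⟩ := Submodule.exists_dual_map_eq_bot_of_notMem hn inferInstance
  have hf0 : ∀ u ∈ Submodule.span F {ψ a, ψ y}, f u = 0 := fun u hu => by
    have h' : f u ∈ Submodule.map f (Submodule.span F {ψ a, ψ y}) := Submodule.mem_map_of_mem hu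
    rwa [hf, Submodule.mem_bot] at h'
  obtain ⟨u, hu⟩ := exists_dual hE ((f (ψ x))⁻¹ • f)
  have hua : B (ψ a) u = 0 := by
    rw [hu, LinearMap.smul_apply, hf0 (ψ a) (Submodule.subset_span (by simp)), smul_zero]
  have huy : B (ψ y) u = 0 := by
    rw [hu, LinearMap.smul_apply, hf0 (ψ y) (Submodule.subset_span (by simp)), smul_zero]
  have hux : B (ψ x) u = 1 := by
    rw [hu, LinearMap.smul_apply, smul_eq_mul, inv_mul_cancel₀ hfx]
  obtain ⟨t, ht⟩ := exists_trace hE (self_cases hE u)
  set w := u + t • ψ x with hw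
  have hxw : B (ψ x) w = 1 := by
    rw [hw, add_right hE, smul_right hE, hE.iso x hx.1, hux, mul_zero, add_zero]
  have hyw : B (ψ y) w = 0 := by rw [hw, add_right hE, smul_right hE, huy, hyx, mul_zero, add_zero]
  have haw : B (ψ a) w = 0 := by rw [hw, add_right hE, smul_right hE, hua, hax, mul_zero, add_zero]
  have hww : B w w = 0 := by
    rw [hw, hE.add_left, add_right hE, add_right hE, hE.smul_left, hE.smul_left, smul_right hE,
      smul_right hE, hE.iso x hx.1, hux, show B u (ψ x) = 1 by rw [hE.herm (ψ x) u, hux, one_pow]]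
    calc B u u + t ^ 2 * 1 + (t * 1 + t * (t ^ 2 * 0)) = B u u + (t + t ^ 2) := by ring
      _ = 0 := by rw [ht]; exact CharTwo.add_self_eq_zero _
  have hw0 : w ≠ 0 := fun k => by
    rw [k] at hxw
    rw [hE.herm 0 (ψ x), zero_left hE, zero_pow two_ne_zero] at hxw
    exact zero_ne_one hxw
  obtain ⟨e, he, c, hc⟩ := hE.surj w hw0 hww
  have hc0 : c ≠ 0 := fun k => hw0 (by rw [hc, k, zero_smul])
  rw [hc, smul_right hE] at hxw hyw haw
  have hea : e ∈ nbr E a := by
    refine (mem_nbr hE ha).2 ⟨he, fun d k => ?_, (mul_eq_zero.1 haw).resolve_left (pow_ne_zero 2 hc0)⟩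
    rw [k, smul_right hE, symm_zero hE hax, mul_zero, mul_zero] at hxw
    exact zero_ne_one hxw
  have h1 : Commute y e :=
    (hE.comm y hy.1 e he).2 ((mul_eq_zero.1 hyw).resolve_left (pow_ne_zero 2 hc0))
  rw [(hE.comm x hx.1 e he).1 ((h e hea).1 h1), mul_zero] at hxw
  exact zero_ne_one hxw

/-- On a line through a member of `S` exactly one further point belongs to `S`. -/
theorem exists_unique_img [Fintype W] (hE : UnitPts E B ψ) {m : ℕ} (hS : MuData E S m) {a : Y}
    (ha : a ∈ S) {x : W} (hxx : B x x = 0) (hax : B (ψ a) x = 0) (hn : ∀ c : F, x ≠ c • ψ a) :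
    ∃! t : F, Img (F := F) S ψ (x + t • ψ a) := by
  have haE := hS.sub ha
  obtain ⟨p, hpE, hap, θ, hθ, hθc, -, himg⟩ := hS.swap a ha
  have haa := hE.iso a haE
  have hBap : B (ψ a) (ψ p) ≠ 0 := fun k => hap ((hE.comm a haE p hpE).2 k)
  have hne : ∀ t : F, x + t • ψ a ≠ 0 := fun t k => hn (-t) (by
    rw [neg_smul]; exact eq_neg_of_add_eq_zero_left k)
  have hiso : ∀ t : F, B (x + t • ψ a) (x + t • ψ a) = 0 := fun t => by
    simp only [hE.add_left, add_right hE, hE.smul_left, smul_right hE, hxx, hax, haa,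
      symm_zero hE hax, mul_zero, add_zero]
  choose y hy c hc using fun t => hE.surj _ (hne t) (hiso t)
  have hc0 : ∀ t, c t ≠ 0 := fun t k => hne t (by rw [hc t, k, zero_smul])
  have hyN : ∀ t, y t ∈ nbr E a := by
    intro t
    refine (mem_nbr hE haE).2 ⟨hy t, fun d k => hn (c t * d - t) ?_, ?_⟩
    · rw [sub_smul, mul_smul, ← k, ← hc t, add_sub_cancel_right]
    · have h := congrArg (B (ψ a)) (hc t)
      rw [add_right hE, smul_right hE, smul_right hE, hax, haa, mul_zero, add_zero] at h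
      exact (mul_eq_zero.1 h.symm).resolve_left (pow_ne_zero 2 (hc0 t))
  choose y' hy' hyy using fun t => hθ.surjOn (hyN t)
  have htw : ∀ t, ∀ e ∈ nbr E a, (Commute (y' 0) e ↔ Commute (y' t) e) := by
    intro t e he
    rw [← hθc _ (hy' 0) e he, ← hθc _ (hy' t) e he, hyy, hyy]
    have he' := (mem_nbr hE haE).1 (hθ.mapsTo he)
    have key : ∀ s, (Commute (y s) (θ e) ↔ B x (ψ (θ e)) = 0) := fun s => by
      have h : B (x + s • ψ a) (ψ (θ e)) = B x (ψ (θ e)) := by
        rw [hE.add_left, hE.smul_left, he'.2.2, mul_zero, add_zero]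
      rw [hc s, hE.smul_left] at h
      rw [hE.comm _ (hy s) _ he'.1, ← h, mul_eq_zero]
      exact ⟨Or.inr, fun k => k.resolve_left (hc0 s)⟩
    rw [key 0, key t]
  -- the points before applying `θ`
  have hcoord : ∀ t, ∃ d r : F, d ≠ 0 ∧ ψ (y' t) = d • (ψ (y' 0) + r • ψ a) := by
    intro t
    obtain ⟨s, d, hsd⟩ :=
      Submodule.mem_span_pair.1 (twin_span hE haE (hy' 0) (hy' t) (htw t))
    have hd : d ≠ 0 := fun k => by
      rw [k, zero_smul, add_zero] at hsd
      exact ((mem_nbr hE haE).1 (hy' t)).2.1 s hsd.symm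
    refine ⟨d, d⁻¹ * s, hd, ?_⟩
    rw [smul_add, ← mul_smul, mul_inv_cancel_left₀ hd, add_comm, hsd]
  choose d r hd hr using hcoord
  have hrinj : Function.Injective r := by
    intro s t hst
    have h1 : y' s = y' t := hE.inj _ (hy' s).1 _ (hy' t).1 ⟨d t * (d s)⁻¹, by
      rw [hr t, hr s, hst, mul_smul, inv_smul_smul₀ (hd s)]⟩
    have h2 : y s = y t := by rw [← hyy s, h1, hyy t]
    have h3 := congrArg₂ (· - ·) (hc s) (hc t)
    simp only [h2, add_sub_add_left_eq_sub, ← sub_smul] at h3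
    by_contra hne'
    refine ((mem_nbr hE haE).1 (hyN t)).2.1 ((c s - c t)⁻¹ * (s - t)) ?_
    rw [mul_smul, h3, inv_smul_smul₀]
    intro k
    rw [k, zero_smul, smul_eq_zero, sub_eq_zero] at h3
    exact h3.elim hne' (hE.ne a haE)
  have hmem : ∀ t, Img (F := F) S ψ (x + t • ψ a) ↔
      B (ψ (y' 0)) (ψ p) + r t * B (ψ a) (ψ p) = 0 := by
    intro t
    rw [hc t, img_iff hE hS.sub (hy t) (hc0 t)]
    have h : B (ψ (y' t)) (ψ p) = 0 ↔ B (ψ (y' 0)) (ψ p) + r t * B (ψ a) (ψ p) = 0 := by
      rw [hr t, hE.smul_left, hE.add_left, hE.smul_left, mul_eq_zero]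
      exact ⟨fun k => k.resolve_left (hd t), Or.inr⟩
    rw [← h]
    constructor
    · intro hS'
      obtain ⟨u, hu, huy⟩ : y t ∈ θ '' (nbr E a ∩ nbr E p) := himg ▸ ⟨hS', hyN t⟩
      rw [← hθ.injOn hu.1 (hy' t) (huy.trans (hyy t).symm)]
      exact symm_zero hE ((hE.comm p hpE u hu.1.1).1 hu.2.2.2)
    · intro k
      refine (himg.symm ▸ ⟨y' t, ⟨hy' t, (hy' t).1, fun e => hap ?_,
        (hE.comm p hpE _ (hy' t).1).2 (symm_zero hE k)⟩, hyy t⟩ : y t ∈ S ∩ nbr E a).1
      exact e ▸ (hy' t).2.2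
  obtain ⟨t, ht⟩ := (Finite.injective_iff_surjective.1 hrinj) (-(B (ψ (y' 0)) (ψ p) / B (ψ a) (ψ p)))
  refine ⟨t, (hmem t).2 ?_, fun s hs => hrinj ?_⟩
  · rw [ht, neg_mul, div_mul_cancel₀ _ hBap, add_neg_cancel]
  · rw [ht, ← neg_div, eq_div_iff hBap]
    exact eq_neg_of_add_eq_zero_right ((hmem s).1 hs)

/-! ### A totally isotropic subspace of dimension four -/

theorem exists_grow [Fintype W] (hE : UnitPts E B ψ) (hdim : 8 ≤ Module.finrank F W)
    {U : Submodule F W} (hk : Module.finrank F U ≤ 3) :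
    ∃ x ∉ U, B x x = 0 ∧ ∀ u ∈ U, B x u = 0 := by
  have := charTwo hE
  obtain ⟨k, b, -⟩ : ∃ k, ∃ b : Module.Basis (Fin k) F U, k = Module.finrank F U :=
    ⟨_, Module.finBasis F U, rfl⟩
  have hk' : k ≤ 3 := by
    have := Module.finrank_eq_card_basis b
    simp only [Fintype.card_fin] at this
    omega
  let lf : W → (W →ₗ[F] F) := fun u =>
    { toFun := fun x => B x u
      map_add' := fun x x' => hE.add_left x x' u
      map_smul' := fun c x => hE.smul_left c x u }
  let Φ : W →ₗ[F] (Fin k → F) := LinearMap.pi fun i => lf (b i : W)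
  have hperp : ∀ x ∈ LinearMap.ker Φ, ∀ u ∈ U, B x u = 0 := by
    intro x hx u hu
    have hb : ∀ i, B (b i : W) x = 0 := fun i => symm_zero hE (congrFun (LinearMap.mem_ker.1 hx) i)
    have h : ((lf x).comp U.subtype) = 0 := b.ext fun i => hb i
    exact symm_zero hE (LinearMap.congr_fun h ⟨u, hu⟩)
  have hker : Module.finrank F W ≤ Module.finrank F (LinearMap.ker Φ) + k := by
    have := Φ.finrank_range_add_finrank_ker
    have h1 : Module.finrank F (LinearMap.range Φ) ≤ k := by
      simpa using Submodule.finrank_le (LinearMap.range Φ)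
    omega
  obtain ⟨x, hx, hxU⟩ : ∃ x ∈ LinearMap.ker Φ, x ∉ U := by
    by_contra! h
    have := Submodule.finrank_mono h
    omega
  rcases self_cases hE x with h0 | h1
  · exact ⟨x, hxU, h0, hperp x hx⟩
  obtain ⟨x', hx', hx'x, hx'U⟩ : ∃ x' ∈ LinearMap.ker Φ, B x' x = 0 ∧ x' ∉ U := by
    by_contra! h
    let g := (lf x).comp (LinearMap.ker Φ).subtype
    have h' : Submodule.map (LinearMap.ker Φ).subtype (LinearMap.ker g) ≤ U := by
      rintro _ ⟨q, hq, rfl⟩
      exact h _ q.2 (LinearMap.mem_ker.1 hq)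
    have := Submodule.finrank_mono h'
    rw [Submodule.finrank_map_subtype_eq] at this
    have := g.finrank_range_add_finrank_ker
    have h2 : Module.finrank F (LinearMap.range g) ≤ 1 := by
      simpa using Submodule.finrank_le (LinearMap.range g)
    omega
  rcases self_cases hE x' with h0' | h1'
  · exact ⟨x', hx'U, h0', hperp x' hx'⟩
  refine ⟨x + x', fun hm => ?_, ?_, fun u hu => ?_⟩
  · have h := symm_zero hE (hperp x hx _ hm)
    rw [hE.add_left, h1, hx'x, add_zero] at h
    exact one_ne_zero h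
  · rw [hE.add_left, add_right hE, add_right hE, h1, h1', hx'x, symm_zero hE hx'x, add_zero,
      zero_add]
    exact CharTwo.add_self_eq_zero 1
  · rw [hE.add_left, hperp x hx u hu, hperp x' hx' u hu, add_zero]

/-- The new subspace is totally isotropic again. -/
theorem isotropic_sup (hE : UnitPts E B ψ) {U : Submodule F W} {x : W}
    (hU : ∀ u ∈ U, ∀ u' ∈ U, B u u' = 0) (hxx : B x x = 0) (hxU : ∀ u ∈ U, B x u = 0) :
    ∀ u ∈ U ⊔ Submodule.span F {x}, ∀ u' ∈ U ⊔ Submodule.span F {x}, B u u' = 0 := by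
  intro u hu u' hu'
  obtain ⟨u₁, hu₁, _, hc, rfl⟩ := Submodule.mem_sup.1 hu
  obtain ⟨u₂, hu₂, _, hc', rfl⟩ := Submodule.mem_sup.1 hu'
  obtain ⟨c, rfl⟩ := Submodule.mem_span_singleton.1 hc
  obtain ⟨c', rfl⟩ := Submodule.mem_span_singleton.1 hc'
  simp only [hE.add_left, add_right hE, hE.smul_left, smul_right hE, hU u₁ hu₁ u₂ hu₂, hxx,
    hxU u₂ hu₂, symm_zero hE (hxU u₁ hu₁), mul_zero, add_zero]

theorem finrank_sup_span [Fintype W] {U : Submodule F W} {x : W} (hx : x ∉ U) :
    Module.finrank F ↥(U ⊔ Submodule.span F {x}) = Module.finrank F U + 1 := by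
  have hx0 : x ≠ 0 := fun k => hx (k ▸ zero_mem _)
  have h := Submodule.finrank_sup_add_finrank_inf_eq U (Submodule.span F {x})
  rw [((Submodule.disjoint_span_singleton' hx0).2 hx).eq_bot, finrank_bot, finrank_span_singleton hx0,
    add_zero] at h
  exact h

theorem exists_four [Fintype W] (hE : UnitPts E B ψ) (hdim : 8 ≤ Module.finrank F W) {a : Y}
    (ha : a ∈ E) : ∃ L : Submodule F W, Module.finrank F L = 4 ∧ ψ a ∈ L ∧
      ∀ u ∈ L, ∀ u' ∈ L, B u u' = 0 := by
  have key : ∀ j, j ≤ 3 → ∃ L : Submodule F W, Module.finrank F L = j + 1 ∧ ψ a ∈ L ∧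
      ∀ u ∈ L, ∀ u' ∈ L, B u u' = 0 := by
    intro j
    induction j with
    | zero =>
      refine fun _ => ⟨Submodule.span F {ψ a}, finrank_span_singleton (hE.ne a ha),
        Submodule.mem_span_singleton_self _, fun u hu u' hu' => ?_⟩
      obtain ⟨c, rfl⟩ := Submodule.mem_span_singleton.1 hu
      obtain ⟨c', rfl⟩ := Submodule.mem_span_singleton.1 hu'
      rw [hE.smul_left, smul_right hE, hE.iso a ha, mul_zero, mul_zero]
    | succ j ih =>
      intro hj
      obtain ⟨L, hL, hLa, hLi⟩ := ih (by omega)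
      obtain ⟨x, hxL, hxx, hxU⟩ := exists_grow hE hdim (U := L) (by omega)
      exact ⟨_, by rw [finrank_sup_span hxL, hL], Submodule.mem_sup_left hLa,
        isotropic_sup hE hLi hxx hxU⟩
  exact key 3 le_rfl

/-! ### Counting in the subspace -/

theorem card_mem [Fintype W] [DecidableEq W] (hF : Fintype.card F = 4) (V : Submodule F W)
    [DecidablePred (· ∈ V)] :
    (Finset.univ.filter (· ∈ V)).card = 4 ^ Module.finrank F V := by
  rw [← Fintype.card_subtype, ← hF]
  exact Module.card_eq_pow_finrank (K := F) (V := V)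

theorem sup_span_eq {M : Submodule F W} {x x' : W} (h : x' ∈ M ⊔ Submodule.span F {x})
    (hx' : x' ∉ M) : M ⊔ Submodule.span F {x'} = M ⊔ Submodule.span F {x} := by
  refine le_antisymm (sup_le le_sup_left ((Submodule.span_singleton_le_iff_mem _ _).2 h))
    (sup_le le_sup_left ((Submodule.span_singleton_le_iff_mem _ _).2 ?_))
  obtain ⟨u, hu, _, hc, rfl⟩ := Submodule.mem_sup.1 h
  obtain ⟨c, rfl⟩ := Submodule.mem_span_singleton.1 hc
  have hc0 : c ≠ 0 := fun k => hx' (by rw [k, zero_smul, add_zero]; exact hu)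
  have key : c⁻¹ • ((u + c • x) - u) ∈ M ⊔ Submodule.span F {u + c • x} :=
    Submodule.smul_mem _ _ (sub_mem
      (Submodule.mem_sup_right (Submodule.mem_span_singleton_self _)) (Submodule.mem_sup_left hu))
  rwa [add_sub_cancel_left, inv_smul_smul₀ hc0] at key

/-- In a space of four dimensions no set of vectors meets every line through one of its points in
two points. -/
theorem no_cap [Fintype W] [DecidableEq W] (hF : Fintype.card F = 4) (L : Submodule F W)
    (hL : Module.finrank F L = 4) (T : Finset W) (hTL : ∀ t ∈ T, t ∈ L) (h0 : (0 : W) ∉ T)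
    (hsm : ∀ t ∈ T, ∀ c : F, c ≠ 0 → c • t ∈ T) (hne : T.Nonempty)
    (hone : ∀ t ∈ T, ∀ x ∈ L, x ∉ Submodule.span F {t} → ∃! c : F, x + c • t ∈ T) : False := by
  classical
  have hcount : ∀ (V : Submodule F W), V ≤ L → ∀ t ∈ T, t ∈ V →
      4 * (T.filter (· ∈ V)).card = 4 ^ Module.finrank F V + 8 := by
    intro V hV t ht htV
    have ht0 : t ≠ 0 := fun k => h0 (k ▸ ht)
    set P := Submodule.span F {t} with hP
    have hPV : P ≤ V := (Submodule.span_singleton_le_iff_mem _ _).2 htV
    have hin : ((T.filter (· ∈ V)).filter (· ∈ P)) = (Finset.univ.filter (· ∈ P)).erase 0 := by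
      ext x
      simp only [Finset.mem_filter, Finset.mem_erase, Finset.mem_univ, true_and]
      constructor
      · exact fun h => ⟨fun k => h0 (k ▸ h.1.1), h.2⟩
      · rintro ⟨hx0, hx⟩
        refine ⟨⟨?_, hPV hx⟩, hx⟩
        obtain ⟨c, rfl⟩ := Submodule.mem_span_singleton.1 hx
        exact hsm t ht c fun k => hx0 (by rw [k, zero_smul])
    have hPc : (Finset.univ.filter (· ∈ P)).card = 4 := by
      rw [card_mem hF, hP, finrank_span_singleton ht0, pow_one]
    have hbij : (((T.filter (· ∈ V)).filter (· ∉ P)) ×ˢ (Finset.univ : Finset F)).card =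
        ((Finset.univ.filter (· ∈ V)).filter (· ∉ P)).card := by
      refine Finset.card_bij (fun z _ => z.1 + z.2 • t) ?_ ?_ ?_
      · rintro ⟨x, c⟩ hz
        simp only [Finset.mem_product, Finset.mem_filter, Finset.mem_univ, and_true, true_and] at hz ⊢
        refine ⟨add_mem hz.1.2 (Submodule.smul_mem _ _ htV), fun k => hz.2 ?_⟩
        simpa using sub_mem k (Submodule.smul_mem P c (Submodule.mem_span_singleton_self t))
      · rintro ⟨x, c⟩ hz ⟨x', c'⟩ hz' h
        simp only [Finset.mem_product, Finset.mem_filter, Finset.mem_univ, and_true] at hz hz'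
        simp only at h
        have hx' : x' = x + (c - c') • t := by
          rw [sub_smul, ← add_sub_assoc, h, add_sub_cancel_right]
        obtain ⟨d, -, huniq⟩ := hone t ht x (hTL x hz.1.1) hz.2
        have e : c - c' = 0 :=
          (huniq _ (show x + (c - c') • t ∈ T from hx' ▸ hz'.1.1)).trans (huniq 0 (by simpa using hz.1.1)).symm
        rw [e, zero_smul, add_zero] at hx'
        rw [hx', sub_eq_zero.1 e]
      · intro x hx
        simp only [Finset.mem_filter, Finset.mem_univ, true_and] at hx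
        obtain ⟨c, hc, -⟩ := hone t ht x (hV hx.1) hx.2
        refine ⟨(x + c • t, -c), ?_, by simp⟩
        simp only [Finset.mem_product, Finset.mem_filter, Finset.mem_univ, and_true]
        refine ⟨⟨hc, add_mem hx.1 (Submodule.smul_mem _ _ htV)⟩, fun k => hx.2 ?_⟩
        simpa using sub_mem k (Submodule.smul_mem P c (Submodule.mem_span_singleton_self t))
    rw [Finset.card_product, Finset.card_univ, hF] at hbij
    have h1 := Finset.card_filter_add_card_filter_not (s := T.filter (· ∈ V)) (· ∈ P)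
    rw [hin, Finset.card_erase_of_mem (by simp), hPc] at h1
    have h2 := Finset.card_filter_add_card_filter_not (s := Finset.univ.filter (· ∈ V)) (· ∈ P)
    have h3 : (Finset.univ.filter (· ∈ V)).filter (· ∈ P) = Finset.univ.filter (· ∈ P) := by
      ext x
      simp only [Finset.mem_filter, Finset.mem_univ, true_and]
      exact ⟨And.right, fun h => ⟨hPV h, h⟩⟩
    rw [h3, hPc, card_mem hF] at h2
    omega
  -- the pieces of a set over a subspace missing `T`
  have hfib : ∀ (M : Submodule F W) (A : Finset W) (N : ℕ), (∀ x ∈ A, x ∉ M) →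
      (∀ x ∈ A, (A.filter (· ∈ M ⊔ Submodule.span F {x})).card = N) →
      A.card = (A.image fun x => M ⊔ Submodule.span F {x}).card * N := by
    intro M A N hA hN
    rw [Finset.card_eq_sum_card_image (fun x => M ⊔ Submodule.span F {x}) A,
      Finset.sum_const_nat]
    intro V hV
    obtain ⟨x, hx, rfl⟩ := Finset.mem_image.1 hV
    rw [← hN x hx]
    congr 1
    ext x'
    simp only [Finset.mem_filter, and_congr_right_iff]
    exact fun hx' => ⟨fun h => h ▸ Submodule.mem_sup_right (Submodule.mem_span_singleton_self _),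
      fun h => sup_span_eq h (hA x' hx')⟩
  obtain ⟨a, ha⟩ := hne
  have ha0 : a ≠ 0 := fun k => h0 (k ▸ ha)
  have hTcard : T.card = 66 := by
    have := hcount L le_rfl a ha (hTL a ha)
    rw [Finset.filter_eq_self.2 hTL, hL] at this
    omega
  -- a plane on `a`
  obtain ⟨b, hb, hba⟩ : ∃ b ∈ L, b ∉ Submodule.span F {a} := by
    by_contra! h
    have := Submodule.finrank_mono h
    rw [hL, finrank_span_singleton ha0] at this
    omega
  obtain ⟨b', hb', hb'a⟩ : ∃ b' ∈ L, b' ∉ Submodule.span F {a} ⊔ Submodule.span F {b} := by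
    by_contra! h
    have := Submodule.finrank_mono h
    rw [hL, finrank_sup_span hba, finrank_span_singleton ha0] at this
    omega
  set π := Submodule.span F {a} ⊔ Submodule.span F {b} ⊔ Submodule.span F {b'} with hπ
  have hπd : Module.finrank F π = 3 := by
    rw [hπ, finrank_sup_span hb'a, finrank_sup_span hba, finrank_span_singleton ha0]
  have hπL : π ≤ L := by
    simp only [hπ, sup_le_iff, Submodule.span_singleton_le_iff_mem]
    exact ⟨⟨hTL a ha, hb⟩, hb'⟩
  have haπ : a ∈ π :=
    Submodule.mem_sup_left (Submodule.mem_sup_left (Submodule.mem_span_singleton_self a))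
  have hTπ : (T.filter (· ∈ π)).card = 18 := by
    have := hcount π hπL a ha haπ
    rw [hπd] at this
    omega
  obtain ⟨x, hxπ, hxT, hx0⟩ : ∃ x ∈ π, x ∉ T ∧ x ≠ 0 := by
    by_contra! h
    have h1 : (Finset.univ.filter (· ∈ π)).erase 0 ⊆ T.filter (· ∈ π) := fun x hx => by
      simp only [Finset.mem_erase, Finset.mem_filter, Finset.mem_univ, true_and] at hx ⊢
      exact ⟨by_contra fun k => hx.1 (h x hx.2 k), hx.2⟩
    have h2 := Finset.card_le_card h1
    rw [Finset.card_erase_of_mem (by simp), card_mem hF, hπd, hTπ] at h2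
    omega
  set M := Submodule.span F {x} with hM
  have hMd : Module.finrank F M = 1 := finrank_span_singleton hx0
  have hMT : ∀ t ∈ T, t ∉ M := by
    intro t ht htM
    obtain ⟨c, rfl⟩ := Submodule.mem_span_singleton.1 htM
    have hc : c ≠ 0 := fun k => h0 (by simpa [k] using ht)
    exact hxT (by simpa [inv_smul_smul₀ hc] using hsm _ ht c⁻¹ (inv_ne_zero hc))
  have hMπ : M ≤ π := (Submodule.span_singleton_le_iff_mem _ _).2 hxπ
  -- a line missing `T`
  obtain ⟨u, hu, huM, hux⟩ : ∃ u ∈ π, u ∉ M ∧ ∀ t ∈ T, t ∉ M ⊔ Submodule.span F {u} := by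
    by_contra! hno
    set A := (Finset.univ.filter (· ∈ π)).filter (· ∉ M) with hA
    have hA' : ∀ {u}, u ∈ A → u ∈ π ∧ u ∉ M := fun h => by simpa [hA] using h
    have hAc : A.card = 60 := by
      have h2 := Finset.card_filter_add_card_filter_not (s := Finset.univ.filter (· ∈ π)) (· ∈ M)
      have h3 : (Finset.univ.filter (· ∈ π)).filter (· ∈ M) = Finset.univ.filter (· ∈ M) := by
        ext u
        simp only [Finset.mem_filter, Finset.mem_univ, true_and]
        exact ⟨And.right, fun h => ⟨hMπ h, h⟩⟩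
      rw [h3, card_mem hF, card_mem hF, hπd, hMd, ← hA] at h2
      omega
    have hle : ∀ {u}, u ∈ π → M ⊔ Submodule.span F {u} ≤ π := fun h =>
      sup_le hMπ ((Submodule.span_singleton_le_iff_mem _ _).2 h)
    have h12 := hfib M A 12 (fun u hu => (hA' hu).2) fun u hu => by
      obtain ⟨huπ, huM⟩ := hA' hu
      have h2 := Finset.card_filter_add_card_filter_not
        (s := Finset.univ.filter (· ∈ M ⊔ Submodule.span F {u})) (· ∈ M)
      have h3 : (Finset.univ.filter (· ∈ M ⊔ Submodule.span F {u})).filter (· ∈ M) =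
          Finset.univ.filter (· ∈ M) := by
        ext q
        simp only [Finset.mem_filter, Finset.mem_univ, true_and]
        exact ⟨And.right, fun h => ⟨Submodule.mem_sup_left h, h⟩⟩
      have h4 : A.filter (· ∈ M ⊔ Submodule.span F {u}) =
          (Finset.univ.filter (· ∈ M ⊔ Submodule.span F {u})).filter (· ∉ M) := by
        ext q
        simp only [hA, Finset.mem_filter, Finset.mem_univ, true_and]
        exact ⟨fun h => ⟨h.2, h.1.2⟩, fun h => ⟨⟨hle huπ h.1, h.2⟩, h.1⟩⟩
      rw [h3, card_mem hF, card_mem hF, finrank_sup_span huM, hMd, ← h4] at h2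
      omega
    have h6 := hfib M (T.filter (· ∈ π)) 6 (fun t ht => hMT t (Finset.mem_filter.1 ht).1)
      fun t ht => by
        obtain ⟨htT, htπ⟩ := Finset.mem_filter.1 ht
        have h4 : (T.filter (· ∈ π)).filter (· ∈ M ⊔ Submodule.span F {t}) =
            T.filter (· ∈ M ⊔ Submodule.span F {t}) := by
          ext q
          simp only [Finset.mem_filter]
          exact ⟨fun h => ⟨h.1.1, h.2⟩, fun h => ⟨⟨h.1, hle htπ h.2⟩, h.2⟩⟩
        have := hcount _ ((hle htπ).trans hπL) t htT
          (Submodule.mem_sup_right (Submodule.mem_span_singleton_self t))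
        rw [finrank_sup_span (hMT t htT), hMd] at this
        rw [h4]
        omega
    have himg : A.image (fun u => M ⊔ Submodule.span F {u}) =
        (T.filter (· ∈ π)).image (fun u => M ⊔ Submodule.span F {u}) := by
      ext V
      simp only [Finset.mem_image]
      constructor
      · rintro ⟨u, hu, rfl⟩
        obtain ⟨t, ht, htu⟩ := hno u (hA' hu).1 (hA' hu).2
        exact ⟨t, Finset.mem_filter.2 ⟨ht, hle (hA' hu).1 htu⟩, sup_span_eq htu (hMT t ht)⟩
      · rintro ⟨t, ht, rfl⟩
        obtain ⟨htT, htπ⟩ := Finset.mem_filter.1 ht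
        exact ⟨t, by simp [hA, htπ, hMT t htT], rfl⟩
    rw [hAc, himg] at h12
    rw [hTπ] at h6
    omega
  set ℓ := M ⊔ Submodule.span F {u} with hℓ
  have hℓd : Module.finrank F ℓ = 2 := by rw [hℓ, finrank_sup_span huM, hMd]
  have hℓL : ℓ ≤ L := (sup_le hMπ ((Submodule.span_singleton_le_iff_mem _ _).2 hu)).trans hπL
  have h18 := hfib ℓ T 18 hux fun t ht => by
    have := hcount _ (sup_le hℓL ((Submodule.span_singleton_le_iff_mem _ _).2 (hTL t ht))) t ht
      (Submodule.mem_sup_right (Submodule.mem_span_singleton_self t))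
    rw [finrank_sup_span (hux t ht), hℓd] at this
    omega
  omega

end UKill

open UKill in
/-- No set has the required shape in the class of isotropic points, in dimension at least eight. -/
theorem not_unitary (hE : UnitPts E B ψ) (hdim : 8 ≤ Module.finrank F W) {m : ℕ}
    (hS : MuData E S m) : False := by
  classical
  have : Module.Finite F W := Module.finite_of_finrank_pos (by omega)
  have : Finite W := Module.finite_of_finite F
  let _ : Fintype W := Fintype.ofFinite W
  obtain ⟨a, ha⟩ := hS.ne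
  obtain ⟨L, hL, haL, hLi⟩ := exists_four hE hdim (hS.sub ha)
  refine no_cap hE.card L hL (Finset.univ.filter fun x => x ∈ L ∧ Img (F := F) S ψ x) ?_ ?_ ?_
    ⟨ψ a, by simpa using ⟨haL, a, ha, 1, one_ne_zero, (one_smul F _).symm⟩⟩ ?_
  · exact fun t ht => (Finset.mem_filter.1 ht).2.1
  · rintro h
    obtain ⟨-, -, e, he, c, hc, h⟩ := Finset.mem_filter.1 h
    exact (smul_eq_zero.1 h.symm).elim hc (hE.ne e (hS.sub he))
  · intro t ht d hd
    simp only [Finset.mem_filter, Finset.mem_univ, true_and] at ht ⊢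
    obtain ⟨htL, e, he, c, hc, rfl⟩ := ht
    exact ⟨Submodule.smul_mem _ _ htL, e, he, d * c, mul_ne_zero hd hc, smul_smul _ _ _⟩
  · intro t ht x hx hxt
    simp only [Finset.mem_filter, Finset.mem_univ, true_and] at ht ⊢
    obtain ⟨htL, e, he, c, hc, rfl⟩ := ht
    have hel : ψ e ∈ L := by simpa [inv_smul_smul₀ hc] using L.smul_mem c⁻¹ htL
    obtain ⟨t', ht', huniq⟩ := exists_unique_img hE hS he (hLi x hx x hx) (hLi _ hel x hx)
      fun d k => hxt (Submodule.mem_span_singleton.2 ⟨d / c, by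
        rw [k, smul_smul, div_mul_cancel₀ d hc]⟩)
    refine ⟨t' / c, ⟨add_mem hx (Submodule.smul_mem _ _ htL), ?_⟩, fun d hd => ?_⟩
    · rwa [smul_smul, div_mul_cancel₀ t' hc]
    · simp only [smul_smul] at hd
      rw [← huniq _ hd.2, mul_div_assoc, div_self hc, mul_one]

/-- The parameters of the class of the seven-dimensional unitary group do not extend. -/
theorem not_params_uSeven {G : Type*} [Group G] [Finite G] {D : Set G} {n m : ℕ} (hG : Good D)
    (P : Params D n 2709 660 m) (hm : 0 < m) (hmk : m < 2709) : False := by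
  have h := mem_of_srgTest hG P hm hmk (ms := []) 45 (by norm_num) (by norm_num) (by norm_num)
    (by decide +kernel)
  simp at h

end CfsgLib.ThreeTrans.Classif
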