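import Mathlib
import Cfsg.Agent.Lib.ThreeTrans.Classif.KillUnitary
import Cfsg.Agent.Lib.ThreeTrans.PolarTwins.Models

/-!
The transvection class of a projective special unitary group over four elements as the isotropic
points of its hermitian space.
-/

set_option autoImplicit false

namespace CfsgLib.ThreeTrans.Classif

open CfsgLib.Unitary CfsgLib.ThreeTrans.PolarTwins

universe u

/-- A class of the unitary kind has the points of a hermitian space as model. -/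
theorem psu_points {Y : Type u} [Group Y] {E : Set Y} {n : ℕ} (hn : 4 ≤ n) (hE : KindPSU E n) :
    ∃ (F : Type) (_ : Field F) (_ : Fintype F) (ψ : Y → Fin n → F),
      UnitPts E (Cfsg.hermForm n F 2) ψ := by
  obtain ⟨F, _, _, hF, e, he⟩ := hE
  classical
  obtain ⟨τ, hB, hτ, h4, h2, key, hT⟩ := Models.psu_model (n := n) hF hn
  have hB' : ∀ u v, Cfsg.hermForm n F 2 u v = UnitaryEmbed.hermSesq n τ v u := fun u v =>
    (UnitaryEmbed.hermSesq_apply τ hτ v u).symm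
  have hrep : ∀ a : E, ∃ v, ∃ A, Models.Tv τ A v ∧ e a.1 = QuotientGroup.mk A := fun a => by
    obtain ⟨A, hA, hAe⟩ := he ▸ Set.mem_image_of_mem e a.2
    obtain ⟨v, hv⟩ := (key A).1 hA
    exact ⟨v, A, hv, hAe.symm⟩
  choose v A hA hAe using hrep
  set ψ : Y → Fin n → F := fun a => if h : a ∈ E then v ⟨a, h⟩ else 0 with hψ
  have hv : ∀ a (h : a ∈ E), ψ a = v ⟨a, h⟩ := fun a h => dif_pos h
  refine ⟨F, _, _, ψ, hF, ?_, ?_, ?_, ?_, ?_, ?_, ?_, ?_, ?_, ?_⟩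
  · intro u u' x
    rw [hB', hB', hB', map_add]
  · intro c u x
    rw [hB', hB', map_smul, smul_eq_mul]
  · intro u x
    rw [hB', hB', ← hB.symm, hτ]
  · exact fun u hu => hB.nondeg u fun x => herm_zero hB ((hB' u x).symm.trans (hu x))
  · intro a ha
    rw [hv a ha]
    exact (hA ⟨a, ha⟩).1
  · intro a ha
    rw [hv a ha, hB']
    exact (hA ⟨a, ha⟩).2.1
  · rintro a ha b hb ⟨c, hc⟩
    rw [hv a ha, hv b hb] at hc
    have hc0 : c ≠ 0 := fun k => (hA ⟨b, hb⟩).1 (by rw [hc, k, zero_smul])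
    refine e.injective ?_
    rw [show e a = _ from hAe ⟨a, ha⟩, show e b = _ from hAe ⟨b, hb⟩,
      Models.tv_smul_eq hB hτ hn hT h4 (hA ⟨b, hb⟩) (hA ⟨a, ha⟩) hc0 hc]
  · intro x hx hxx
    obtain ⟨X, hX⟩ := hT x hx (by rw [← hB']; exact hxx)
    obtain ⟨a, ha, hae⟩ : (QuotientGroup.mk X : Cfsg.PSU n F 2) ∈ e '' E :=
      he.symm ▸ ⟨X, (key X).2 ⟨x, hX⟩, rfl⟩
    rw [show e a = _ from hAe ⟨a, ha⟩] at hae
    have e' := Models.tv_eq_of_mk hB hτ hn hT (hA ⟨a, ha⟩) hX hae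
    obtain ⟨c, hc⟩ := Models.centre_unique hB hx hX.2.2 (e' ▸ (hA ⟨a, ha⟩).2.2)
    exact ⟨a, ha, c, by rw [hv a ha]; exact hc⟩
  · intro a ha b hb
    rw [hv a ha, hv b hb, hB', ← commute_map_iff e.injective, show e a = _ from hAe ⟨a, ha⟩,
      show e b = _ from hAe ⟨b, hb⟩, Models.commute_mk_iff hB hτ hn hT h4 (hA ⟨a, ha⟩) (hA ⟨b, hb⟩)]
    exact ⟨herm_zero hB, herm_zero hB⟩
  · intro a ha b hb
    set P := A ⟨a, ha⟩ with hP
    set Q := A ⟨b, hb⟩ with hQ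
    have hPP : P⁻¹ = P := inv_eq_of_mul_eq_one_right (suEquiv_injective (by
      rw [map_mul, map_one]
      exact Cfsg.Agent.S1631.tv_sq h2 (hA ⟨a, ha⟩).2.2 (hA ⟨a, ha⟩).2.1))
    have hcj := Models.tv_conj_eq hB hτ hn hT (C := P) (hA ⟨b, hb⟩)
    have him : e (a * b * a) = QuotientGroup.mk (P * Q * P⁻¹) := by
      rw [hPP, map_mul, map_mul, show e a = _ from hAe ⟨a, ha⟩, show e b = _ from hAe ⟨b, hb⟩]
      rfl
    have hmem : a * b * a ∈ E := by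
      obtain ⟨x, hx, hxe⟩ : e (a * b * a) ∈ e '' E :=
        he.symm ▸ ⟨P * Q * P⁻¹, (key _).2 ⟨_, hcj⟩, him.symm⟩
      exact e.injective hxe ▸ hx
    have e' := Models.tv_eq_of_mk hB hτ hn hT (hA ⟨_, hmem⟩) hcj
      ((hAe ⟨_, hmem⟩).symm.trans him)
    obtain ⟨c, hc⟩ := Models.centre_unique hB (hA ⟨_, hmem⟩).1 (hA ⟨_, hmem⟩).2.2 (e' ▸ hcj.2.2)
    refine ⟨c, fun k => (hA ⟨_, hmem⟩).1 (by rw [hc, k, zero_smul]), ?_⟩
    rw [hv _ hmem, hc, hB', hv a ha, hv b hb, (hA ⟨a, ha⟩).2.2, one_mul]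

end CfsgLib.ThreeTrans.Classif
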