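import Mathlib
import Cfsg.Agent.Lib.ThreeTrans.Classif.KillUnitary
import Cfsg.Agent.Lib.ClassicalGroups.HermCount
import Cfsg.Agent.Lib.UnitaryEmbed.HermSpace

/-!
Coordinates and counting for the isotropic points of a hermitian space over four elements; the
members commuting with two non-commuting ones are such points in dimension two less.
-/

set_option autoImplicit false

namespace CfsgLib.ThreeTrans.Classif

open CfsgLib.ThreeTrans.LocalSymThree (nbr)
open UKill

universe v w z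

variable {Y : Type v} [Group Y] {E : Set Y} {F : Type z} [Field F] [Fintype F] {W : Type w}
  [AddCommGroup W] [Module F W] {B : W → W → F} {ψ : Y → W}

/-- The form in orthonormal coordinates. -/
theorem UnitPts.exists_coord [FiniteDimensional F W] (hE : UnitPts E B ψ) :
    ∃ φ : W ≃ₗ[F] (Fin (Module.finrank F W) → F),
      ∀ u x, Cfsg.hermForm (Module.finrank F W) F 2 (φ u) (φ x) = B u x := by
  classical
  have hK : Fintype.card F = 2 ^ 2 := hE.card
  obtain ⟨τ, hτ, hne, hinv⟩ := CfsgLib.UnitaryEmbed.exists_conj hK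
  let B' : W →ₛₗ[τ] W →ₗ[F] F := LinearMap.mk₂'ₛₗ τ (RingHom.id F) (fun x u => B u x)
    (fun x x' u => add_right hE u x x')
    (fun c x u => by rw [smul_right hE, smul_eq_mul, hτ])
    (fun x u u' => hE.add_left u u' x)
    (fun c x u => by rw [hE.smul_left, smul_eq_mul, RingHom.id_apply])
  obtain ⟨b, hb⟩ := CfsgLib.UnitaryEmbed.exists_orthonormal_herm hK τ hτ hne hinv _ B'
    (fun u x => (hτ _).trans (hE.herm x u).symm)
    (fun u hu => hE.sep u fun x => symm_zero hE (hu x)) (rfl : Module.finrank F W = _)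
  let ι : (Fin (Module.finrank F W) → F) →ₗ[F] W :=
    { toFun := fun x => ∑ i, x i • b i
      map_add' := fun x y => by simp [add_smul, Finset.sum_add_distrib]
      map_smul' := fun c x => by simp [mul_smul, Finset.smul_sum] }
  have hι : ∀ x j, B (ι x) (b j) = x j := fun x j => by
    show B' (b j) (∑ i, x i • b i) = x j
    simp [map_sum, map_smul, hb]
  have hinj : Function.Injective ι := fun x y h => funext fun j => by rw [← hι x j, h, hι y j]
  let φ := LinearEquiv.ofBijective ι ⟨hinj,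
    (LinearMap.injective_iff_surjective_of_finrank_eq_finrank (by simp)).1 hinj⟩
  refine ⟨φ.symm, fun u x => ?_⟩
  obtain ⟨u, rfl⟩ := φ.surjective u
  obtain ⟨x, rfl⟩ := φ.surjective x
  rw [φ.symm_apply_apply, φ.symm_apply_apply]
  show _ = B' (∑ i, x i • b i) (ι u)
  simp only [map_sum, map_smulₛₗ, LinearMap.sum_apply, LinearMap.smul_apply, smul_eq_mul]
  exact Finset.sum_congr rfl fun i _ => by
    show _ = τ (x i) * B (ι u) (b i)
    rw [hι, hτ, mul_comm]

/-- Three vectors to each point. -/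
theorem UnitPts.three_mul_ncard (hE : UnitPts E B ψ) :
    3 * E.ncard = {x : W | x ≠ 0 ∧ B x x = 0}.ncard := by
  let f : E × Fˣ → {x : W | x ≠ 0 ∧ B x x = 0} := fun p => ⟨(p.2 : F) • ψ p.1,
    smul_ne_zero p.2.ne_zero (hE.ne _ p.1.2),
    by rw [hE.smul_left, smul_right hE, hE.iso _ p.1.2, mul_zero, mul_zero]⟩
  have hf : Function.Bijective f := by
    constructor
    · rintro ⟨⟨a, ha⟩, c⟩ ⟨⟨b, hb⟩, d⟩ h
      have h' : (c : F) • ψ a = (d : F) • ψ b := congrArg Subtype.val h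
      obtain rfl : a = b := hE.inj a ha b hb ⟨(d : F)⁻¹ * c, by
        rw [mul_smul, h', inv_smul_smul₀ d.ne_zero]⟩
      exact Prod.ext rfl (Units.ext (smul_left_injective F (hE.ne a ha) h'))
    · rintro ⟨x, hx0, hxx⟩
      obtain ⟨a, ha, c, hc⟩ := hE.surj x hx0 hxx
      exact ⟨(⟨a, ha⟩, Units.mk0 c fun k => hx0 (by rw [hc, k, zero_smul])), Subtype.ext hc.symm⟩
  have h := Nat.card_eq_of_bijective f hf
  rw [Nat.card_prod, Nat.card_units, Nat.card_eq_fintype_card (α := F), hE.card, Nat.card_coe_set_eq,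
    Nat.card_coe_set_eq] at h
  omega

/-- The number of points in dimension `k + 1`. -/
theorem UnitPts.card_points (hE : UnitPts E B ψ) {k : ℕ} (hk : Module.finrank F W = k + 1) :
    3 * E.ncard =
      if Even k then (2 ^ (k + 1) + 1) * (2 ^ k - 1) else (2 ^ (k + 1) - 1) * (2 ^ k + 1) := by
  have : Module.Finite F W := Module.finite_of_finrank_pos (by omega)
  have : Finite W := Module.finite_of_finite F
  obtain ⟨φ, hφ⟩ := hE.exists_coord
  rw [hE.three_mul_ncard]
  have h := CfsgLib.ClassicalGroups.herm_count_zero (F := F) (q := 2) hE.card k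
  rw [← hk] at h
  have e : Nat.card {x : W // B x x = 0} =
      Nat.card {x : Fin (Module.finrank F W) → F //
        Cfsg.hermForm (Module.finrank F W) F 2 x x = 0} :=
    Nat.card_congr (φ.toEquiv.subtypeEquiv fun x => by rw [← hφ x x]; rfl)
  have e' : {x : W | x ≠ 0 ∧ B x x = 0} = {x : W | B x x = 0} \ {0} := Set.ext fun _ => and_comm
  rw [e', Set.ncard_diff_singleton_of_mem (show (0 : W) ∈ {x : W | B x x = 0} from zero_left hE 0),
    ← Nat.card_coe_set_eq, Set.coe_ofPred, e, h, Nat.add_sub_cancel, hk]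

/-- The vectors orthogonal to two given ones. -/
def UnitPts.perp (hE : UnitPts E B ψ) (u p : W) : Submodule F W where
  carrier := {x | B x u = 0 ∧ B x p = 0}
  add_mem' := fun hx hy => ⟨by rw [hE.add_left, hx.1, hy.1, add_zero],
    by rw [hE.add_left, hx.2, hy.2, add_zero]⟩
  zero_mem' := ⟨zero_left hE u, zero_left hE p⟩
  smul_mem' := fun c x hx => ⟨by rw [hE.smul_left, hx.1, mul_zero],
    by rw [hE.smul_left, hx.2, mul_zero]⟩

theorem UnitPts.mem_perp {hE : UnitPts E B ψ} {u p x : W} :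
    x ∈ hE.perp u p ↔ B x u = 0 ∧ B x p = 0 := Iff.rfl

variable {a p : Y}

theorem UnitPts.finrank_perp [FiniteDimensional F W] (hE : UnitPts E B ψ) (ha : a ∈ E) (hp : p ∈ E)
    (hap : ¬ Commute a p) :
    Module.finrank F (hE.perp (ψ a) (ψ p)) + 2 = Module.finrank F W := by
  have h0 : B (ψ a) (ψ p) ≠ 0 := fun k => hap ((hE.comm a ha p hp).2 k)
  have h0' : B (ψ p) (ψ a) ≠ 0 := fun k => h0 (symm_zero hE k)
  let Φ : W →ₗ[F] F × F :=
    { toFun := fun x => (B x (ψ a), B x (ψ p))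
      map_add' := fun x y => by simp [hE.add_left]
      map_smul' := fun c x => by simp [hE.smul_left] }
  have hΦ : Function.Surjective Φ := fun q =>
    ⟨(q.1 / B (ψ p) (ψ a)) • ψ p + (q.2 / B (ψ a) (ψ p)) • ψ a, by
      simp [Φ, hE.add_left, hE.smul_left, hE.iso a ha, hE.iso p hp, h0, h0']⟩
  have h := Φ.finrank_range_add_finrank_ker
  rw [LinearMap.range_eq_top.2 hΦ, finrank_top, Module.finrank_prod, Module.finrank_self] at h
  have e : LinearMap.ker Φ = hE.perp (ψ a) (ψ p) := by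
    ext x
    simp [Φ, UnitPts.mem_perp]
  rw [e] at h
  omega

theorem UnitPts.mem_common (hE : UnitPts E B ψ) (ha : a ∈ E) (hp : p ∈ E) (hap : ¬ Commute a p)
    {y : Y} : y ∈ nbr E a ∩ nbr E p ↔ y ∈ E ∧ ψ y ∈ hE.perp (ψ a) (ψ p) := by
  constructor
  · exact fun h => ⟨h.1.1, symm_zero hE ((hE.comm a ha y h.1.1).1 h.1.2.2),
      symm_zero hE ((hE.comm p hp y h.1.1).1 h.2.2.2)⟩
  · rintro ⟨hy, h1, h2⟩
    exact ⟨⟨hy, fun e => hap ((hE.comm a ha p hp).2 (by rw [e] at h2; exact h2)),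
      (hE.comm a ha y hy).2 (symm_zero hE h1)⟩,
      hy, fun e => hap ((hE.comm a ha p hp).2 (by rw [e] at h1; exact symm_zero hE h1)),
      (hE.comm p hp y hy).2 (symm_zero hE h2)⟩

open Classical in
/-- The members commuting with two non-commuting ones are the points of their perp. -/
theorem UnitPts.common (hE : UnitPts E B ψ) (ha : a ∈ E) (hp : p ∈ E) (hap : ¬ Commute a p) :
    UnitPts (nbr E a ∩ nbr E p) (fun u x : hE.perp (ψ a) (ψ p) => B u x)
      (fun y => if h : ψ y ∈ hE.perp (ψ a) (ψ p) then ⟨ψ y, h⟩ else 0) := by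
  set K := hE.perp (ψ a) (ψ p) with hK
  have h0 : B (ψ a) (ψ p) ≠ 0 := fun k => hap ((hE.comm a ha p hp).2 k)
  have h0' : B (ψ p) (ψ a) ≠ 0 := fun k => h0 (symm_zero hE k)
  have hmem : ∀ {y}, y ∈ nbr E a ∩ nbr E p → y ∈ E ∧ ψ y ∈ K := fun h =>
    (hE.mem_common ha hp hap).1 h
  refine ⟨hE.card, fun u u' x => by simp [hE.add_left], fun c u x => by simp [hE.smul_left],
    fun u x => hE.herm _ _, fun u hu => ?_, fun y hy => ?_, fun y hy => ?_, ?_, ?_, ?_, ?_⟩
  · refine Subtype.ext (hE.sep _ fun x => ?_)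
    obtain ⟨hu1, hu2⟩ := UnitPts.mem_perp.1 u.2
    set x' := x - (B x (ψ a) / B (ψ p) (ψ a)) • ψ p - (B x (ψ p) / B (ψ a) (ψ p)) • ψ a with hx'
    have e : x = x' + ((B x (ψ a) / B (ψ p) (ψ a)) • ψ p + (B x (ψ p) / B (ψ a) (ψ p)) • ψ a) := by
      rw [hx']; abel
    have hsub : ∀ y y' q, B (y - y') q = B y q - B y' q := fun y y' q => by
      rw [eq_sub_iff_add_eq, ← hE.add_left, sub_add_cancel]
    have hx'K : x' ∈ K := by
      refine UnitPts.mem_perp.2 ⟨?_, ?_⟩
      · rw [hx', hsub, hsub, hE.smul_left, hE.smul_left, hE.iso a ha, mul_zero, sub_zero,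
          div_mul_cancel₀ _ h0', sub_self]
      · rw [hx', hsub, hsub, hE.smul_left, hE.smul_left, hE.iso p hp, mul_zero, sub_zero,
          div_mul_cancel₀ _ h0, sub_self]
    rw [e, add_right hE, add_right hE, smul_right hE, smul_right hE, hu1, hu2, hu ⟨x', hx'K⟩,
      mul_zero, mul_zero, add_zero, add_zero]
  · rw [dif_pos (hmem hy).2]
    exact fun k => hE.ne y (hmem hy).1 (congrArg Subtype.val k)
  · rw [dif_pos (hmem hy).2]
    exact hE.iso y (hmem hy).1
  · rintro y hy y' hy' ⟨c, hc⟩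
    rw [dif_pos (hmem hy).2, dif_pos (hmem hy').2] at hc
    exact hE.inj y (hmem hy).1 y' (hmem hy').1 ⟨c, congrArg Subtype.val hc⟩
  · intro x hx hxx
    obtain ⟨y, hy, c, hc⟩ := hE.surj x (fun k => hx (Subtype.ext k)) hxx
    have hc0 : c ≠ 0 := fun k => hx (Subtype.ext (by rw [hc, k, zero_smul]; rfl))
    have hyK : ψ y ∈ K := by
      have := K.smul_mem c⁻¹ x.2
      rwa [hc, inv_smul_smul₀ hc0] at this
    exact ⟨y, (hE.mem_common ha hp hap).2 ⟨hy, hyK⟩, c, Subtype.ext (by rw [dif_pos hyK]; exact hc)⟩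
  · intro y hy y' hy'
    rw [dif_pos (hmem hy).2, dif_pos (hmem hy').2]
    exact hE.comm y (hmem hy).1 y' (hmem hy').1
  · intro y hy y' hy'
    obtain ⟨c, hc, he⟩ := hE.conj y (hmem hy).1 y' (hmem hy').1
    have hK' : ψ (y * y' * y) ∈ K := by
      rw [he]
      exact K.smul_mem _ (add_mem (hmem hy').2 (K.smul_mem _ (hmem hy).2))
    refine ⟨c, hc, ?_⟩
    rw [dif_pos hK', dif_pos (hmem hy).2, dif_pos (hmem hy').2]
    exact Subtype.ext he

/-- Every point has a partner not commuting with it. -/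
theorem UnitPts.exists_far [Fintype W] (hE : UnitPts E B ψ) (ha : a ∈ E) :
    ∃ p ∈ E, ¬ Commute a p := by
  have := charTwo hE
  obtain ⟨q, hq⟩ : ∃ q, B (ψ a) q ≠ 0 := by
    by_contra! h
    exact hE.ne a ha (hE.sep _ h)
  have hqa : B q (ψ a) ≠ 0 := fun k => hq (symm_zero hE k)
  obtain ⟨u, hua⟩ : ∃ u, B u (ψ a) = 1 :=
    ⟨(B q (ψ a))⁻¹ • q, by rw [hE.smul_left, inv_mul_cancel₀ hqa]⟩
  have hau : B (ψ a) u = 1 := by rw [hE.herm u (ψ a), hua, one_pow]
  obtain ⟨t, ht⟩ := exists_trace hE (self_cases hE u)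
  have hww : B (u + t • ψ a) (u + t • ψ a) = 0 := by
    rw [hE.add_left, add_right hE, add_right hE, hE.smul_left, hE.smul_left, smul_right hE,
      smul_right hE, hE.iso a ha, hua, hau]
    calc B u u + t ^ 2 * 1 + (t * 1 + t * (t ^ 2 * 0)) = B u u + (t + t ^ 2) := by ring
      _ = 0 := by rw [ht]; exact CharTwo.add_self_eq_zero _
  have hwa : B (u + t • ψ a) (ψ a) = 1 := by
    rw [hE.add_left, hE.smul_left, hE.iso a ha, hua, mul_zero, add_zero]
  obtain ⟨p, hp, c, hc⟩ := hE.surj _ (fun k => by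
    rw [k, zero_left hE] at hwa; exact zero_ne_one hwa) hww
  refine ⟨p, hp, fun k => ?_⟩
  rw [hc, hE.smul_left, symm_zero hE ((hE.comm a ha p hp).1 k), mul_zero] at hwa
  exact zero_ne_one hwa

/-- The degree is four times the number of points in dimension two less. -/
theorem UnitPts.deg_eq [Fintype W] (hE : UnitPts E B ψ) (ha : a ∈ E) (hp : p ∈ E)
    (hap : ¬ Commute a p) : (nbr E a).ncard = 4 * (nbr E a ∩ nbr E p).ncard := by
  classical
  have h0 : B (ψ a) (ψ p) ≠ 0 := fun k => hap ((hE.comm a ha p hp).2 k)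
  have hrep : ∀ y ∈ nbr E a, ∃! z : Y × F, z.1 ∈ nbr E a ∩ nbr E p ∧
      ∃ c : F, c ≠ 0 ∧ ψ y = c • (ψ z.1 + z.2 • ψ a) := by
    intro y hy
    obtain ⟨hyE, hyn, hay⟩ := (mem_nbr hE ha).1 hy
    set r := B (ψ y) (ψ p) / B (ψ a) (ψ p) with hr
    have hsub : ∀ u u' q, B (u - u') q = B u q - B u' q := fun u u' q => by
      rw [eq_sub_iff_add_eq, ← hE.add_left, sub_add_cancel]
    set x := ψ y - r • ψ a with hx
    have hxa : B x (ψ a) = 0 := by
      rw [hx, hsub, hE.smul_left, hE.iso a ha, symm_zero hE hay, mul_zero, sub_zero]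
    have hxp : B x (ψ p) = 0 := by
      rw [hx, hsub, hE.smul_left, hr, div_mul_cancel₀ _ h0, sub_self]
    have hxx : B x x = 0 := by
      have e : B x x = B x (ψ y) := by
        conv_rhs => rw [show ψ y = x + r • ψ a by rw [hx, sub_add_cancel]]
        rw [add_right hE, smul_right hE, hxa, mul_zero, add_zero]
      rw [e, hx, hsub, hE.iso y hyE, hE.smul_left, hay, mul_zero, sub_zero]
    obtain ⟨b, hb, c, hc⟩ := hE.surj x (fun k => hyn r (sub_eq_zero.1 k)) hxx
    have hc0 : c ≠ 0 := fun k => hyn r (sub_eq_zero.1 (by rw [← hx, hc, k, zero_smul]))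
    have hbK : ψ b ∈ hE.perp (ψ a) (ψ p) := by
      have := (hE.perp (ψ a) (ψ p)).smul_mem c⁻¹ (UnitPts.mem_perp.2 ⟨hxa, hxp⟩)
      rwa [hc, inv_smul_smul₀ hc0] at this
    refine ⟨(b, r / c), ⟨(hE.mem_common ha hp hap).2 ⟨hb, hbK⟩, c, hc0, ?_⟩, ?_⟩
    · rw [smul_add, ← hc, smul_smul, mul_div_cancel₀ r hc0, hx, sub_add_cancel]
    rintro ⟨b', s⟩ ⟨hb', d, hd, hy'⟩
    obtain ⟨hb'E, hb'K⟩ := (hE.mem_common ha hp hap).1 hb'
    have hds : d * s = r := by
      have := congrArg (fun q => B q (ψ p)) hy'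
      simp only [hE.smul_left, hE.add_left, (UnitPts.mem_perp.1 hb'K).2, zero_add] at this
      rw [hr, this, ← mul_assoc, mul_div_cancel_right₀ _ h0]
    rw [smul_add, smul_smul, hds, ← sub_eq_iff_eq_add, ← hx, hc] at hy'
    have hbb : b' = b := (hE.inj b hb b' hb'E ⟨d⁻¹ * c, by
      rw [mul_smul, hy', inv_smul_smul₀ hd]⟩).symm
    rw [hbb] at hy'
    have hcd : c = d := smul_left_injective F (hE.ne b hb) hy'
    rw [hbb, ← hds, ← hcd, mul_div_cancel_left₀ _ hc0]
  have himg : ∀ z : Y × F, z.1 ∈ nbr E a ∩ nbr E p → ∃ y ∈ nbr E a, ∃ c : F, c ≠ 0 ∧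
      ψ y = c • (ψ z.1 + z.2 • ψ a) := by
    rintro ⟨b, s⟩ hb
    obtain ⟨hbE, hbK⟩ := (hE.mem_common ha hp hap).1 hb
    obtain ⟨hba, hbp⟩ := UnitPts.mem_perp.1 hbK
    set x := ψ b + s • ψ a with hx
    have hn : ∀ d : F, x ≠ d • ψ a := fun d k => hb.1.2.1 (hE.inj a ha b hbE ⟨d - s, by
      rw [sub_smul, ← k, hx, add_sub_cancel_right]⟩).symm
    have hxx : B x x = 0 := by
      simp [hx, hE.add_left, add_right hE, hE.smul_left, smul_right hE, hE.iso b hbE, hE.iso a ha,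
        hba, symm_zero hE hba]
    obtain ⟨y, hy, c, hc⟩ := hE.surj x (fun k => hn 0 (by rw [k, zero_smul])) hxx
    have hc0 : c ≠ 0 := fun k => hn 0 (by rw [hc, k, zero_smul, zero_smul])
    have hyc : ψ y = c⁻¹ • x := by rw [hc, inv_smul_smul₀ hc0]
    refine ⟨y, (mem_nbr hE ha).2 ⟨hy, fun d k => hn (c * d) ?_, ?_⟩, c⁻¹, inv_ne_zero hc0, hyc⟩
    · rw [hc, k, smul_smul]
    · rw [hyc, smul_right hE, hx, add_right hE, smul_right hE, symm_zero hE hba, hE.iso a ha,
        mul_zero, add_zero, mul_zero]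
  choose! g hg1 hg2 using himg
  have hbij : Set.BijOn g ((nbr E a ∩ nbr E p) ×ˢ Set.univ) (nbr E a) := by
    refine ⟨fun z hz => hg1 z hz.1, fun z hz z' hz' e => ?_, fun y hy => ?_⟩
    · refine (hrep _ (hg1 z hz.1)).unique ⟨hz.1, hg2 z hz.1⟩ ⟨hz'.1, ?_⟩
      rw [e]
      exact hg2 z' hz'.1
    · obtain ⟨z, ⟨hz, c, hc, he⟩, -⟩ := hrep y hy
      obtain ⟨d, hd, he'⟩ := hg2 z hz
      refine ⟨z, ⟨hz, trivial⟩, hE.inj _ (hg1 z hz).1 _ hy.1 ⟨c * d⁻¹, ?_⟩⟩
      rw [he, he', mul_smul, inv_smul_smul₀ hd]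
  conv_lhs => rw [← hbij.image_eq]
  rw [hbij.injOn.ncard_image, Set.ncard_prod, Set.ncard_univ,
    Nat.card_eq_fintype_card, hE.card, mul_comm]

/-- The numbers in dimension `k + 3`: common neighbours of two non-commuting members, and degree. -/
theorem UnitPts.card_local (hE : UnitPts E B ψ) {k : ℕ} (hk : Module.finrank F W = k + 3) (ha : a ∈ E)
    (hp : p ∈ E) (hap : ¬ Commute a p) :
    3 * (nbr E a ∩ nbr E p).ncard =
      (if Even k then (2 ^ (k + 1) + 1) * (2 ^ k - 1) else (2 ^ (k + 1) - 1) * (2 ^ k + 1)) ∧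
    (nbr E a).ncard = 4 * (nbr E a ∩ nbr E p).ncard := by
  have : Module.Finite F W := Module.finite_of_finrank_pos (by omega)
  have : Finite W := Module.finite_of_finite F
  let _ : Fintype W := Fintype.ofFinite W
  have h := hE.finrank_perp ha hp hap
  exact ⟨(hE.common ha hp hap).card_points (by omega), hE.deg_eq ha hp hap⟩

/-- The points carried along an isometry. -/
theorem UnitPts.map (hE : UnitPts E B ψ) {W' : Type*} [AddCommGroup W'] [Module F W']
    {B' : W' → W' → F} (φ : W ≃ₗ[F] W') (hφ : ∀ u x, B' (φ u) (φ x) = B u x) :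
    UnitPts E B' (fun y => φ (ψ y)) := by
  have h : ∀ u x, B' u x = B (φ.symm u) (φ.symm x) := fun u x => by
    rw [← hφ (φ.symm u) (φ.symm x), φ.apply_symm_apply, φ.apply_symm_apply]
  refine ⟨hE.card, fun u u' x => ?_, fun c u x => ?_, fun u x => ?_, fun u hu => ?_,
    fun y hy k => hE.ne y hy (φ.map_eq_zero_iff.1 k), fun y hy => (hφ _ _).trans (hE.iso y hy),
    fun y hy y' hy' ⟨c, hc⟩ => hE.inj y hy y' hy' ⟨c, φ.injective (hc.trans (map_smul φ c _).symm)⟩,
    fun x hx hxx => ?_, fun y hy y' hy' => by rw [hφ]; exact hE.comm y hy y' hy', fun y hy y' hy' => ?_⟩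
  · rw [h, h, h, map_add, hE.add_left]
  · rw [h, h, map_smul, hE.smul_left]
  · rw [h, h, hE.herm]
  · refine φ.symm.map_eq_zero_iff.1 (hE.sep _ fun x => ?_)
    have := hu (φ x)
    rwa [h, φ.symm_apply_apply] at this
  · obtain ⟨y, hy, c, hc⟩ := hE.surj (φ.symm x) (fun k => hx (φ.symm.map_eq_zero_iff.1 k))
      ((h x x).symm.trans hxx)
    refine ⟨y, hy, c, ?_⟩
    show x = c • φ (ψ y)
    rw [← map_smul, ← hc, φ.apply_symm_apply]
  · obtain ⟨c, hc, he⟩ := hE.conj y hy y' hy'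
    refine ⟨c, hc, ?_⟩
    show φ (ψ (y * y' * y)) = _
    rw [he, map_smul, map_add, map_smul, hφ]

end CfsgLib.ThreeTrans.Classif
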