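import Mathlib
import Cfsg.Agent.Lib.ThreeTrans.Classif.UnitKindPoints
import Cfsg.Agent.Lib.ThreeTrans.Classif.UnitCounts

/-!
The numbers of the transvection classes of the unitary groups over four elements in small dimensions.
-/

set_option autoImplicit false

namespace CfsgLib.ThreeTrans.Classif

open CfsgLib.ThreeTrans.LocalSymThree (nbr)

universe u v w z

variable {Y : Type v} [Group Y] {E : Set Y} {F : Type z} [Field F] [Fintype F] {W : Type w}
  [AddCommGroup W] [Module F W] {B : W → W → F} {ψ : Y → W}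

/-- The numbers in dimension `k + 3`. -/
theorem UnitPts.numbers (hE : UnitPts E B ψ) {k M : ℕ} (hk : Module.finrank F W = k + 3)
    (hM : (if Even k then (2 ^ (k + 1) + 1) * (2 ^ k - 1) else (2 ^ (k + 1) - 1) * (2 ^ k + 1)) = 3 * M) :
    (∀ a ∈ E, (nbr E a).ncard = 4 * M) ∧
      ∀ a ∈ E, ∀ p ∈ E, ¬ Commute a p → (nbr E a ∩ nbr E p).ncard = M := by
  have : Module.Finite F W := Module.finite_of_finrank_pos (by omega)
  have : Finite W := Module.finite_of_finite F
  let _ : Fintype W := Fintype.ofFinite W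
  have key : ∀ a ∈ E, ∀ p ∈ E, ¬ Commute a p →
      (nbr E a).ncard = 4 * M ∧ (nbr E a ∩ nbr E p).ncard = M := by
    intro a ha p hp hap
    obtain ⟨h1, h2⟩ := hE.card_local hk ha hp hap
    constructor <;> omega
  refine ⟨fun a ha => ?_, fun a ha p hp hap => (key a ha p hp hap).2⟩
  obtain ⟨p, hp, hap⟩ := hE.exists_far ha
  exact (key a ha p hp hap).1

/-- Count, degree and common neighbours for the class of the five-dimensional unitary group. -/
theorem psuFive_numbers {Y : Type u} [Group Y] {E : Set Y} (hE : KindPSU E 5) :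
    E.ncard = 165 ∧ (∀ a ∈ E, (nbr E a).ncard = 36) ∧
      ∀ a ∈ E, ∀ p ∈ E, ¬ Commute a p → (nbr E a ∩ nbr E p).ncard = 9 := by
  obtain ⟨F, _, _, ψ, h⟩ := psu_points (by norm_num) hE
  have hd : Module.finrank F (Fin 5 → F) = 5 := Module.finrank_fin_fun F
  have h1 := h.card_points (k := 4) hd
  have h2 := h.numbers (k := 2) (M := 9) hd (by norm_num [Nat.even_iff])
  norm_num [Nat.even_iff] at h1
  exact ⟨by omega, h2.1, h2.2⟩

/-- Count, degree and common neighbours for the class of the six-dimensional unitary group. -/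
theorem psuSix_numbers {Y : Type u} [Group Y] {E : Set Y} (hE : KindPSU E 6) :
    E.ncard = 693 ∧ (∀ a ∈ E, (nbr E a).ncard = 180) ∧
      ∀ a ∈ E, ∀ p ∈ E, ¬ Commute a p → (nbr E a ∩ nbr E p).ncard = 45 := by
  obtain ⟨F, _, _, ψ, h⟩ := psu_points (by norm_num) hE
  have hd : Module.finrank F (Fin 6 → F) = 6 := Module.finrank_fin_fun F
  have h1 := h.card_points (k := 5) hd
  have h2 := h.numbers (k := 3) (M := 45) hd (by norm_num [Nat.even_iff])
  norm_num [Nat.even_iff] at h1
  exact ⟨by omega, h2.1, h2.2⟩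

/-- Count, degree and common neighbours for the class of the seven-dimensional unitary group. -/
theorem psuSeven_numbers {Y : Type u} [Group Y] {E : Set Y} (hE : KindPSU E 7) :
    E.ncard = 2709 ∧ (∀ a ∈ E, (nbr E a).ncard = 660) ∧
      ∀ a ∈ E, ∀ p ∈ E, ¬ Commute a p → (nbr E a ∩ nbr E p).ncard = 165 := by
  obtain ⟨F, _, _, ψ, h⟩ := psu_points (by norm_num) hE
  have hd : Module.finrank F (Fin 7 → F) = 7 := Module.finrank_fin_fun F
  have h1 := h.card_points (k := 6) hd
  have h2 := h.numbers (k := 4) (M := 165) hd (by norm_num [Nat.even_iff])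
  norm_num [Nat.even_iff] at h1
  exact ⟨by omega, h2.1, h2.2⟩

end CfsgLib.ThreeTrans.Classif
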