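import Mathlib
import Cfsg.Prelude.Def_KGroupFacts
import Cfsg.Agent.Lib.ThreeTrans.Classif.Local
import Cfsg.Agent.Lib.ThreeTrans.WidthOne
import Cfsg.Agent.Lib.Components.FStar

/-!
A centreless class without cores whose commuting graph is not connected: the layer is simple, the
members in one coset of it form a good class, members in different cosets do not commute and the
size of a coset class squared divides the order of the group it generates.
-/

set_option autoImplicit false

namespace CfsgLib.ThreeTrans.Classif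

open CfsgLib.ThreeTrans
open CfsgLib.ThreeTrans.LocalSymThree (nbr)
open scoped commutatorElement

universe u

variable {G : Type u} [Group G]

/-- Two commuting members and one commuting with neither generate a symmetric group of degree four. -/
theorem four_swap {D : Set G} (hs : Cfsg.IsThreeTranspositionSet D) {a b x : G} (ha : a ∈ D)
    (hb : b ∈ D) (hx : x ∈ D) (hab : Commute a b) (hax : ¬ Commute a x) (hbx : ¬ Commute b x) :
    Commute x (a * b * x * (a * b)⁻¹) ∧
      (x * (a * b * x * (a * b)⁻¹)) * a * (x * (a * b * x * (a * b)⁻¹))⁻¹ = b := by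
  have aa := mul_self hs ha
  have bb := mul_self hs hb
  have xx := mul_self hs hx
  have A : a * x * a = x * a * x := braid hs ha hx hax
  have Bd : b * x * b = x * b * x := braid hs hb hx hbx
  have hy : a * b * x * (a * b)⁻¹ = a * (b * x * b) * a := by
    rw [mul_inv_rev, inv_eq hs ha, inv_eq hs hb]; simp only [mul_assoc]
  rw [hy]
  constructor
  · have e1 : x = a * (a * x * a) * a := by simp [mul_assoc, aa, mul_self_mul hs ha]
    have h1 : Commute (a * x * a) (b * x * b) := by
      rw [A, Bd]
      have := (commute_conj_iff x a b).2 hab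
      rwa [inv_eq hs hx] at this
    have := (commute_conj_iff a _ _).2 h1
    rw [inv_eq hs ha, ← e1] at this
    exact this
  · rw [mul_inv_rev, inv_eq hs hx,
      show (a * (b * x * b) * a)⁻¹ = a * (b * x * b) * a by
        simp [mul_inv_rev, inv_eq hs ha, inv_eq hs hb, inv_eq hs hx, mul_assoc]]
    have e1 : ∀ t, a * (a * t) = t := mul_self_mul hs ha
    have e2 : ∀ t, b * (b * t) = t := mul_self_mul hs hb
    have e3 : ∀ t, x * (x * t) = t := mul_self_mul hs hx
    have e4 : ∀ t, a * (b * t) = b * (a * t) := fun t => by rw [← mul_assoc, hab.eq, mul_assoc]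
    have e5 : b * a = a * b := hab.eq.symm
    calc x * (a * (b * x * b) * a) * a * (a * (b * x * b) * a * x)
        = x * (a * (b * x * b) * (a * a) * (a * (b * x * b)) * a * x) := by simp only [mul_assoc]
      _ = x * (a * (b * (x * (b * a * b) * x) * b) * a * x) := by
          rw [aa, mul_one]; simp only [mul_assoc]
      _ = x * (a * (b * (x * a * x) * b) * a * x) := by
          rw [e5, mul_assoc a b b, bb, mul_one]
      _ = x * (a * (b * (a * x * a) * b) * a * x) := by rw [A]
      _ = x * ((a * a) * (b * x * b) * (a * a) * x) := by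
          simp only [mul_assoc, e4]
      _ = b := by rw [aa, one_mul, mul_one, Bd]; simp [mul_assoc, e3, xx]

variable [Finite G] {D : Set G}

/-- The conjugates of one element under the image of a finite group. -/
theorem orbit_card {H X : Type*} [Group H] [Group X] (f : H →* X) (c : X) :
    {z | ∃ h : H, f h * c * (f h)⁻¹ = z}.ncard *
      Nat.card ((Subgroup.centralizer ({c} : Set X)).comap f) = Nat.card H := by
  let φ : H →* ConjAct X := ConjAct.toConjAct.toMonoidHom.comp f
  letI : MulAction H X := MulAction.compHom X φ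
  have hsmul : ∀ h : H, h • c = f h * c * (f h)⁻¹ := fun h => rfl
  have ho : MulAction.orbit H c = {z | ∃ h : H, f h * c * (f h)⁻¹ = z} := by
    ext z; simp only [MulAction.mem_orbit_iff, hsmul, Set.mem_ofPred_eq]
  have hs : MulAction.stabilizer H c = (Subgroup.centralizer ({c} : Set X)).comap f := by
    ext h
    rw [MulAction.mem_stabilizer_iff, hsmul, Subgroup.mem_comap,
      Subgroup.mem_centralizer_singleton_iff, mul_inv_eq_iff_eq_mul]
  rw [← ho, ← hs, ← Nat.card_coe_set_eq, ← Nat.card_prod]
  exact Nat.card_congr (MulAction.orbitProdStabilizerEquivGroup H c)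

/-- The members in the coset of `L` through `a`. -/
def cosetClass (D : Set G) (L : Subgroup G) (a : G) : Set G := {y | y ∈ D ∧ a⁻¹ * y ∈ L}

/-- The group generated by `L` and `a`. -/
def coverGroup (L : Subgroup G) (a : G) : Subgroup G := L ⊔ Subgroup.zpowers a

/-- The structure of a disconnected class, for its layer `L`. -/
structure Split (D : Set G) (L : Subgroup G) : Prop where
  normal : L.Normal
  fstar : L = Cfsg.generalizedFittingSubgroup G
  simple : IsSimpleGroup L
  self : Subgroup.centralizer (L : Set G) = ⊥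
  not_mem : ∀ a ∈ D, a ∉ L
  far : ∀ a ∈ D, ∀ b ∈ D, a⁻¹ * b ∉ L → ¬ Commute a b
  other : ∀ a ∈ D, ∃ b ∈ D, a⁻¹ * b ∉ L
  good : ∀ a ∈ D, Good {y : coverGroup L a | (y : G) ∈ cosetClass D L a}
  sq_dvd : ∀ a ∈ D, (cosetClass D L a).ncard ^ 2 ∣ Nat.card (coverGroup L a)

theorem Semi.split (S : Semi D) (hdisc : ¬ (Cfsg.commutingGraph D).Connected) :
    ∃ L : Subgroup G, Split D L := by
  classical
  have hD := S.hE
  have hc := hD.closed
  have hs := hc.set
  have h2 : Cfsg.pCore 2 G ≤ Subgroup.center G := S.two ▸ bot_le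
  have h3 : Cfsg.pCore 3 G ≤ Subgroup.center G := S.three ▸ bot_le
  obtain ⟨L, hL⟩ := hD.exists_component h2 h3
  haveI hn := hD.component_normal hL
  have hfit : Cfsg.fittingSubgroup G = ⊥ := by rw [hD.fitting_eq_center h2 h3, S.triv]
  have hstar : L = Cfsg.generalizedFittingSubgroup G := by
    rw [Cfsg.generalizedFittingSubgroup, hD.layer_eq hL, hfit, sup_bot_eq]
  have hcen : Subgroup.center L = ⊥ := by
    rw [← (Subgroup.map_injective L.subtype_injective).eq_iff, Subgroup.map_bot, ← le_bot_iff, ← hfit]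
    refine CfsgLib.Fitting.le_fitting inferInstance ?_
    refine CfsgLib.Fitting.isNilpotent_map ?_ L.subtype
    exact @CommGroup.isNilpotent _ { (inferInstance : Group (Subgroup.center L)) with
      mul_comm := fun a b => Subtype.ext (Subgroup.mem_center_iff.1 b.2 a.1) }
  haveI hsimp : IsSimpleGroup L := by
    haveI : Nontrivial L := CfsgLib.Components.quasisimple_nontrivial hL.2
    have := hL.2.2
    exact IsSimpleGroup.isSimpleGroup_of_surjective
      ((QuotientGroup.quotientMulEquivOfEq hcen).trans QuotientGroup.quotientBot).toMonoidHom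
      (MulEquiv.surjective _)
  have hself : Subgroup.centralizer (L : Set G) = ⊥ := by
    rw [eq_bot_iff]
    intro y hy
    have hyL : y ∈ L := by
      rw [hstar] at hy ⊢
      exact CfsgLib.Components.centralizer_generalizedFitting_le hy
    have : (⟨y, hyL⟩ : L) ∈ Subgroup.center L :=
      Subgroup.mem_center_iff.2 fun z => Subtype.ext (Subgroup.mem_centralizer_iff.1 hy z z.2)
    rw [hcen, Subgroup.mem_bot] at this
    exact Subgroup.mem_bot.2 (congrArg Subtype.val this)
  have hconn : ∀ a ∈ D, ¬ ∀ b ∈ D, a⁻¹ * b ∈ L := fun a ha h =>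
    hdisc (hD.connected_of_primitive
      (hD.primitive_of_index_le_two h2 h3 hL (hD.index_le_two ha h)) S.pair)
  have hother : ∀ a ∈ D, ∃ b ∈ D, a⁻¹ * b ∉ L := fun a ha => by simpa using hconn a ha
  have hnotL : ∀ a ∈ D, a ∉ L := fun a ha haL => hconn a ha fun b hb => by
    obtain ⟨g, rfl⟩ := hD.class_eq a ha b hb
    exact L.mul_mem (L.inv_mem haL) (hn.conj_mem a haL g)
  -- images
  set π := QuotientGroup.mk' L with hπ
  have hπeq : ∀ {u w : G}, π u = π w ↔ u⁻¹ * w ∈ L := fun {u w} => by
    rw [hπ, QuotientGroup.mk'_apply, QuotientGroup.mk'_apply, QuotientGroup.eq]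
  have hnc : ∀ u ∈ D, ∀ w ∈ D, ¬ Commute u w → (π u * π w) ^ 3 = 1 := fun u hu w hw h => by
    rw [← map_mul, ← map_pow, pow_three_of_not_commute hs hu hw h, map_one]
  have hsq : ∀ u ∈ D, π u * π u = 1 := fun u hu => by rw [← map_mul, mul_self hs hu, map_one]
  -- orbits of `L`
  let orbL : G → Set G := fun a => {y | ∃ l ∈ L, l * a * l⁻¹ = y}
  have horbD : ∀ a ∈ D, orbL a ⊆ D := fun a ha y ⟨l, _, e⟩ => e ▸ hc.conj l a ha
  have horbπ : ∀ a, ∀ y ∈ orbL a, π y = π a := by
    rintro a _ ⟨l, hl, rfl⟩
    rw [map_mul, map_mul, map_inv, show π l = 1 from (QuotientGroup.eq_one_iff l).2 hl, one_mul,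
      inv_one, mul_one]
  -- a member centralising the orbit of another
  have horb : ∀ a ∈ D, ∀ b ∈ D, (∀ y ∈ orbL a, Commute y b) → False := by
    intro a ha b hb h
    let K : Subgroup L := (Subgroup.centralizer (orbL a)).subgroupOf L
    have hsub : orbL a ⊆ Subgroup.centralizer ({b} : Set G) := fun y hy =>
      Subgroup.mem_centralizer_singleton_iff.2 (h y hy).eq
    set M := Subgroup.closure (orbL a) with hM
    have hMb : M ≤ Subgroup.centralizer ({b} : Set G) := (Subgroup.closure_le _).2 hsub
    have hMn : ∀ l ∈ L, ∀ z ∈ M, l * z * l⁻¹ ∈ M := by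
      intro l hl z hz
      induction hz using Subgroup.closure_induction with
      | mem x hx =>
        obtain ⟨l', hl', rfl⟩ := hx
        exact Subgroup.subset_closure ⟨l * l', L.mul_mem hl hl', by group⟩
      | one => simp [one_mem]
      | mul x y _ _ hx hy => rw [show l * (x * y) * l⁻¹ = l * x * l⁻¹ * (l * y * l⁻¹) by group]; exact mul_mem hx hy
      | inv x _ hx => rw [show l * x⁻¹ * l⁻¹ = (l * x * l⁻¹)⁻¹ by group]; exact inv_mem hx
    haveI : (M.subgroupOf L).Normal := ⟨fun z hz l => hMn l l.2 _ hz⟩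
    rcases hsimp.eq_bot_or_eq_top_of_normal (M.subgroupOf L) inferInstance with hbot | htop
    · -- then `a` centralises `L`
      have : a ∈ Subgroup.centralizer (L : Set G) := by
        rw [Subgroup.mem_centralizer_iff]
        intro l hl
        have hmem : l * a * l⁻¹ * a⁻¹ ∈ M :=
          M.mul_mem (Subgroup.subset_closure ⟨l, hl, rfl⟩)
            (M.inv_mem (Subgroup.subset_closure ⟨1, L.one_mem, by simp⟩))
        have hmemL : l * a * l⁻¹ * a⁻¹ ∈ L := by
          rw [mul_assoc l, mul_assoc l]
          exact L.mul_mem hl (hn.conj_mem _ (L.inv_mem hl) a)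
        have : (⟨_, hmemL⟩ : L) ∈ M.subgroupOf L := hmem
        rw [hbot, Subgroup.mem_bot] at this
        have e := congrArg Subtype.val this
        simp only [Subgroup.coe_one] at e
        exact mul_inv_eq_iff_eq_mul.1 (mul_inv_eq_one.1 e)
      rw [hself, Subgroup.mem_bot] at this
      exact ne_one hs ha this
    · have : b ∈ Subgroup.centralizer (L : Set G) := by
        rw [Subgroup.mem_centralizer_iff]
        intro l hl
        have : (⟨l, hl⟩ : L) ∈ M.subgroupOf L := htop ▸ Subgroup.mem_top _
        exact (Subgroup.mem_centralizer_singleton_iff.1 (hMb this)).symm.symm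
      rw [hself, Subgroup.mem_bot] at this
      exact ne_one hs hb this
  have hfar : ∀ a ∈ D, ∀ b ∈ D, a⁻¹ * b ∉ L → ¬ Commute a b := by
    intro a ha b hb hne hab
    have hne' : π a ≠ π b := fun e => hne (hπeq.1 e)
    refine horb a ha b hb fun y hy => ?_
    by_contra hy'
    have h := hnc y (horbD a ha hy) b hb hy'
    rw [horbπ a y hy] at h
    have h2' : (π a * π b) ^ 2 = 1 := by
      rw [pow_two, mul_assoc, ← mul_assoc (π b), ← map_mul π b a, ← hab.eq, map_mul, mul_assoc,
        hsq b hb, mul_one, hsq a ha]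
    rw [pow_succ, h2', one_mul, mul_eq_one_iff_eq_inv] at h
    apply hne'
    rw [h, ← map_inv, inv_eq hs hb]
  -- one orbit in each coset
  have hone : ∀ a ∈ D, ∀ b ∈ D, a⁻¹ * b ∈ L → b ∈ orbL a := by
    intro a ha b hb hab
    by_contra hb'
    refine horb a ha b hb fun y hy => ?_
    by_contra hyb
    -- the braid between members of one coset takes place inside `L`
    have hyD := horbD a ha hy
    have hyL : y * b ∈ L := by
      have : π y = π b := by rw [horbπ a y hy]; exact hπeq.2 hab
      have := hπeq.1 this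
      rwa [inv_eq hs hyD] at this
    obtain ⟨l, hl, rfl⟩ := hy
    refine hb' ⟨l * a * l⁻¹ * b * l, L.mul_mem hyL hl, ?_⟩
    set y := l * a * l⁻¹
    calc y * b * l * a * (y * b * l)⁻¹ = y * b * y * b⁻¹ * y⁻¹ := by simp only [y]; group
      _ = y * b * y * b * y := by rw [inv_eq hs hb, inv_eq hs hyD]
      _ = y * (b * y * b) * y := by simp only [mul_assoc]
      _ = y * (y * b * y) * y := by rw [braid hs hyD hb hyb]
      _ = b := by simp [mul_assoc, mul_self hs hyD, mul_self_mul hs hyD]
  have hLX : ∀ a, L ≤ coverGroup L a := fun a => le_sup_left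
  have haX : ∀ a, a ∈ coverGroup L a := fun a => Subgroup.mem_sup_right (Subgroup.mem_zpowers a)
  have hXcoset : ∀ a ∈ D, cosetClass D L a ⊆ coverGroup L a := fun a _ y hy => by
    rw [show y = a * (a⁻¹ * y) by group]
    exact (coverGroup L a).mul_mem (haX a) (hLX a hy.2)
  have hcoset_eq : ∀ a ∈ D, cosetClass D L a = orbL a := fun a ha =>
    Set.Subset.antisymm (fun y hy => hone a ha y hy.1 hy.2)
      fun y hy => ⟨horbD a ha hy, hπeq.1 (horbπ a y hy).symm⟩
  have hstab : ∀ a ∈ D, ∀ g ∈ coverGroup L a, π g * π a = π a * π g := by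
    intro a ha g hg
    have : g ∈ (Subgroup.centralizer ({π a} : Set (G ⧸ L))).comap π := by
      refine (sup_le (fun l hl => ?_) ?_ : coverGroup L a ≤ _) hg
      · rw [Subgroup.mem_comap, show π l = 1 from (QuotientGroup.eq_one_iff l).2 hl]
        exact one_mem _
      · rw [Subgroup.zpowers_le, Subgroup.mem_comap, Subgroup.mem_centralizer_singleton_iff]
    exact (Subgroup.mem_centralizer_singleton_iff.1 (Subgroup.mem_comap.1 this)).symm.symm
  -- a commuting pair in every coset
  have hpair : ∀ a ∈ D, ∃ b ∈ cosetClass D L a, b ≠ a ∧ Commute a b := by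
    intro a ha
    obtain ⟨p, hp, q, hq, hne, hpq⟩ := S.pair
    obtain ⟨g, rfl⟩ := hD.class_eq p hp a ha
    refine ⟨g * q * g⁻¹, ⟨hc.conj g q hq, by_contra fun h => ?_⟩, fun e => hne ?_, ?_⟩
    · exact hfar _ ha _ (hc.conj g q hq) h ((commute_conj_iff g p q).2 hpq)
    · exact (mul_left_cancel (mul_right_cancel e)).symm
    · exact (commute_conj_iff g p q).2 hpq
  have hgood : ∀ a ∈ D, Good {y : coverGroup L a | (y : G) ∈ cosetClass D L a} := by
    intro a ha
    set X := coverGroup L a with hX
    set O : Set X := {y | (y : G) ∈ cosetClass D L a} with hO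
    have haO : (⟨a, haX a⟩ : X) ∈ O := ⟨ha, by simp [L.one_mem]⟩
    have hcl : ConjClosed O := by
      refine ⟨⟨fun e he => ?_, fun d hd e he => ?_⟩, fun g e he => ⟨hc.conj g e he.1, ?_⟩⟩
      · rw [← Subgroup.orderOf_coe]; exact hs.1 _ he.1
      · exact (hs.2 _ hd.1 _ he.1).imp (fun k => Subtype.ext k) (fun k => Subtype.ext k)
      · apply hπeq.1
        simp only [Subgroup.coe_mul, Subgroup.coe_inv, map_mul, map_inv]
        rw [← show π a = π (e : G) from hπeq.2 he.2, hstab a ha g g.2, mul_inv_cancel_right]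
    have hgen : Subgroup.closure O = ⊤ := by
      refine Subgroup.map_injective X.subtype_injective ?_
      rw [MonoidHom.map_closure, ← MonoidHom.range_eq_map, Subgroup.range_subtype]
      refine le_antisymm ((Subgroup.closure_le _).2 ?_) (sup_le ?_ ?_)
      · rintro _ ⟨y, -, rfl⟩; exact y.2
      · set M := Subgroup.closure (X.subtype '' O)
        have hMn : ∀ l ∈ L, ∀ z ∈ M, l * z * l⁻¹ ∈ M := by
          intro l hl z hz
          induction hz using Subgroup.closure_induction with
          | mem x hx =>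
            obtain ⟨y, hy, rfl⟩ := hx
            exact Subgroup.subset_closure ⟨⟨l, hLX a hl⟩ * y * ⟨l, hLX a hl⟩⁻¹, hcl.conj _ y hy, rfl⟩
          | one => simp [one_mem]
          | mul x y _ _ hx hy =>
            rw [show l * (x * y) * l⁻¹ = l * x * l⁻¹ * (l * y * l⁻¹) by group]; exact mul_mem hx hy
          | inv x _ hx => rw [show l * x⁻¹ * l⁻¹ = (l * x * l⁻¹)⁻¹ by group]; exact inv_mem hx
        haveI : (M.subgroupOf L).Normal := ⟨fun z hz l => hMn l l.2 _ hz⟩
        rcases hsimp.eq_bot_or_eq_top_of_normal (M.subgroupOf L) inferInstance with hbot | htop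
        · obtain ⟨b, hb, hba, -⟩ := hpair a ha
          have hmem : a⁻¹ * b ∈ M := M.mul_mem (M.inv_mem (Subgroup.subset_closure ⟨_, haO, rfl⟩))
            (Subgroup.subset_closure ⟨⟨b, hXcoset a ha hb⟩, hb, rfl⟩)
          have : (⟨_, hb.2⟩ : L) ∈ M.subgroupOf L := hmem
          rw [hbot, Subgroup.mem_bot] at this
          exact absurd (inv_mul_eq_one.1 (congrArg Subtype.val this)).symm hba
        · exact fun l hl => (htop ▸ Subgroup.mem_top (⟨l, hl⟩ : L) : (⟨l, hl⟩ : L) ∈ M.subgroupOf L)
      · rw [Subgroup.zpowers_le]; exact Subgroup.subset_closure ⟨_, haO, rfl⟩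
    obtain ⟨b, hb, hba, hab⟩ := hpair a ha
    have hCO : ClassTwo O := by
      refine ⟨hcl, hgen, fun u hu w hw => ?_, ⟨_, haO, ⟨b, hXcoset a ha hb⟩, hb, fun k => hba ?_⟩⟩
      · obtain ⟨l, hl, e⟩ := hone _ hu.1 _ hw.1 (hπeq.1 ((hπeq.2 hu.2).symm.trans (hπeq.2 hw.2)))
        exact ⟨⟨l, hLX a hl⟩, Subtype.ext e⟩
      · exact (congrArg Subtype.val k).symm
    have hXZ : Subgroup.center X = ⊥ := by
      rw [eq_bot_iff]
      intro z hz
      have : (z : G) ∈ Subgroup.centralizer (L : Set G) :=
        Subgroup.mem_centralizer_iff.2 fun l hl =>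
          congrArg Subtype.val (Subgroup.mem_center_iff.1 hz ⟨l, hLX a hl⟩)
      rw [hself, Subgroup.mem_bot] at this
      exact Subgroup.mem_bot.2 (Subtype.ext this)
    have hder : commutator X = L.subgroupOf X := by
      haveI : (L.subgroupOf X).Normal := inferInstance
      refine le_antisymm ?_ ?_
      · refine Subgroup.Normal.commutator_le_of_self_sup_commutative_eq_top (H := Subgroup.zpowers ⟨a, haX a⟩) ?_ inferInstance
        refine Subgroup.map_injective X.subtype_injective ?_
        rw [Subgroup.map_sup, MonoidHom.map_zpowers, Subgroup.subgroupOf_map_subtype,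
          inf_of_le_left (hLX a), ← MonoidHom.range_eq_map, Subgroup.range_subtype]
        rfl
      · set M := (commutator X).map X.subtype
        haveI : (M.subgroupOf L).Normal := ⟨fun z hz l => by
          obtain ⟨y, hy, e⟩ := hz
          refine ⟨⟨l, hLX a l.2⟩ * y * ⟨l, hLX a l.2⟩⁻¹, Subgroup.Normal.conj_mem inferInstance y hy _, ?_⟩
          simp only [Subgroup.coe_subtype] at e ⊢
          simp [e]⟩
        rcases hsimp.eq_bot_or_eq_top_of_normal (M.subgroupOf L) inferInstance with hbot | htop
        · obtain ⟨b, hb, hba, -⟩ := hpair a ha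
          obtain ⟨l, hl, e⟩ := hone a ha b hb.1 hb.2
          have hm : ⁅(⟨l, hLX a hl⟩ : X), ⟨a, haX a⟩⁆ ∈ commutator X :=
            Subgroup.commutator_mem_commutator (Subgroup.mem_top _) (Subgroup.mem_top _)
          have hval : ((⁅(⟨l, hLX a hl⟩ : X), ⟨a, haX a⟩⁆ : X) : G) = b * a⁻¹ := by
            rw [← e]; simp [commutatorElement_def]
          have hbaL : b * a⁻¹ ∈ L := by
            have h1 : a * (a⁻¹ * b) * a⁻¹ = b * a⁻¹ := by group
            exact h1 ▸ hn.conj_mem _ hb.2 a
          have : (⟨_, hbaL⟩ : L) ∈ M.subgroupOf L := ⟨_, hm, hval⟩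
          rw [hbot, Subgroup.mem_bot] at this
          exact absurd (mul_inv_eq_one.1 (congrArg Subtype.val this)) hba
        · intro y hy
          have : (⟨_, hy⟩ : L) ∈ M.subgroupOf L := htop ▸ Subgroup.mem_top _
          obtain ⟨y', hy', e⟩ := this
          rwa [← X.subtype_injective e]
    have hsimpX : IsSimpleGroup (commutator X) := by
      rw [hder]
      haveI : Nontrivial (L.subgroupOf X) := (Subgroup.subgroupOfEquivOfLe (hLX a)).toEquiv.nontrivial
      exact IsSimpleGroup.isSimpleGroup_of_surjective (Subgroup.subgroupOfEquivOfLe (hLX a)).symm.toMonoidHom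
        (MulEquiv.surjective _)
    have hw : ∃ u ∈ O, ∃ w ∈ O, u ≠ w ∧ Commute u w :=
      ⟨_, haO, ⟨b, hXcoset a ha hb⟩, hb, fun k => hba (congrArg Subtype.val k).symm, Subtype.ext hab⟩
    exact ⟨⟨hCO, hCO.primitive_of_simple_derived hw hXZ hsimpX, hw⟩, hXZ⟩
  refine ⟨L, hn, hstar, hsimp, hself, hnotL, hfar, hother, hgood, fun a ha => ?_⟩
  -- transitivity of a centralizer on another coset
  obtain ⟨c, hcD, hac⟩ := hother a ha
  set X := coverGroup L a
  let Z : Subgroup X := Subgroup.centralizer {(⟨a, haX a⟩ : X)}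
  let K : Subgroup X := Z ⊓ L.subgroupOf X
  have hmoves : ∀ y ∈ cosetClass D L c, ∀ z ∈ cosetClass D L c, z ≠ y → Commute y z →
      ∃ k ∈ K, (k : G) * y * (k : G)⁻¹ = z := by
    intro y hy z hz hzy hyz
    have hay : ¬ Commute a y := hfar a ha y hy.1 fun h => hac (by
      have := L.mul_mem h (L.inv_mem hy.2)
      simpa [mul_assoc] using this)
    have haz : ¬ Commute a z := hfar a ha z hz.1 fun h => hac (by
      have := L.mul_mem h (L.inv_mem hz.2)
      simpa [mul_assoc] using this)
    -- the member of the coset of `a` belonging to the edge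
    set b := (y * z) * a * (y * z)⁻¹ with hb
    have hbD : b ∈ D := hc.conj _ a ha
    have hyzL : y * z ∈ L := by
      have := hπeq.1 ((hπeq.2 hy.2).symm.trans (hπeq.2 hz.2))
      rwa [inv_eq hs hy.1] at this
    have hbO : b ∈ cosetClass D L a := ⟨hbD, by
      have := L.mul_mem (hn.conj_mem _ hyzL a⁻¹) (L.inv_mem hyzL)
      simpa [hb, mul_assoc] using this⟩
    have hf := four_swap hs hy.1 hz.1 ha hyz (fun k => hay k.symm) (fun k => haz k.symm)
    rw [← hb] at hf
    obtain ⟨h1, h2'⟩ := hf
    refine ⟨⟨a, haX a⟩ * ⟨b, hXcoset a ha hbO⟩, ⟨?_, ?_⟩, h2'⟩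
    · refine Subgroup.mem_centralizer_singleton_iff.2 (Subtype.ext ?_)
      show a * b * a = a * (a * b)
      rw [mul_assoc, h1.eq]
    · show a * b ∈ L
      have := hbO.2
      rwa [inv_eq hs ha] at this
  let fK : K →* G := X.subtype.comp K.subtype
  have horbK : {z | ∃ k : K, fK k * c * (fK k)⁻¹ = z} = cosetClass D L c := by
    refine Set.Subset.antisymm ?_ ?_
    · rintro _ ⟨k, rfl⟩
      exact hcoset_eq c hcD ▸ ⟨(k : X), k.2.2, rfl⟩
    · have hgc := hgood c hcD
      have hconn := hgc.set.hD.connected_of_primitive hgc.set.prim hgc.set.pair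
      intro z hz
      let Oc : Set (coverGroup L c) := {y | (y : G) ∈ cosetClass D L c}
      have hcO : (⟨c, haX c⟩ : coverGroup L c) ∈ Oc := ⟨hcD, by simp [L.one_mem]⟩
      obtain ⟨w⟩ := hconn.preconnected ⟨⟨c, haX c⟩, hcO⟩ ⟨⟨z, hXcoset c hcD hz⟩, hz⟩
      suffices key : ∀ u v : Oc, (Cfsg.commutingGraph Oc).Walk u v →
          (∃ k : K, fK k * c * (fK k)⁻¹ = ((u : coverGroup L c) : G)) →
          ∃ k : K, fK k * c * (fK k)⁻¹ = ((v : coverGroup L c) : G) from
        key _ _ w ⟨1, by simp⟩
      intro u v w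
      induction w with
      | nil => exact id
      | @cons p q r hadj _ ih =>
        rintro ⟨k, hk⟩
        refine ih ?_
        rw [Cfsg.commutingGraph, SimpleGraph.fromRel_adj] at hadj
        have hpq : Commute ((p : coverGroup L c) : G) ((q : coverGroup L c) : G) :=
          hadj.2.elim (fun h => h.map (coverGroup L c).subtype)
            (fun h => (h.map (coverGroup L c).subtype).symm)
        obtain ⟨k', hk', e⟩ := hmoves _ p.2 _ q.2
          (fun h => hadj.1 (Subtype.ext (Subtype.ext h.symm))) hpq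
        refine ⟨⟨k', hk'⟩ * k, ?_⟩
        rw [map_mul, ← e, ← hk]
        show (k' : G) * fK k * c * ((k' : G) * fK k)⁻¹ = _
        group
  have h1 := orbit_card fK c
  rw [horbK] at h1
  have hsize : (cosetClass D L c).ncard = (cosetClass D L a).ncard := by
    obtain ⟨g, rfl⟩ := hD.class_eq a ha c hcD
    have hinj : Function.Injective fun y : G => g * y * g⁻¹ :=
      fun p q h => mul_left_cancel (mul_right_cancel h)
    rw [← Set.ncard_image_of_injective (cosetClass D L a) hinj]
    congr 1
    ext y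
    constructor
    · intro hy
      refine ⟨g⁻¹ * y * g, ⟨hc.conj' g hy.1, ?_⟩, by group⟩
      have := hn.conj_mem _ hy.2 g⁻¹
      simpa [mul_assoc] using this
    · rintro ⟨y, hy, rfl⟩
      refine ⟨hc.conj g y hy.1, ?_⟩
      have := hn.conj_mem _ hy.2 g
      simpa [mul_assoc] using this
  have h2' := orbit_card (MonoidHom.id X) (⟨a, haX a⟩ : X)
  have horbX : X.subtype '' {z : X | ∃ h : X, MonoidHom.id X h * ⟨a, haX a⟩ * (MonoidHom.id X h)⁻¹ = z} =
      cosetClass D L a := by
    refine Set.Subset.antisymm ?_ fun y hy => ?_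
    · rintro _ ⟨_, ⟨h, rfl⟩, rfl⟩
      refine ⟨hc.conj _ a ha, hπeq.1 ?_⟩
      simp only [MonoidHom.id_apply, Subgroup.coe_subtype, Subgroup.coe_mul, Subgroup.coe_inv,
        map_mul, map_inv]
      rw [hstab a ha h h.2, mul_inv_cancel_right]
    · obtain ⟨l, hl, rfl⟩ := hone a ha y hy.1 hy.2
      exact ⟨_, ⟨⟨l, hLX a hl⟩, rfl⟩, rfl⟩
  rw [← Set.ncard_image_of_injective _ X.subtype_injective, horbX, Subgroup.comap_id] at h2'
  rw [sq, ← h2']
  refine Nat.mul_dvd_mul_left _ (Dvd.dvd.trans ?_ (Subgroup.card_dvd_of_le (inf_le_left : K ≤ Z)))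
  exact hsize ▸ ⟨_, h1.symm⟩

end CfsgLib.ThreeTrans.Classif
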