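import Mathlib
import Cfsg.Agent.Lib.ThreeTrans.Classif.MuSet
import Cfsg.Agent.Lib.ThreeTrans.ReflClass

/-!
A closed set of members in which the members commuting with each member look like reflections
generates, modulo the centre, a centreless class without cores.
-/

set_option autoImplicit false

namespace CfsgLib.ThreeTrans.Classif

open CfsgLib.ThreeTrans
open CfsgLib.ThreeTrans.LocalSymThree (nbr)

universe u v

variable {G : Type u} [Group G] [Finite G] {D T : Set G} {Y : Type v} [Group Y] {f : G → Y}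
  {n : ℕ} {Q : QuadraticForm (ZMod 3) (Fin n → ZMod 3)} {c : ZMod 3}

/-- A closed set of members whose local structure is that of reflections. -/
structure LocalRefl (D T : Set G) (f : G → Y) (n : ℕ) : Prop where
  sub : T ⊆ D
  ne : T.Nonempty
  closed : ∀ a ∈ T, ∀ b ∈ T, a * b * a ∈ T
  inj : Set.InjOn f T
  comm : ∀ a ∈ T, ∀ b ∈ T, (Commute (f a) (f b) ↔ Commute a b)
  conj : ∀ a ∈ T, ∀ b ∈ T, f (a * b * a) = f a * f b * f a
  pts : ∀ a ∈ T, ∃ (Q : QuadraticForm (ZMod 3) (Fin n → ZMod 3)) (c : ZMod 3) (ψ : Y → Fin n → ZMod 3),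
    ReflPts (f '' (T ∩ nbr D a)) Q c ψ

open QuadraticMap CfsgLib.Orth in
/-- Two commuting points have a common non-commuting point. -/
theorem ReflPts.exists_common {E : Set Y} {ψ : Y → Fin n → ZMod 3} (hn : 5 ≤ n)
    (hE : ReflPts E Q c ψ) {a b : Y} (ha : a ∈ E) (hb : b ∈ E) :
    a = b ∨ ¬ Commute a b ∨ ∃ z ∈ E, ¬ Commute a z ∧ ¬ Commute b z := by
  by_cases hab : a = b
  · exact Or.inl hab
  refine Or.inr ?_
  by_cases h : Commute a b
  swap
  · exact Or.inl h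
  right
  have h0 := ((hE.comm a ha b hb).1 h).resolve_left hab
  have hu0 : ψ a ≠ 0 := fun k => hE.ne (by rw [← hE.norm a ha, k, QuadraticMap.map_zero])
  obtain ⟨s, hs1, hs2, hsQ⟩ := exists_ortho_value hE.nondeg ReflClass.two_ne (by simpa using hn) hu0
    (show Q (ψ b) ≠ 0 by rw [hE.norm b hb]; exact hE.ne) h0 (-c)
  have hQ : Q (ψ a + ψ b + s) = c := by
    rw [QuadraticMap.map_add ⇑Q, QuadraticMap.map_add ⇑Q, polar_add_left, hE.norm a ha, hE.norm b hb,
      hsQ, h0, hs1, hs2]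
    ring
  have key : ∀ c : ZMod 3, c ≠ 0 → c + c ≠ 0 := by decide
  have hpa : polar Q (ψ a) (ψ a + ψ b + s) = c + c := by
    rw [polar_add_right, polar_add_right, h0, hs1, polar_self', hE.norm a ha]; ring
  have hpb : polar Q (ψ b) (ψ a + ψ b + s) = c + c := by
    rw [polar_add_right, polar_add_right, polar_comm, h0, hs2, polar_self', hE.norm b hb]; ring
  obtain ⟨z, hz, hzv⟩ := hE.surj _ hQ
  have hpz : ∀ w, polar Q (ψ w) (ψ a + ψ b + s) = c + c → polar Q (ψ w) (ψ z) ≠ 0 := by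
    intro w hw
    rcases hzv with e | e
    · rw [e, hw]; exact key c hE.ne
    · rw [e, polar_neg_right, hw]; exact neg_ne_zero.2 (key c hE.ne)
  refine ⟨z, hz, fun k => ?_, fun k => ?_⟩
  · rcases (hE.comm a ha z hz).1 k with e | e
    · have := hpz b hpb
      rw [← e, polar_comm, h0] at this
      exact this rfl
    · exact hpz a hpa e
  · rcases (hE.comm b hb z hz).1 k with e | e
    · have := hpz a hpa
      rw [← e, h0] at this
      exact this rfl
    · exact hpz b hpb e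

/-- The image in the quotient of the group they generate by its centre. -/
def subImage (T : Set G) : Set (↥(Subgroup.closure T) ⧸ Subgroup.center ↥(Subgroup.closure T)) :=
  (QuotientGroup.mk : ↥(Subgroup.closure T) → _) '' {y | (y : G) ∈ T}

open QuadraticMap CfsgLib.Orth in
theorem LocalRefl.semi (hD : ConjClosed D) (hn : 5 ≤ n) (hT : LocalRefl D T f n) {k : ℕ}
    (hk : 1 < k) (hdeg : ∀ a ∈ T, (T ∩ nbr D a).ncard = k) (hsize : T.ncard ≠ 2 * k) :
    Semi (subImage T) ∧ (subImage T).ncard = T.ncard ∧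
      (∀ a b : ↥(Subgroup.closure T), (a : G) ∈ T → (b : G) ∈ T →
        (Commute (a : ↥(Subgroup.closure T) ⧸ Subgroup.center ↥(Subgroup.closure T)) (b : _) ↔
          Commute (a : G) (b : G))) ∧
      ∀ x ∈ subImage T, ∃ a ∈ T, ∃ f₂, Chart (subImage T) x f₂ (f '' (T ∩ nbr D a)) := by
  classical
  have hs := hD.set
  set H := Subgroup.closure T with hH
  have hin : ∀ {y}, y ∈ T → y ∈ H := fun h => Subgroup.subset_closure h
  have hTs : ∀ {y}, y ∈ T → y ∈ D := fun h => hT.sub h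
  -- a non-commuting pair inside the members commuting with one
  have hlink : ∀ p ∈ T, ∀ u ∈ T ∩ nbr D p, ∀ w ∈ T ∩ nbr D p,
      u = w ∨ ¬ Commute u w ∨ ∃ z ∈ T ∩ nbr D p, ¬ Commute u z ∧ ¬ Commute w z := by
    intro p hp u hu w hw
    obtain ⟨Q, c, ψ, hψ⟩ := hT.pts p hp
    rcases hψ.exists_common hn (Set.mem_image_of_mem f hu) (Set.mem_image_of_mem f hw) with h | h | ⟨z, ⟨y, hy, rfl⟩, h1, h2⟩
    · exact Or.inl (hT.inj hu.1 hw.1 h)
    · exact Or.inr (Or.inl fun k => h ((hT.comm u hu.1 w hw.1).2 k))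
    · exact Or.inr (Or.inr ⟨y, hy, fun k => h1 ((hT.comm u hu.1 y hy.1).2 k),
        fun k => h2 ((hT.comm w hw.1 y hy.1).2 k)⟩)
  -- conjugacy
  let R : G → G → Prop := fun a b => ∃ g ∈ H, g * a * g⁻¹ = b
  have hRnc : ∀ {a b}, a ∈ T → b ∈ T → ¬ Commute a b → R a b := fun {a b} ha hb h => by
    refine ⟨a * b, H.mul_mem (hin ha) (hin hb), ?_⟩
    rw [mul_inv_rev, inv_eq hs (hTs ha), inv_eq hs (hTs hb),
      show a * b * a * (b * a) = (a * b * a) * (b * a) by simp [mul_assoc],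
      braid hs (hTs ha) (hTs hb) h]
    simp [mul_assoc, mul_self hs (hTs ha), mul_self_mul hs (hTs ha), mul_self_mul hs (hTs hb)]
  have hRt : ∀ {a b e}, R a b → R b e → R a e := fun {a b e} ⟨g, hg, e1⟩ ⟨g', hg', e2⟩ =>
    ⟨g' * g, H.mul_mem hg' hg, by rw [← e2, ← e1]; group⟩
  have hRs : ∀ {a b}, R a b → R b a := fun {a b} ⟨g, hg, e1⟩ =>
    ⟨g⁻¹, H.inv_mem hg, by rw [← e1]; group⟩
  have hRloc : ∀ p ∈ T, ∀ u ∈ T ∩ nbr D p, ∀ w ∈ T ∩ nbr D p, R u w := by
    intro p hp u hu w hw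
    rcases hlink p hp u hu w hw with rfl | h | ⟨z, hz, h1, h2⟩
    · exact ⟨1, H.one_mem, by simp⟩
    · exact hRnc hu.1 hw.1 h
    · exact hRt (hRnc hu.1 hz.1 h1) (hRs (hRnc hw.1 hz.1 h2))
  have htrans : ∀ a ∈ T, ∀ b ∈ T, R a b := by
    intro a ha b hb
    by_contra hab
    have hout : ∀ {y}, y ∈ T → ¬ R a y → y ∈ T ∩ nbr D a := fun {y} hy h =>
      ⟨hy, hTs hy, fun e => h (e ▸ ⟨1, H.one_mem, by simp⟩), by_contra fun k => h (hRnc ha hy k)⟩
    have hb' := hout hb hab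
    have hall : ∀ {y}, y ∈ T → ¬ R a y → R b y := fun {y} hy h => hRloc a ha b hb' y (hout hy h)
    have hab' : ¬ R b a := fun h => hab (hRs h)
    have hout' : ∀ {y}, y ∈ T → ¬ R b y → y ∈ T ∩ nbr D b := fun {y} hy h =>
      ⟨hy, hTs hy, fun e => h (e ▸ ⟨1, H.one_mem, by simp⟩), by_contra fun k => h (hRnc hb hy k)⟩
    have hA : {y | y ∈ T ∧ R a y} = T ∩ nbr D b := by
      ext y
      refine ⟨fun h => hout' h.1 fun k => hab (hRt h.2 (hRs k)), fun h => ⟨h.1, ?_⟩⟩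
      exact hRloc b hb a (hout' ha hab') y h
    have hB : {y | y ∈ T ∧ ¬ R a y} = T ∩ nbr D a := by
      ext y
      refine ⟨fun h => hout h.1 h.2, fun h => ⟨h.1, fun k => hab ?_⟩⟩
      exact hRt k (hRloc a ha y h b hb')
    have hT' : T = {y | y ∈ T ∧ R a y} ∪ {y | y ∈ T ∧ ¬ R a y} := by
      ext y
      simp only [Set.mem_union, Set.mem_ofPred_eq]
      by_cases h : R a y <;> simp [h]
    refine hsize ?_
    rw [hT', Set.ncard_union_eq (Set.disjoint_left.2 fun y h h' => h'.2 h.2), hA, hB, hdeg b hb,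
      hdeg a ha, two_mul]
  -- no twins
  have htwins : ∀ a ∈ T, ∀ b ∈ T, a ≠ b →
      ¬ ∀ y ∈ T, y ≠ a → y ≠ b → (Commute a y ↔ Commute b y) := by
    intro a ha b hb hne h
    by_cases hab : Commute a b
    · have hb' : b ∈ T ∩ nbr D a := ⟨hb, hTs hb, hne.symm, hab⟩
      obtain ⟨w, hw, hwb⟩ : ∃ w ∈ T ∩ nbr D a, w ≠ b := Set.exists_ne_of_one_lt_ncard (by rwa [hdeg a ha]) b
      obtain ⟨z, hz, hbz⟩ : ∃ z ∈ T ∩ nbr D a, ¬ Commute b z := by
        rcases hlink a ha b hb' w hw with e | e | ⟨z, hz, h1, -⟩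
        exacts [absurd e.symm hwb, ⟨w, hw, e⟩, ⟨z, hz, h1⟩]
      exact hbz ((h z hz.1 hz.2.2.1 fun e => hbz (e ▸ Commute.refl z)).1 hz.2.2.2)
    · obtain ⟨p, hp⟩ := (Set.ncard_pos (Set.toFinite _)).1 (show 0 < (T ∩ nbr D a).ncard by rw [hdeg a ha]; omega)
      have hap : a ∈ T ∩ nbr D p := ⟨ha, hTs ha, hp.2.2.1.symm, hp.2.2.2.symm⟩
      have hpb : Commute b p := (h p hp.1 hp.2.2.1 fun e => hab (e ▸ hp.2.2.2)).1 hp.2.2.2
      have hbp : b ∈ T ∩ nbr D p := ⟨hb, hTs hb, fun e => hab (e ▸ hp.2.2.2), hpb.symm⟩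
      obtain ⟨Q, c, ψ, hψ⟩ := hT.pts p hp.1
      have hA := Set.mem_image_of_mem f hap
      have hB := Set.mem_image_of_mem f hbp
      have hne' : f a ≠ f b := fun e => hne (hT.inj ha hb e)
      have hpol : polar Q (ψ (f a)) (ψ (f b)) ≠ 0 := fun k =>
        hab ((hT.comm a ha b hb).1 ((hψ.comm _ hA _ hB).2 (Or.inr k)))
      obtain ⟨x, hxQ, hax, hbx⟩ := ReflClass.exists_separating hψ.nondeg hψ.ne (hψ.norm _ hA) (hψ.norm _ hB)
        hpol (fun e => hne' (hψ.inj _ hA _ hB (Or.inl e.symm)))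
        (fun e => hne' (hψ.inj _ hA _ hB (Or.inr (by rw [e, neg_neg]))))
      obtain ⟨_, ⟨y, hy, rfl⟩, hzv⟩ := hψ.surj x hxQ
      have key : ∀ w : Fin n → ZMod 3, polar Q w (ψ (f y)) = 0 ↔ polar Q w x = 0 := fun w => by
        rcases hzv with e | e <;> rw [e] <;> simp [polar_neg_right]
      have hay : Commute a y := (hT.comm a ha y hy.1).1 ((hψ.comm _ hA _ ⟨y, hy, rfl⟩).2 (Or.inr ((key _).2 hax)))
      have hby : ¬ Commute b y := fun k => by
        rcases (hψ.comm _ hB _ ⟨y, hy, rfl⟩).1 ((hT.comm b hb y hy.1).2 k) with e | e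
        · exact hpol (by rw [e]; exact (key _).2 hax)
        · exact hbx ((key _).1 e)
      refine hby ((h y hy.1 (fun e => ?_) (fun e => hby (e ▸ Commute.refl b))).1 hay)
      exact absurd ((key (ψ (f a))).2 hax) (by
        rw [e, polar_self', hψ.norm _ hA]
        have : ∀ c : ZMod 3, c ≠ 0 → 2 * c ≠ 0 := by decide
        exact this c hψ.ne)
  -- the class in `H`
  set EH : Set H := {y | (y : G) ∈ T} with hEH
  have hTconj : ∀ g ∈ H, ∀ y ∈ T, g * y * g⁻¹ ∈ T := fun g hg =>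
    CfsgLib.Sporadic.RankThree.closure_preserves (S := T) (P := T)
      (fun t ht y hy => by rw [inv_eq hs (hTs ht)]; exact hT.closed t ht y hy) hg
  obtain ⟨a₀, ha₀⟩ := hT.ne
  obtain ⟨b₀, hb₀⟩ := (Set.ncard_pos (Set.toFinite _)).1 (show 0 < (T ∩ nbr D a₀).ncard by rw [hdeg a₀ ha₀]; omega)
  have hCE : ClassTwo EH := by
    refine ⟨⟨⟨fun e he => ?_, fun d hd e he => ?_⟩, fun g e he => hTconj g g.2 e he⟩,
      Subgroup.closure_closure_coe_preimage, fun a ha b hb => ?_,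
      ⟨⟨a₀, hin ha₀⟩, ha₀, ⟨b₀, hin hb₀.1⟩, hb₀.1, fun e => hb₀.2.2.1 (congrArg Subtype.val e).symm⟩⟩
    · rw [← Subgroup.orderOf_coe]; exact hs.1 _ (hTs he)
    · exact (hs.2 _ (hTs hd) _ (hTs he)).imp (fun k => Subtype.ext k) (fun k => Subtype.ext k)
    · obtain ⟨g, hg, e⟩ := htrans _ ha _ hb
      exact ⟨⟨g, hg⟩, Subtype.ext e⟩
  have hcommH : ∀ {u w : H}, Commute u w ↔ Commute (u : G) (w : G) := fun {u w} =>
    ⟨fun h => h.map H.subtype, fun h => Subtype.ext h⟩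
  have h2 : Cfsg.pCore 2 H ≤ Subgroup.center H := by
    by_contra h
    obtain ⟨v, ⟨-, hv, hrel⟩, hne⟩ := hCE.exists_vRel_ne h (d := ⟨a₀, hin ha₀⟩) ha₀
    refine htwins _ ha₀ _ hv (fun e => hne (Subtype.ext e.symm)) fun y hy _ _ => ?_
    rw [← hcommH (u := ⟨a₀, hin ha₀⟩) (w := ⟨y, hin hy⟩), ← hcommH (u := v) (w := ⟨y, hin hy⟩)]
    exact (hrel ⟨y, hin hy⟩ hy).symm
  have h3 : Cfsg.pCore 3 H ≤ Subgroup.center H := by
    by_contra h
    obtain ⟨v, hrel, hne⟩ := hCE.exists_wRel_ne h (d := ⟨a₀, hin ha₀⟩) ha₀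
    refine htwins _ ha₀ _ hrel.2.1 (fun e => hne (Subtype.ext e.symm)) fun y hy hya hyv => ?_
    rw [← hcommH (u := ⟨a₀, hin ha₀⟩) (w := ⟨y, hin hy⟩), ← hcommH (u := v) (w := ⟨y, hin hy⟩)]
    exact hrel.commute_iff (e := ⟨y, hin hy⟩) hy (fun e => hya (congrArg Subtype.val e))
      (fun e => hyv (congrArg Subtype.val e))
  set π := QuotientGroup.mk' (Subgroup.center H) with hπ
  have hmem : ∀ {g : H}, π g = 1 ↔ g ∈ Subgroup.center H := fun {g} => QuotientGroup.eq_one_iff g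
  have hpinj : ∀ a ∈ EH, ∀ b ∈ EH, π a = π b → a = b := by
    intro a ha b hb h
    by_contra hne
    have hz : a⁻¹ * b ∈ Subgroup.center H := QuotientGroup.eq.1 h
    refine htwins _ ha _ hb (fun e => hne (Subtype.ext e)) fun y hy _ _ => ?_
    have hzy : Commute ((a⁻¹ * b : H) : G) y :=
      (hcommH (w := ⟨y, hin hy⟩)).1 (Subgroup.mem_center_iff.1 hz ⟨y, hin hy⟩).symm
    have hb' : (b : G) = (a : G) * ((a⁻¹ * b : H) : G) := by simp
    constructor
    · intro hay; rw [hb']; exact hay.mul_left hzy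
    · intro hby
      have ha' : (a : G) = (b : G) * ((a⁻¹ * b : H) : G)⁻¹ := by simp
      rw [ha']; exact hby.mul_left hzy.inv_left
  have hpcomm : ∀ a ∈ EH, ∀ b ∈ EH, (Commute (π a) (π b) ↔ Commute (a : G) (b : G)) := by
    intro a ha b hb
    refine ⟨fun h => ?_, fun h => (hcommH.2 h).map π⟩
    by_contra hnc
    have h3' := pow_three_of_not_commute hs (hTs ha) (hTs hb) hnc
    have hsq : ((a * b) ^ 2 : H) ∈ Subgroup.center H := by
      rw [← hmem, map_pow, map_mul, pow_two, mul_assoc, ← mul_assoc (π b), ← h.eq, mul_assoc (π a),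
        ← map_mul π b b, show b * b = 1 from Subtype.ext (mul_self hs (hTs hb)), map_one, mul_one,
        ← map_mul, show a * a = 1 from Subtype.ext (mul_self hs (hTs ha)), map_one]
    have hab : (a * b : H) ∈ Subgroup.center H := by
      have e : (a * b : H) = ((a * b) ^ 2)⁻¹ := by
        refine eq_inv_of_mul_eq_one_right ?_
        exact Subtype.ext (by push_cast; rw [← pow_succ]; exact h3')
      exact e ▸ (Subgroup.center H).inv_mem hsq
    have := Subgroup.mem_center_iff.1 hab a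
    apply hnc
    have e := congrArg Subtype.val this
    simp only [Subgroup.coe_mul] at e
    rw [← mul_assoc, mul_self hs (hTs ha), one_mul] at e
    have e2 : (b : G) * a = a * b := by
      calc (b : G) * a = (a * b * a) * a := by rw [← e]
        _ = a * b := by simp [mul_assoc, mul_self hs (hTs ha)]
    exact e2.symm
  have hker : π.ker = Subgroup.center H := QuotientGroup.ker_mk' _
  have hF : Cfsg.fittingSubgroup H ≤ π.ker := by rw [hker, hCE.fitting_eq_center h2 h3]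
  have hsurj : Function.Surjective π := QuotientGroup.mk'_surjective _
  have hcore : ∀ p, p.Prime → Cfsg.pCore p (H ⧸ Subgroup.center H) = ⊥ := fun p hp => by
    haveI := Fact.mk hp
    haveI : (Cfsg.pCore p (H ⧸ Subgroup.center H)).Normal := Cfsg.pCore_normal p _
    exact map_le_bot π hsurj hker.le hF _ (CfsgLib.PCore.pCore_isPGroup (p := p)).isNilpotent
  have hcen : Subgroup.center (H ⧸ Subgroup.center H) = ⊥ := by
    refine map_le_bot π hsurj hker.le hF _ ?_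
    exact @CommGroup.isNilpotent _ { (inferInstance : Group (Subgroup.center
      (H ⧸ Subgroup.center H))) with
      mul_comm := fun a b => Subtype.ext (Subgroup.mem_center_iff.1 b.2 a.1) }
  have himg : subImage T = π '' EH := rfl
  have hcard : (subImage T).ncard = T.ncard := by
    rw [himg, Set.InjOn.ncard_image hpinj]
    refine Set.ncard_congr (fun y _ => (y : G)) (fun y hy => hy) (fun a b _ _ h => Subtype.ext h)
      fun y hy => ⟨⟨y, hin hy⟩, hy, rfl⟩
  have hclosedI : ConjClosed (subImage T) := by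
    refine ⟨⟨?_, ?_⟩, ?_⟩
    · rintro _ ⟨e, he, rfl⟩
      refine orderOf_eq_prime ?_ fun h1 => ?_
      · rw [← QuotientGroup.mk_pow, show e ^ 2 = 1 from Subtype.ext (by push_cast; rw [pow_two]; exact mul_self hs (hTs he)), QuotientGroup.mk_one]
      · obtain ⟨b, hb, hne⟩ : ∃ b ∈ EH, b ≠ e := by
          obtain ⟨u, hu, w, hw, hne⟩ := hCE.two
          by_cases h : u = e
          · exact ⟨w, hw, fun k => hne (h.trans k.symm)⟩
          · exact ⟨u, hu, h⟩
        have hz : e ∈ Subgroup.center H := hmem.1 h1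
        obtain ⟨g, rfl⟩ := hCE.class_eq e he b hb
        exact hne (by rw [Subgroup.mem_center_iff.1 hz g, mul_inv_cancel_right])
    · rintro _ ⟨d, hd, rfl⟩ _ ⟨e, he, rfl⟩
      exact (hCE.closed.set.2 d hd e he).imp (fun k => by rw [← QuotientGroup.mk_mul, ← QuotientGroup.mk_pow, k, QuotientGroup.mk_one])
        (fun k => by rw [← QuotientGroup.mk_mul, ← QuotientGroup.mk_pow, k, QuotientGroup.mk_one])
    · intro g y hy
      obtain ⟨e, he, rfl⟩ := hy
      obtain ⟨g, rfl⟩ := hsurj g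
      exact ⟨g * e * g⁻¹, hCE.closed.conj g e he, rfl⟩
  refine ⟨⟨⟨hclosedI, ?_, ?_, ?_⟩, hcen, hcore 2 Nat.prime_two, hcore 3 Nat.prime_three, ?_⟩, hcard,
    fun a b ha hb => hpcomm a ha b hb, ?_⟩
  · rw [himg, ← MonoidHom.map_closure, hCE.gen, Subgroup.map_top_of_surjective π hsurj]
  · rintro _ ⟨a, ha, rfl⟩ _ ⟨b, hb, rfl⟩
    obtain ⟨g, rfl⟩ := hCE.class_eq a ha b hb
    exact ⟨π g, rfl⟩
  · obtain ⟨a, ha, b, hb, hne⟩ := hCE.two
    exact ⟨_, ⟨a, ha, rfl⟩, _, ⟨b, hb, rfl⟩, fun h => hne (hpinj a ha b hb h)⟩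
  · refine ⟨π ⟨a₀, hin ha₀⟩, ⟨_, ha₀, rfl⟩, π ⟨b₀, hin hb₀.1⟩, ⟨_, hb₀.1, rfl⟩, fun h => ?_, ?_⟩
    · exact hb₀.2.2.1 (congrArg Subtype.val (hpinj _ ha₀ _ hb₀.1 h)).symm
    · exact (hpcomm _ ha₀ _ hb₀.1).2 hb₀.2.2.2
  · rintro _ ⟨a, ha, rfl⟩
    let g₂ : (H ⧸ Subgroup.center H) → H := fun y => Function.invFunOn π EH y
    have hg : ∀ b ∈ EH, g₂ (π b) = b := fun b hb =>
      (show Set.InjOn π EH from hpinj).leftInvOn_invFunOn hb
    refine ⟨a, ha, fun y => f (g₂ y), ⟨⟨a, ha, rfl⟩, ?_, ?_, ?_⟩⟩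
    · have hnb : ∀ b ∈ EH, (π b ∈ nbr (subImage T) (π a) ↔ (b : G) ∈ T ∩ nbr D (a : G)) := by
        intro b hb
        constructor
        · intro h
          exact ⟨hb, hTs hb, fun e => h.2.1 (by rw [show b = a from Subtype.ext e]),
            (hpcomm a ha b hb).1 h.2.2⟩
        · intro h
          exact ⟨⟨b, hb, rfl⟩, fun e => h.2.2.1 (congrArg Subtype.val (hpinj b hb a ha e)),
            (hpcomm a ha b hb).2 h.2.2.2⟩
      refine ⟨?_, ?_, ?_⟩
      · rintro y hy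
        obtain ⟨b, hb, rfl⟩ := hy.1
        refine ⟨b, (hnb b hb).1 hy, ?_⟩
        show f b = f (g₂ (π b))
        rw [hg b hb]
      · intro y hy y' hy' h
        obtain ⟨b, hb, rfl⟩ := hy.1
        obtain ⟨b', hb', rfl⟩ := hy'.1
        change f (g₂ (π b)) = f (g₂ (π b')) at h
        rw [hg b hb, hg b' hb'] at h
        show π b = π b'
        rw [show b = b' from Subtype.ext (hT.inj hb hb' h)]
      · rintro _ ⟨y, hy, rfl⟩
        refine ⟨π ⟨y, hin hy.1⟩, (hnb ⟨y, hin hy.1⟩ hy.1).2 hy, ?_⟩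
        show f (g₂ (π ⟨y, hin hy.1⟩)) = f y
        rw [hg ⟨y, hin hy.1⟩ hy.1]
    · rintro p ⟨⟨b, hb, rfl⟩, -⟩ q ⟨⟨b', hb', rfl⟩, -⟩
      show Commute (f (g₂ (π b))) (f (g₂ (π b'))) ↔ Commute (π b) (π b')
      rw [hg b hb, hg b' hb', hpcomm b hb b' hb', hT.comm _ hb _ hb']
    · rintro p ⟨⟨b, hb, rfl⟩, -⟩ q ⟨⟨b', hb', rfl⟩, -⟩
      show f (g₂ (π b * π b' * π b)) = f (g₂ (π b)) * f (g₂ (π b')) * f (g₂ (π b))
      rw [← map_mul, ← map_mul, hg b hb, hg b' hb',
        hg (b * b' * b) (show ((b * b' * b : H) : G) ∈ T from hT.closed _ hb _ hb')]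
      exact hT.conj _ hb _ hb'

end CfsgLib.ThreeTrans.Classif
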