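import Mathlib
import Cfsg.Agent.Lib.ThreeTrans.Classif.SubClass
import Cfsg.Agent.Lib.ThreeTrans.Classif.Disconnected

/-!
Classes in which the members commuting with two non-commuting members look like reflections: one
level up, those members generate modulo the centre a centreless class again.
-/

set_option autoImplicit false

namespace CfsgLib.ThreeTrans.Classif

open CfsgLib.ThreeTrans
open CfsgLib.ThreeTrans.LocalSymThree (nbr nbr_symm)

universe u v w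

/-- In `E` the common neighbours of two non-commuting members are `kk` reflection points of an
`n`-dimensional space with discriminant and norm related by `R`, each of degree in `ll` among them. -/
def MuRefl {Y : Type v} [Group Y] (E : Set Y) (n kk : ℕ) (ll : ℕ → Prop)
    (R : ZMod 3 → ZMod 3 → Prop) : Prop :=
  ∀ a ∈ E, ∀ p ∈ E, ¬ Commute a p → (nbr E a ∩ nbr E p).ncard = kk ∧
    (∀ b ∈ nbr E a ∩ nbr E p, ll ((nbr E a ∩ nbr E p) ∩ nbr E b).ncard) ∧
    ∃ (Q : QuadraticForm (ZMod 3) (Fin n → ZMod 3)) (c : ZMod 3) (ψ : Y → Fin n → ZMod 3),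
      ReflPts (nbr E a ∩ nbr E p) Q c ψ ∧ R (Cfsg.polarGramDet ⇑Q) c

/-- Points transported along a bijection respecting commuting and conjugation. -/
theorem ReflPts.transport {Y : Type v} [Group Y] {Z : Type w} [Group Z] {E : Set Y} {E' : Set Z}
    {n : ℕ} {Q : QuadraticForm (ZMod 3) (Fin n → ZMod 3)} {c : ZMod 3} {ψ : Y → Fin n → ZMod 3}
    (h : ReflPts E Q c ψ) (θ : Z → Y) (hbij : Set.BijOn θ E' E)
    (hcomm : ∀ a ∈ E', ∀ b ∈ E', (Commute (θ a) (θ b) ↔ Commute a b))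
    (hconj : ∀ a ∈ E', ∀ b ∈ E', θ (a * b * a) = θ a * θ b * θ a) : ReflPts E' Q c (ψ ∘ θ) := by
  refine ⟨h.nondeg, h.ne, fun a ha => h.norm _ (hbij.mapsTo ha), fun a ha b hb e => ?_, fun z hz => ?_,
    fun a ha b hb => ?_, fun a ha b hb => ?_⟩
  · exact hbij.injOn ha hb (h.inj _ (hbij.mapsTo ha) _ (hbij.mapsTo hb) e)
  · obtain ⟨y, hy, e⟩ := h.surj z hz
    obtain ⟨a, ha, rfl⟩ := hbij.surjOn hy
    exact ⟨a, ha, e⟩
  · rw [← hcomm a ha b hb, h.comm _ (hbij.mapsTo ha) _ (hbij.mapsTo hb)]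
    exact ⟨fun k => k.imp (fun e => hbij.injOn ha hb e) id, fun k => k.imp (fun e => congrArg θ e) id⟩
  · intro z
    have := h.conj _ (hbij.mapsTo ha) _ (hbij.mapsTo hb)
    simp only [Function.comp_apply, hconj a ha b hb]
    exact this

variable {G : Type u} [Group G] [Finite G] {D : Set G} {Y : Type v} [Group Y] {E : Set Y} {f : G → Y}
  {n kk : ℕ} {ll : ℕ → Prop} {R : ZMod 3 → ZMod 3 → Prop}

/-- One level up the common neighbours of `d` and `c` are locally like reflections. -/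
theorem MuRefl.local_refl (hG : Good D) {N k l m : ℕ} (P : Params D N k l m) (hm : 0 < m) {d c : G}
    (C : Chart D d f E) (hE : MuRefl E n kk ll R) (hcD : c ∈ D) (hdc : ¬ Commute d c) :
    LocalRefl D (nbr D d ∩ nbr D c) f n ∧
      (∀ a ∈ nbr D d ∩ nbr D c, ((nbr D d ∩ nbr D c) ∩ nbr D a).ncard = kk) ∧
      (∀ a ∈ nbr D d ∩ nbr D c, ∀ b ∈ (nbr D d ∩ nbr D c) ∩ nbr D a,
        ll (((nbr D d ∩ nbr D c) ∩ nbr D a) ∩ nbr D b).ncard) ∧
      ∀ a ∈ nbr D d ∩ nbr D c,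
        ∃ (Q : QuadraticForm (ZMod 3) (Fin n → ZMod 3)) (e : ZMod 3) (ψ : Y → Fin n → ZMod 3),
          ReflPts (f '' ((nbr D d ∩ nbr D c) ∩ nbr D a)) Q e ψ ∧ R (Cfsg.polarGramDet ⇑Q) e := by
  set T := nbr D d ∩ nbr D c with hT
  have hc := hG.set.hD.closed
  have hS : MuData E (f '' T) m := muData hG P hm C hcD hdc
  have hinj : Set.InjOn f T := C.bij.injOn.mono Set.inter_subset_left
  have hTa : ∀ a ∈ T, f '' (T ∩ nbr D a) = f '' T ∩ nbr E (f a) := by
    intro a ha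
    rw [← C.image_nbr ha.1, ← C.bij.injOn.image_inter Set.inter_subset_left Set.inter_subset_left]
    congr 1
    ext y
    exact ⟨fun h => ⟨h.1, h.1.1, h.2⟩, fun h => ⟨h.1, h.2.2⟩⟩
  have main : ∀ a ∈ T, (T ∩ nbr D a).ncard = kk ∧
      (∀ b ∈ T ∩ nbr D a, ll ((T ∩ nbr D a) ∩ nbr D b).ncard) ∧
      ∃ (Q : QuadraticForm (ZMod 3) (Fin n → ZMod 3)) (e : ZMod 3) (ψ : Y → Fin n → ZMod 3),
        ReflPts (f '' (T ∩ nbr D a)) Q e ψ ∧ R (Cfsg.polarGramDet ⇑Q) e := by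
    intro a ha
    obtain ⟨p, hp, hap, θ, hθ, hθc, hθm, hθS⟩ := hS.swap (f a) ⟨a, ha, rfl⟩
    obtain ⟨h1, h2, Q, e, ψ, hψ, hR⟩ := hE (f a) (hS.sub ⟨a, ha, rfl⟩) p hp hap
    set M := nbr E (f a) ∩ nbr E p
    have hbij : Set.BijOn θ M (θ '' M) := (hθ.injOn.mono Set.inter_subset_left).bijOn_image
    have himg : f '' (T ∩ nbr D a) = θ '' M := by rw [hTa a ha]; exact hθS
    obtain ⟨θ', hθ'⟩ : ∃ θ' : Y → Y, θ' = Function.invFunOn θ M := ⟨_, rfl⟩
    have hleft : ∀ y ∈ M, θ' (θ y) = y := fun y hy => hθ' ▸ hbij.injOn.leftInvOn_invFunOn hy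
    have hbij' : Set.BijOn θ' (θ '' M) M := by
      refine ⟨?_, ?_, ?_⟩
      · rintro _ ⟨y, hy, rfl⟩; rwa [hleft y hy]
      · rintro _ ⟨y, hy, rfl⟩ _ ⟨y', hy', rfl⟩ h; rw [hleft y hy, hleft y' hy'] at h; rw [h]
      · exact fun y hy => ⟨θ y, ⟨y, hy, rfl⟩, hleft y hy⟩
    refine ⟨?_, ?_, Q, e, ψ ∘ θ', ?_, hR⟩
    · rw [← (hinj.mono Set.inter_subset_left).ncard_image, himg, hbij.injOn.ncard_image, h1]
    · intro b hb
      have hfb : f b ∈ θ '' M := himg ▸ Set.mem_image_of_mem f hb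
      obtain ⟨b', hb', e'⟩ := hfb
      suffices hh : ((T ∩ nbr D a) ∩ nbr D b).ncard = (M ∩ nbr E b').ncard from hh ▸ h2 b' hb'
      rw [← (hinj.mono (Set.inter_subset_left.trans Set.inter_subset_left)).ncard_image,
        ← (hbij.injOn.mono Set.inter_subset_left).ncard_image]
      congr 1
      ext y
      constructor
      · rintro ⟨x, hx, rfl⟩
        obtain ⟨x', hx', e''⟩ := himg.le ⟨x, hx.1, rfl⟩
        refine ⟨x', ⟨hx', hx'.1.1, fun k => hx.2.2.1 ?_, ?_⟩, e''⟩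
        · exact (hinj hx.1.1 hb.1 (by rw [← e'', ← e', k]))
        · rw [← hθc b' hb'.1 x' hx'.1, e', e'', C.comm b hb.1.1 x hx.1.1.1]
          exact hx.2.2.2
      · rintro ⟨x', ⟨hx', -, hne, hcomm⟩, rfl⟩
        obtain ⟨x, hx, e''⟩ := himg.ge ⟨x', hx', rfl⟩
        refine ⟨x, ⟨hx, hx.1.1.1, fun k => hne ?_, ?_⟩, e''⟩
        · exact hθ.injOn hx'.1 hb'.1 (by rw [← e'', k, e'])
        · rw [← hθc b' hb'.1 x' hx'.1, e', ← e'', C.comm b hb.1.1 x hx.1.1] at hcomm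
          exact hcomm
    · rw [himg]
      refine hψ.transport θ' hbij' ?_ ?_
      · rintro _ ⟨u, hu, rfl⟩ _ ⟨w, hw, rfl⟩
        rw [hleft u hu, hleft w hw, hθc u hu.1 w hw.1]
      · rintro _ ⟨u, hu, rfl⟩ _ ⟨w, hw, rfl⟩
        have hmem : θ u * θ w * θ u ∈ θ '' M := by
          obtain ⟨x, hx, ex⟩ := himg.ge ⟨u, hu, rfl⟩
          obtain ⟨z, hz, ez⟩ := himg.ge ⟨w, hw, rfl⟩
          rw [← himg, ← ex, ← ez, ← C.conj x hx.1.1 z hz.1.1]
          exact ⟨x * z * x, ⟨⟨nbr_closed hc hx.1.1 hz.1.1, nbr_closed hc hx.1.2 hz.1.2⟩,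
            nbr_closed hc hx.2 hz.2⟩, rfl⟩
        obtain ⟨v, hv, ev⟩ := hmem
        have hmE : u * w * u ∈ nbr E (f a) := by
          obtain ⟨x, hx, rfl⟩ := (C.image_nbr ha.1).ge hu.1
          obtain ⟨z, hz, rfl⟩ := (C.image_nbr ha.1).ge hw.1
          rw [← C.conj x hx.1 z hz.1, ← C.image_nbr ha.1]
          exact ⟨_, ⟨nbr_closed hc hx.1 hz.1, nbr_closed hc hx.2 hz.2⟩, rfl⟩
        rw [hleft u hu, hleft w hw, ← ev, hleft v hv]
        exact hθ.injOn hv.1 hmE (by rw [ev, hθm u hu.1 w hw.1])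
  refine ⟨⟨fun a ha => ha.1.1, ?_, fun a ha b hb => ⟨nbr_closed hc ha.1 hb.1, nbr_closed hc ha.2 hb.2⟩,
    hinj, fun a ha b hb => C.comm a ha.1 b hb.1, fun a ha b hb => C.conj a ha.1 b hb.1, fun a ha => ?_⟩,
    fun a ha => (main a ha).1, fun a ha => (main a ha).2.1, fun a ha => (main a ha).2.2⟩
  · obtain ⟨_, y, hy, -⟩ := hS.ne; exact ⟨y, hy⟩
  · obtain ⟨Q, e, ψ, h, -⟩ := (main a ha).2.2
    exact ⟨Q, e, ψ, h⟩

/-- A class that is semi and small against its degree is good. -/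
theorem Semi.good_of_small {X : Type w} [Group X] [Finite X] {D' : Set X} (S : Semi D') {K : ℕ}
    (hdeg : ∀ a ∈ D', (nbr D' a).ncard = K) (hsmall : D'.ncard < 3 * (K + 1)) : Good D' := by
  classical
  refine S.good (by_contra fun hdisc => ?_)
  obtain ⟨L, hL⟩ := S.split hdisc
  have hc := S.hE.closed
  have hs := hc.set
  obtain ⟨a, ha, -⟩ := S.hE.two
  obtain ⟨b, hb, hab⟩ := hL.other a ha
  haveI := hL.normal
  have hnc := hL.far a ha b hb hab
  set c := a * b * a with hc'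
  have hcD : c ∈ D' := conj_mem_left hc ha hb
  have hsub : ∀ x ∈ D', insert x (nbr D' x) ⊆ cosetClass D' L x := by
    intro x hx y hy
    rcases hy with rfl | hy
    · exact ⟨hx, by simp [L.one_mem]⟩
    · exact ⟨hy.1, by_contra fun h => hL.far x hx y hy.1 h hy.2.2⟩
  have hdis : ∀ x ∈ D', ∀ y ∈ D', x⁻¹ * y ∉ L →
      Disjoint (insert x (nbr D' x)) (insert y (nbr D' y)) := by
    intro x hx y hy h
    rw [Set.disjoint_left]
    intro z hzx hzy
    refine h ?_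
    have h1 := (hsub x hx hzx).2
    have h2 := L.inv_mem (hsub y hy hzy).2
    simpa [mul_assoc] using L.mul_mem h1 h2
  have hsize : ∀ x ∈ D', (insert x (nbr D' x)).ncard = K + 1 := fun x hx => by
    rw [Set.ncard_insert_of_notMem (fun h => h.2.1 rfl) (Set.toFinite _), hdeg x hx]
  have hac : a⁻¹ * c ∉ L := by
    intro h
    have h1 := (inferInstance : L.Normal).conj_mem _ h a
    apply hab
    have h2 : a * (a⁻¹ * c) * a⁻¹ = a⁻¹ * b := by
      rw [hc', inv_eq hs ha]; simp [mul_assoc, mul_self hs ha, mul_self_mul hs ha]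
    exact h2 ▸ h1
  have hbc : b⁻¹ * c ∉ L := by
    intro h
    apply hab
    have h2 : b⁻¹ * c = (a⁻¹ * b)⁻¹ ^ 2 := by
      rw [hc', inv_eq hs ha, inv_eq hs hb, mul_inv_rev, inv_eq hs ha, inv_eq hs hb, pow_two]
      simp [mul_assoc]
    have h3 : (a⁻¹ * b) ^ 3 = 1 := by rw [inv_eq hs ha]; exact pow_three_of_not_commute hs ha hb hnc
    have h4 : a⁻¹ * b = (a⁻¹ * b)⁻¹ ^ 2 := by
      rw [inv_pow, eq_inv_iff_mul_eq_one, ← pow_succ', h3]
    rw [h4, ← h2]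
    exact h
  have h3 : ((insert a (nbr D' a)) ∪ (insert b (nbr D' b)) ∪ (insert c (nbr D' c))).ncard = 3 * (K + 1) := by
    rw [Set.ncard_union_eq (Set.disjoint_union_left.2 ⟨hdis a ha c hcD hac, hdis b hb c hcD hbc⟩),
      Set.ncard_union_eq (hdis a ha b hb hab), hsize a ha, hsize b hb, hsize c hcD]
    ring
  have hle : ((insert a (nbr D' a)) ∪ (insert b (nbr D' b)) ∪ (insert c (nbr D' c))).ncard ≤ D'.ncard :=
    Set.ncard_le_ncard (Set.union_subset (Set.union_subset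
      (fun y hy => (hsub a ha hy).1) (fun y hy => (hsub b hb hy).1)) fun y hy => (hsub c hcD hy).1)
      (Set.toFinite _)
  omega

end CfsgLib.ThreeTrans.Classif
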