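import Mathlib
import Cfsg.Agent.Lib.ThreeTrans.Classif.MuRefl

/-!
One step of the tower: the common neighbours of two non-commuting members give, modulo the centre,
a good class with a chart onto reflection points, and so reflection points one dimension higher.
-/

set_option autoImplicit false

namespace CfsgLib.ThreeTrans.Classif

open CfsgLib.ThreeTrans
open CfsgLib.ThreeTrans.LocalSymThree (nbr nbr_symm)

universe u v

/-- Raising reflection points from a chart to the class. -/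
def LiftRefl (n : ℕ) : Prop :=
  ∀ {X : Type u} [Group X] [Finite X] {Y : Type v} [Group Y] {D' : Set X} {x : X} {f : X → Y}
    {E' : Set Y} {Q : QuadraticForm (ZMod 3) (Fin n → ZMod 3)} {e : ZMod 3} {ψ : Y → Fin n → ZMod 3},
    Good D' → Chart D' x f E' → ReflPts E' Q e ψ →
    ∃ (Q' : QuadraticForm (ZMod 3) (Fin (n + 1) → ZMod 3)) (ψ' : X → Fin (n + 1) → ZMod 3),
      (QuadraticMap.polarBilin Q').Nondegenerate ∧
      Cfsg.polarGramDet ⇑Q' = Cfsg.polarGramDet ⇑Q * (2 * e) ∧ KindRefl D' Q' e ∧ ReflPts D' Q' e ψ'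

variable {G : Type u} [Group G] [Finite G] {D : Set G} {Y : Type v} [Group Y] {E : Set Y} {f : G → Y}
  {n kk : ℕ} {ll : ℕ → Prop} {R : ZMod 3 → ZMod 3 → Prop}

open Classical in
/-- The map into the quotient by the centre. -/
noncomputable def toQuot (T : Set G) (g : G) :
    ↥(Subgroup.closure T) ⧸ Subgroup.center ↥(Subgroup.closure T) :=
  if h : g ∈ Subgroup.closure T then ((⟨g, h⟩ : ↥(Subgroup.closure T)) : _) else 1

theorem toQuot_of_mem {T : Set G} {g : G} (h : g ∈ T) :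
    toQuot T g = ((⟨g, Subgroup.subset_closure h⟩ : ↥(Subgroup.closure T)) :
      ↥(Subgroup.closure T) ⧸ Subgroup.center ↥(Subgroup.closure T)) := by
  rw [toQuot, dif_pos (show g ∈ Subgroup.closure T from Subgroup.subset_closure h)]

/-- The common neighbours of `d` and `c` as a class, before connectedness. -/
theorem MuRefl.semi_step (hG : Good D) {N k l m : ℕ} (P : Params D N k l m) (hm : 0 < m) {d c : G}
    (C : Chart D d f E) (hE : MuRefl E n kk ll R) (hn : 5 ≤ n) (hkk : 1 < kk) (hne : m ≠ 2 * kk)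
    (hcD : c ∈ D) (hdc : ¬ Commute d c) :
    Semi (subImage (nbr D d ∩ nbr D c)) ∧ (subImage (nbr D d ∩ nbr D c)).ncard = m ∧
      Set.BijOn (toQuot (nbr D d ∩ nbr D c)) (nbr D d ∩ nbr D c) (subImage (nbr D d ∩ nbr D c)) ∧
      (∀ a ∈ nbr D d ∩ nbr D c, ∀ b ∈ nbr D d ∩ nbr D c, (Commute (toQuot (nbr D d ∩ nbr D c) a)
        (toQuot (nbr D d ∩ nbr D c) b) ↔ Commute a b)) ∧
      (∀ x ∈ subImage (nbr D d ∩ nbr D c), (nbr (subImage (nbr D d ∩ nbr D c)) x).ncard = kk) ∧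
      (∀ x ∈ subImage (nbr D d ∩ nbr D c), ∀ y ∈ nbr (subImage (nbr D d ∩ nbr D c)) x,
        ll (nbr (subImage (nbr D d ∩ nbr D c)) x ∩ nbr (subImage (nbr D d ∩ nbr D c)) y).ncard) ∧
      ∀ x ∈ subImage (nbr D d ∩ nbr D c), ∃ f₂ E', Chart (subImage (nbr D d ∩ nbr D c)) x f₂ E' ∧
        ∃ (Q : QuadraticForm (ZMod 3) (Fin n → ZMod 3)) (e : ZMod 3) (ψ : Y → Fin n → ZMod 3),
          ReflPts E' Q e ψ ∧ R (Cfsg.polarGramDet ⇑Q) e := by
  obtain ⟨hT, hdeg, hll, hpts⟩ := hE.local_refl hG P hm C hcD hdc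
  set T := nbr D d ∩ nbr D c with hTdef
  have hTm : T.ncard = m := P.mu d C.mem c hcD hdc
  obtain ⟨hS, hcard, hcomm, hchart⟩ := hT.semi hG.set.hD.closed hn hkk hdeg (hTm ▸ hne)
  have hbij : Set.BijOn (toQuot T) T (subImage T) := by
    have hsurj : toQuot T '' T = subImage T := by
      ext y
      constructor
      · rintro ⟨g, hg, rfl⟩
        exact ⟨⟨g, Subgroup.subset_closure hg⟩, hg, (toQuot_of_mem hg).symm⟩
      · rintro ⟨g, hg, rfl⟩
        exact ⟨g, hg, toQuot_of_mem (T := T) (g := (g : G)) hg⟩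
    refine hsurj ▸ Set.InjOn.bijOn_image ((Set.ncard_image_iff (Set.toFinite _)).1 ?_)
    rw [hsurj, hcard]
  have hq : ∀ a ∈ T, ∀ b ∈ T, (Commute (toQuot T a) (toQuot T b) ↔ Commute a b) := fun a ha b hb => by
    rw [toQuot_of_mem ha, toQuot_of_mem hb]
    exact hcomm ⟨a, Subgroup.subset_closure ha⟩ ⟨b, Subgroup.subset_closure hb⟩ ha hb
  have himg : ∀ a ∈ T, toQuot T '' (T ∩ nbr D a) = nbr (subImage T) (toQuot T a) := by
    intro a ha
    ext y
    constructor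
    · rintro ⟨b, hb, rfl⟩
      exact ⟨hbij.mapsTo hb.1, fun e => hb.2.2.1 (hbij.injOn hb.1 ha e), (hq a ha b hb.1).2 hb.2.2.2⟩
    · rintro ⟨hy, hne, hc⟩
      obtain ⟨b, hb, rfl⟩ := hbij.surjOn hy
      exact ⟨b, ⟨hb, hT.sub hb, fun e => hne (e ▸ rfl), (hq a ha b hb).1 hc⟩, rfl⟩
  refine ⟨hS, hcard.trans hTm, hbij, hq, ?_, ?_, ?_⟩
  · intro x hx
    obtain ⟨a, ha, rfl⟩ := hbij.surjOn hx
    rw [← himg a ha, (hbij.injOn.mono Set.inter_subset_left).ncard_image, hdeg a ha]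
  · intro x hx y hy
    obtain ⟨a, ha, rfl⟩ := hbij.surjOn hx
    rw [← himg a ha] at hy
    obtain ⟨b, hb, rfl⟩ := hy
    rw [← himg a ha, ← himg b hb.1, ← hbij.injOn.image_inter Set.inter_subset_left Set.inter_subset_left,
      (hbij.injOn.mono (Set.inter_subset_left.trans Set.inter_subset_left)).ncard_image]
    convert hll a ha b hb using 2
    ext z
    exact ⟨fun h => ⟨h.1, h.2.2⟩, fun h => ⟨h.1, h.1.1, h.2⟩⟩
  · intro x hx
    obtain ⟨a, ha, f₂, hC⟩ := hchart x hx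
    obtain ⟨Q, e, ψ, h, hR⟩ := hpts a ha
    exact ⟨f₂, _, hC, Q, e, ψ, h, hR⟩

/-- The step: points one dimension higher on the common neighbours of every non-commuting pair. -/
theorem MuRefl.step (hlift : LiftRefl.{u, v} n) (hG : Good D) {N k l m : ℕ} (P : Params D N k l m)
    (hm : 0 < m) {d : G} (C : Chart D d f E) (hE : MuRefl E n kk ll R) (hn : 5 ≤ n) (hkk : 1 < kk)
    (hne : m ≠ 2 * kk) (hsmall : m < 3 * (kk + 1)) :
    (∀ c ∈ D, ¬ Commute d c → ∃ (Q' : QuadraticForm (ZMod 3) (Fin (n + 1) → ZMod 3)) (e : ZMod 3)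
      (det : ZMod 3), e ≠ 0 ∧ R det e ∧ Cfsg.polarGramDet ⇑Q' = det * (2 * e) ∧
      Cfsg.IsProjReflectionGroupModThree (↥(Subgroup.closure (nbr D d ∩ nbr D c)) ⧸
        Subgroup.center ↥(Subgroup.closure (nbr D d ∩ nbr D c))) (n + 1) (det * (2 * e)) e) ∧
    MuRefl D (n + 1) m (· = kk) (fun det' e => ∃ det, R det e ∧ det' = det * (2 * e)) := by
  classical
  have hc := hG.set.hD.closed
  have main : ∀ c ∈ D, ¬ Commute d c →
      (∀ b ∈ nbr D d ∩ nbr D c, ((nbr D d ∩ nbr D c) ∩ nbr D b).ncard = kk) ∧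
      ∃ (Q' : QuadraticForm (ZMod 3) (Fin (n + 1) → ZMod 3)) (e det : ZMod 3)
        (ψ : G → Fin (n + 1) → ZMod 3), e ≠ 0 ∧ R det e ∧
        Cfsg.polarGramDet ⇑Q' = det * (2 * e) ∧ ReflPts (nbr D d ∩ nbr D c) Q' e ψ ∧
        Cfsg.IsProjReflectionGroupModThree (↥(Subgroup.closure (nbr D d ∩ nbr D c)) ⧸
          Subgroup.center ↥(Subgroup.closure (nbr D d ∩ nbr D c))) (n + 1) (det * (2 * e)) e := by
    intro c hcD hdc
    obtain ⟨hT, hdeg, -, -⟩ := hE.local_refl hG P hm C hcD hdc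
    obtain ⟨hS, hcard, hbij, hq, hdegS, -, hchart⟩ := hE.semi_step hG P hm C hn hkk hne hcD hdc
    set T := nbr D d ∩ nbr D c
    have hgood := hS.good_of_small hdegS (by omega)
    obtain ⟨a, ha⟩ := hT.ne
    obtain ⟨f₂, E', hC, Q, e, ψ, hψ, hR⟩ := hchart _ (hbij.mapsTo ha)
    obtain ⟨Q', ψ', hQ', hdet, hK, hψ'⟩ := hlift hgood hC hψ
    refine ⟨hdeg, Q', e, Cfsg.polarGramDet ⇑Q, ψ' ∘ toQuot T, hψ.ne, hR, hdet, ?_, Q', hQ', hdet, ?_⟩
    · refine hψ'.transport (toQuot T) hbij hq fun a ha b hb => ?_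
      have hab := hT.closed a ha b hb
      rw [toQuot_of_mem ha, toQuot_of_mem hb, toQuot_of_mem hab]
      rfl
    · obtain ⟨φ, -⟩ := hK
      exact ⟨φ⟩
  refine ⟨fun c hcD hdc => ?_, fun a ha p hp hap => ?_⟩
  · obtain ⟨-, Q', e, det, -, he, hR, hdet, -, hP⟩ := main c hcD hdc
    exact ⟨Q', e, det, he, hR, hdet, hP⟩
  · obtain ⟨c, hcD, hdc⟩ := exists_not_commute hG.set.hD.gen hc hG.set.hD.class_eq hG.set.hD.two C.mem
    obtain ⟨g, rfl, rfl⟩ := hG.set.pairConj_far C.mem hcD ha hp hdc hap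
    obtain ⟨hdeg, Q', e, det, ψ, -, hR, hdet, hψ, -⟩ := main c hcD hdc
    have hinj : Function.Injective fun y : G => g * y * g⁻¹ :=
      fun u w h => mul_left_cancel (mul_right_cancel h)
    have himg : nbr D (g * d * g⁻¹) ∩ nbr D (g * c * g⁻¹) =
        (fun y => g * y * g⁻¹) '' (nbr D d ∩ nbr D c) := by
      rw [InnerTwins.nbr_conj hc, InnerTwins.nbr_conj hc, Set.image_inter hinj]
    rw [himg]
    refine ⟨?_, ?_, Q', e, ψ ∘ (fun y => g⁻¹ * y * g), ?_, det, hR, hdet⟩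
    · rw [Set.ncard_image_of_injective _ hinj, P.mu d C.mem c hcD hdc]
    · rintro _ ⟨b, hb, rfl⟩
      rw [InnerTwins.nbr_conj hc, ← Set.image_inter hinj, Set.ncard_image_of_injective _ hinj, hdeg b hb]
    · refine hψ.transport _ ⟨?_, ?_, ?_⟩ ?_ ?_
      · rintro _ ⟨y, hy, rfl⟩
        convert hy using 1
        group
      · rintro _ ⟨y, hy, rfl⟩ _ ⟨z, hz, rfl⟩ h
        simp only [mul_assoc, inv_mul_cancel, mul_one, inv_mul_cancel_left] at h
        rw [h]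
      · intro y hy
        exact ⟨_, ⟨y, hy, rfl⟩, by group⟩
      · intro u _ w _
        have := commute_conj_iff g⁻¹ u w
        rwa [inv_inv] at this
      · intro u _ w _
        group

end CfsgLib.ThreeTrans.Classif
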