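import Mathlib
import Cfsg.Agent.Lib.ThreeTrans.Classif.TowerStep
import Cfsg.Agent.Lib.ThreeTrans.Classif.SrgTables

/-!
The three exceptional steps: over PSU(6,2) lies M(22), over M(22) lies M(23), over M(23) lies M(24)
(with the layer of the common neighbours split into three).
-/

set_option autoImplicit false

namespace CfsgLib.ThreeTrans.Classif

open CfsgLib.ThreeTrans
open CfsgLib.ThreeTrans.LocalSymThree (nbr)

universe u v

variable {G : Type u} [Group G] [Finite G] {D : Set G}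

theorem MuRefl.mono {Y : Type v} [Group Y] {E : Set Y} {n kk : ℕ} {ll ll' : ℕ → Prop}
    {R R' : ZMod 3 → ZMod 3 → Prop} (h : MuRefl E n kk ll R) (hl : ∀ i, ll i → ll' i)
    (hR : ∀ det e, e ≠ 0 → R det e → R' det e) : MuRefl E n kk ll' R' := fun a ha p hp hap => by
  obtain ⟨h1, h2, Q, e, ψ, h3, h4⟩ := h a ha p hp hap
  exact ⟨h1, fun b hb => hl _ (h2 b hb), Q, e, ψ, h3, hR _ _ h3.ne h4⟩

/-- The members commuting with `d`, as the standard image in the quotient by the centre. -/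
theorem imgSet_eq_image {d : G} {π : Hd D d →* Hd D d ⧸ Subgroup.center (Hd D d)}
    (hπ : π = QuotientGroup.mk' (Subgroup.center (Hd D d))) {E : Set (Hd D d ⧸ Subgroup.center (Hd D d))}
    (hE : E = imgSet D d π) (C : Chart D d (Tower.phi π) E) :
    (QuotientGroup.mk : Hd D d → Hd D d ⧸ Subgroup.center (Hd D d)) ''
      {x : Hd D d | (x : G) ∈ nbr D d} = E := by
  subst hπ
  refine Set.Subset.antisymm ?_ ?_
  · rintro _ ⟨x, hx, rfl⟩
    have := C.bij.mapsTo hx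
    rwa [Tower.phi_of_mem _ hx] at this
  · rw [hE]
    rintro _ ⟨-, x, hx, rfl⟩
    exact ⟨x, hx, rfl⟩

/-- What the M(22) level passes on. -/
def LevelTwentyTwo (D : Set G) : Prop :=
  Cfsg.IsOfTypeM22 G D ∧ (∀ n k l m, Params D n k l m → n = 3510 ∧ k = 693) ∧
    MuRefl D 6 126 (fun i => i = 45) (fun det _ => det = 1)

/-- What the M(23) level passes on. -/
def LevelTwentyThree (D : Set G) : Prop :=
  Cfsg.IsOfTypeM23 G D ∧ (∀ n k l m, Params D n k l m → n = 31671 ∧ k = 3510) ∧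
    MuRefl D 7 351 (fun i => i = 126) (fun det e => det = -e)

/-- Over PSU(6,2) lies type M(22). -/
theorem level_twentyTwo (hlift : LiftRefl.{u, u} 5) (hG : Good D) {d : G}
    {π : Hd D d →* Hd D d ⧸ Subgroup.center (Hd D d)}
    (C : Chart D d (Tower.phi π) (imgSet D d π)) (hK : KindPSU (imgSet D d π) 6)
    (hcard : (imgSet D d π).ncard = 693) (hdeg : ∀ e ∈ imgSet D d π, (nbr (imgSet D d π) e).ncard = 180)
    (hmu : MuRefl (imgSet D d π) 5 45 (fun _ => True) (fun det e => det * (2 * e) = 1)) :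
    LevelTwentyTwo D := by
  obtain ⟨N, k, l, m, P, hm, hmk⟩ := exists_params hG
  obtain ⟨hk, hl⟩ := P.of_chart hG C hdeg
  rw [hcard] at hk
  subst hk hl
  obtain rfl := mu_sixNinetyThree hG hm P hmk
  obtain ⟨-, -, heq⟩ := Params.card_eq hG P hmk
  have hN : N = 3510 := by norm_num at heq; omega
  obtain ⟨hstep, hmu'⟩ := hmu.step hlift hG P hm C (by norm_num) (by norm_num) (by norm_num) (by norm_num)
  refine ⟨?_, fun n' k' l' m' P' => ?_, hmu'.mono (fun i h => h) fun det e _ h => ?_⟩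
  · obtain ⟨c, hc, hdc⟩ := exists_not_commute hG.set.hD.gen hG.set.hD.closed hG.set.hD.class_eq hG.set.hD.two C.mem
    obtain ⟨Q', e, det, he, hR, -, hP⟩ := hstep c hc hdc
    obtain ⟨F, iF, iF', hF, φ, -⟩ := hK
    rw [show det * (2 * e) = 1 from hR] at hP
    exact ⟨hG.triv, d, C.mem, c, hc, hdc, ⟨F, iF, iF', hF, ⟨φ⟩⟩, e, he, hP⟩
  · obtain ⟨h1, h2, -, -⟩ := Params.unique hG P' P
    exact ⟨h1.trans hN, h2⟩
  · obtain ⟨det', h1, rfl⟩ := h
    exact h1

/-- Over M(22) lies type M(23). -/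
theorem level_twentyThree (hlift : LiftRefl.{u, u} 6) (hG : Good D) {d : G}
    {π : Hd D d →* Hd D d ⧸ Subgroup.center (Hd D d)}
    (hπ : π = QuotientGroup.mk' (Subgroup.center (Hd D d)))
    (C : Chart D d (Tower.phi π) (imgSet D d π)) (hgood : Good (imgSet D d π))
    (hE : LevelTwentyTwo (imgSet D d π)) : LevelTwentyThree D := by
  obtain ⟨h22, hpar, hmu⟩ := hE
  obtain ⟨nE, kE, lE, mE, PE, -, -⟩ := exists_params hgood
  obtain ⟨rfl, rfl⟩ := hpar _ _ _ _ PE
  obtain ⟨N, k, l, m, P, hm, hmk⟩ := exists_params hG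
  obtain ⟨hk, hl⟩ := P.of_chart hG C PE.deg
  rw [PE.card] at hk
  subst hk hl
  obtain rfl := mu_threeFiveTen hG hm P hmk
  obtain ⟨-, -, heq⟩ := Params.card_eq hG P hmk
  have hN : N = 31671 := by norm_num at heq; omega
  obtain ⟨hstep, hmu'⟩ := hmu.step hlift hG P hm C (by norm_num) (by norm_num) (by norm_num) (by norm_num)
  have key : ∀ e : ZMod 3, (1 : ZMod 3) * (2 * e) = -e := by decide
  refine ⟨?_, fun n' k' l' m' P' => ?_, hmu'.mono (fun i h => h) fun det e _ h => ?_⟩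
  · obtain ⟨c, hc, hdc⟩ := exists_not_commute hG.set.hD.gen hG.set.hD.closed hG.set.hD.class_eq hG.set.hD.two C.mem
    obtain ⟨Q', e, det, he, hR, -, hP⟩ := hstep c hc hdc
    rw [show det = 1 from hR, key e] at hP
    refine ⟨hG.triv, d, C.mem, c, hc, hdc, ?_, e, he, hP⟩
    have h := imgSet_eq_image hπ rfl C
    exact h.symm ▸ h22
  · obtain ⟨h1, h2, -, -⟩ := Params.unique hG P' P
    exact ⟨h1.trans hN, h2⟩
  · obtain ⟨det', h1, rfl⟩ := h
    rw [show det' = 1 from h1, key e]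

/-- Three cosets of reflection type in dimension eight: what the layer analysis must give. -/
def SplitEight : Prop :=
  ∀ {X : Type u} [Group X] [Finite X] {D' : Set X} {L : Subgroup X}, Semi D' → Split D' L →
    (∀ a ∈ D', ∃ (Q : QuadraticForm (ZMod 3) (Fin 8 → ZMod 3)) (e : ZMod 3),
      (QuadraticMap.polarBilin Q).Nondegenerate ∧ e ≠ 0 ∧ Cfsg.polarGramDet ⇑Q = 1 ∧
        KindRefl {y : coverGroup L a | (y : X) ∈ cosetClass D' L a} Q e) →
    ∃ (N : Subgroup X) (_ : N.Normal), Nonempty (N ≃* Cfsg.POmega (ZMod 3) (Cfsg.quadFormPlus 4 (ZMod 3))) ∧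
      Nonempty (X ⧸ N ≃* Equiv.Perm (Fin 3))

/-- Over M(23) lies type M(24). -/
theorem level_twentyFour (hlift : LiftRefl.{u, u} 7) (hsplit : SplitEight.{u}) (hG : Good D) {d : G}
    {π : Hd D d →* Hd D d ⧸ Subgroup.center (Hd D d)}
    (hπ : π = QuotientGroup.mk' (Subgroup.center (Hd D d)))
    (C : Chart D d (Tower.phi π) (imgSet D d π)) (hgood : Good (imgSet D d π))
    (hE : LevelTwentyThree (imgSet D d π)) :
    Cfsg.IsOfTypeM24 G D ∧ ∀ n k l m, Params D n k l m → n = 306936 ∧ k = 31671 := by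
  obtain ⟨h23, hpar, hmu⟩ := hE
  obtain ⟨nE, kE, lE, mE, PE, -, -⟩ := exists_params hgood
  obtain ⟨rfl, rfl⟩ := hpar _ _ _ _ PE
  obtain ⟨N, k, l, m, P, hm, hmk⟩ := exists_params hG
  obtain ⟨hk, hl⟩ := P.of_chart hG C PE.deg
  rw [PE.card] at hk
  subst hk hl
  obtain rfl := mu_threeOneSixSevenOne hG hm P hmk
  obtain ⟨-, -, heq⟩ := Params.card_eq hG P hmk
  have hN : N = 306936 := by norm_num at heq; omega
  refine ⟨?_, fun n' k' l' m' P' => ?_⟩
  swap
  · obtain ⟨h1, h2, -, -⟩ := Params.unique hG P' P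
    exact ⟨h1.trans hN, h2⟩
  obtain ⟨c, hc, hdc⟩ := exists_not_commute hG.set.hD.gen hG.set.hD.closed hG.set.hD.class_eq hG.set.hD.two C.mem
  obtain ⟨hS, hcard, hbij, -, hdegS, hlamS, hchart⟩ :=
    hmu.semi_step hG P hm C (by norm_num) (by norm_num) (by norm_num) hc hdc
  have h23' := imgSet_eq_image hπ rfl C
  set T := nbr D d ∩ nbr D c with hT
  set D' := subImage T with hD'
  -- not connected: the parameters would be impossible
  have hdisc : ¬ (Cfsg.commutingGraph D').Connected := by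
    intro hconn
    have hgood' := hS.good hconn
    obtain ⟨n', k', l', m', P', -, hmk'⟩ := exists_params hgood'
    obtain ⟨a, ha, b, hb, hne, hab⟩ := hgood'.set.pair
    have hk' : k' = 351 := (P'.deg a ha).symm.trans (hdegS a ha)
    have hl' : l' = 126 :=
      (P'.lam a ha b ⟨hb, hne.symm, hab⟩).symm.trans (hlamS a ha b ⟨hb, hne.symm, hab⟩)
    obtain ⟨-, -, heq'⟩ := Params.card_eq hgood' P' hmk'
    rw [hk', hl', ← P'.card, hcard] at heq'
    norm_num at heq'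
    omega
  obtain ⟨L, hL⟩ := hS.split hdisc
  suffices hall : ∀ x ∈ D', ∃ (Q : QuadraticForm (ZMod 3) (Fin 8 → ZMod 3)) (e : ZMod 3),
      (QuadraticMap.polarBilin Q).Nondegenerate ∧ e ≠ 0 ∧ Cfsg.polarGramDet ⇑Q = 1 ∧
        KindRefl {y : coverGroup L x | (y : ↥(Subgroup.closure T) ⧸ Subgroup.center ↥(Subgroup.closure T)) ∈ cosetClass D' L x} Q e by
    obtain ⟨Nn, hNn, h1, h2⟩ := hsplit hS hL hall
    exact ⟨hG.triv, d, C.mem, c, hc, hdc, h23'.symm ▸ h23, Nn, hNn, h1, h2⟩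
  intro x hx
  -- the coset class through `x` has the same members commuting with `x`
  obtain ⟨f₂, E', hC, Q, e, ψ, hψ, hR⟩ := hchart x hx
  have hxO : (⟨x, Subgroup.mem_sup_right (Subgroup.mem_zpowers x)⟩ : coverGroup L x) ∈
      {y : coverGroup L x | (y : ↥(Subgroup.closure T) ⧸ Subgroup.center ↥(Subgroup.closure T)) ∈ cosetClass D' L x} := ⟨hx, by simp [L.one_mem]⟩
  have hnb : ∀ y ∈ nbr D' x, y ∈ coverGroup L x ∧ x⁻¹ * y ∈ L := fun y hy => by
    have h : x⁻¹ * y ∈ L := by_contra fun h => hL.far x hx y hy.1 h hy.2.2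
    refine ⟨?_, h⟩
    rw [show y = x * (x⁻¹ * y) by group]
    exact (coverGroup L x).mul_mem (Subgroup.mem_sup_right (Subgroup.mem_zpowers x)) (Subgroup.mem_sup_left h)
  have hC' : Chart {y : coverGroup L x | (y : ↥(Subgroup.closure T) ⧸ Subgroup.center ↥(Subgroup.closure T)) ∈ cosetClass D' L x}
      ⟨x, Subgroup.mem_sup_right (Subgroup.mem_zpowers x)⟩ (fun y => f₂ (y : ↥(Subgroup.closure T) ⧸ Subgroup.center ↥(Subgroup.closure T))) E' := by
    refine ⟨hxO, ⟨?_, ?_, ?_⟩, ?_, ?_⟩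
    · intro y hy
      exact hC.bij.mapsTo ⟨hy.1.1, fun k => hy.2.1 (Subtype.ext k), congrArg Subtype.val hy.2.2⟩
    · intro y hy z hz h
      exact Subtype.ext (hC.bij.injOn ⟨hy.1.1, fun k => hy.2.1 (Subtype.ext k), congrArg Subtype.val hy.2.2⟩
        ⟨hz.1.1, fun k => hz.2.1 (Subtype.ext k), congrArg Subtype.val hz.2.2⟩ h)
    · intro z hz
      obtain ⟨y, hy, rfl⟩ := hC.bij.surjOn hz
      exact ⟨⟨y, (hnb y hy).1⟩, ⟨⟨hy.1, (hnb y hy).2⟩, fun k => hy.2.1 (congrArg Subtype.val k),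
        Subtype.ext hy.2.2⟩, rfl⟩
    · intro y hy z hz
      rw [hC.comm _ ⟨hy.1.1, fun k => hy.2.1 (Subtype.ext k), congrArg Subtype.val hy.2.2⟩ _
        ⟨hz.1.1, fun k => hz.2.1 (Subtype.ext k), congrArg Subtype.val hz.2.2⟩]
      exact ⟨fun h => Subtype.ext h, fun h => congrArg Subtype.val h⟩
    · intro y hy z hz
      exact hC.conj _ ⟨hy.1.1, fun k => hy.2.1 (Subtype.ext k), congrArg Subtype.val hy.2.2⟩ _
        ⟨hz.1.1, fun k => hz.2.1 (Subtype.ext k), congrArg Subtype.val hz.2.2⟩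
  obtain ⟨Q', ψ', hQ', hdet, hKind, -⟩ := hlift (hL.good x hx) hC' hψ
  refine ⟨Q', e, hQ', hψ.ne, ?_, hKind⟩
  rw [hdet, show Cfsg.polarGramDet ⇑Q = -e from hR]
  have key : ∀ e : ZMod 3, e ≠ 0 → -e * (2 * e) = 1 := by decide
  exact key e hψ.ne

end CfsgLib.ThreeTrans.Classif
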