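import Mathlib
import Cfsg.Agent.Lib.ThreeTrans.Classif.MuRefl
import Cfsg.Agent.Lib.ThreeTrans.Classif.UnitNumbers
import Cfsg.Agent.Lib.ThreeTrans.Classif.UnitFour.Points

/-! The six-dimensional unitary class as a step fact. -/

set_option autoImplicit false

namespace CfsgLib.ThreeTrans.Classif

open CfsgLib.ThreeTrans.LocalSymThree (nbr)

universe u

/-- The common neighbours in the six-dimensional unitary class form a five-dimensional reflection
class. -/
theorem uSix_step {Y : Type u} [Group Y] {E : Set Y} (hE : KindPSU E 6) :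
    E.ncard = 693 ∧ (∀ e ∈ E, (nbr E e).ncard = 180) ∧
      MuRefl E 5 45 (fun _ => True) (fun det e => det * (2 * e) = 1) := by
  obtain ⟨hcard, hdeg, hmu⟩ := psuSix_numbers hE
  obtain ⟨F, _, _, ψ, h⟩ := psu_points (by norm_num) hE
  refine ⟨hcard, hdeg, fun a ha p hp hap => ⟨hmu a ha p hp hap, fun _ _ => trivial, ?_⟩⟩
  have hdim : Module.finrank F (h.perp (ψ a) (ψ p)) = 4 := by
    have := h.finrank_perp ha hp hap
    rw [Module.finrank_fin_fun] at this
    omega
  have hc := h.common ha hp hap
  obtain ⟨φ, hφ⟩ := hc.exists_coord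
  revert φ
  rw [hdim]
  intro φ hφ
  exact UnitFour.unitFour_refl (hc.map φ hφ)

end CfsgLib.ThreeTrans.Classif
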