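import Mathlib
import Cfsg.Prelude.Def_KGroupFacts
import Cfsg.Agent.Lib.ThreeTrans.Classif.Disconnected
import Cfsg.Agent.Lib.ThreeTrans.TypeTop.Perfect
import Cfsg.Agent.Lib.ThreeTrans.TypeTop.ParityTop
import Cfsg.Agent.Lib.ThreeTrans.Tower.Types
import Cfsg.Agent.Lib.ClassicalGroups.UnitarySimple
import Cfsg.Agent.Lib.Schur.AutAlternating
import Cfsg.Agent.Lib.Sp.Simple

/-!
A disconnected class and its layer: the quotient acts faithfully by outer automorphisms of the
layer and carries a class with no commuting pair, so three divides the outer automorphism group;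
a coset class can only be of orthogonal kind.
-/

set_option autoImplicit false

namespace CfsgLib.ThreeTrans.Classif

open CfsgLib.ThreeTrans
open scoped commutatorElement

universe u v

variable {G : Type u} [Group G] {D : Set G} {L : Subgroup G}

/-- The members in one coset of the layer, inside the group they generate. -/
def coverClass (D : Set G) (L : Subgroup G) (a : G) : Set (coverGroup L a) :=
  {y | (y : G) ∈ cosetClass D L a}

theorem Split.good_cover (hL : Split D L) {a : G} (ha : a ∈ D) : Good (coverClass D L a) :=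
  hL.good a ha

theorem ncard_coverClass {a : G} :
    (coverClass D L a).ncard = (cosetClass D L a).ncard := by
  rw [← Set.ncard_image_of_injective _ (coverGroup L a).subtype_injective]
  congr 1
  ext y
  refine ⟨fun ⟨z, hz, e⟩ => e ▸ hz, fun hy => ⟨⟨y, ?_⟩, hy, rfl⟩⟩
  rw [show y = a * (a⁻¹ * y) by group]
  exact (coverGroup L a).mul_mem (Subgroup.mem_sup_right (Subgroup.mem_zpowers a))
    (Subgroup.mem_sup_left hy.2)

/-! ### The layer inside a cover -/

theorem Split.mem_cover (L : Subgroup G) (a : G) : a ∈ coverGroup L a :=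
  Subgroup.mem_sup_right (Subgroup.mem_zpowers a)

theorem Split.le_cover (L : Subgroup G) (a : G) : L ≤ coverGroup L a := le_sup_left

theorem Split.nontrivial (hL : Split D L) : Nontrivial L := by
  haveI := hL.simple
  exact IsSimpleGroup.toNontrivial

theorem Split.center_layer (hL : Split D L) : Subgroup.center L = ⊥ := by
  rw [eq_bot_iff]
  intro z hz
  have : (z : G) ∈ Subgroup.centralizer (L : Set G) :=
    Subgroup.mem_centralizer_iff.2 fun l hl =>
      congrArg Subtype.val (Subgroup.mem_center_iff.1 hz ⟨l, hl⟩)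
  rw [hL.self, Subgroup.mem_bot] at this
  exact Subgroup.mem_bot.2 (Subtype.ext this)

theorem Split.perfect_layer (hL : Split D L) : commutator L = ⊤ := by
  haveI := hL.simple
  haveI := hL.nontrivial
  refine ((inferInstance : (commutator L).Normal).eq_bot_or_eq_top).resolve_left fun h => ?_
  have hc : Subgroup.center L = ⊤ := by
    rw [eq_top_iff]
    intro x _
    rw [Subgroup.mem_center_iff]
    intro y
    have : ⁅y, x⁆ ∈ commutator L :=
      Subgroup.commutator_mem_commutator (Subgroup.mem_top _) (Subgroup.mem_top _)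
    rw [h, Subgroup.mem_bot, commutatorElement_eq_one_iff_mul_comm] at this
    exact this
  exact top_ne_bot (hc.symm.trans hL.center_layer)

/-- The layer is the derived subgroup of each cover. -/
theorem Split.cover_commutator (hL : Split D L) {a : G} :
    commutator (coverGroup L a) = L.subgroupOf (coverGroup L a) := by
  haveI := hL.normal
  haveI : (L.subgroupOf (coverGroup L a)).Normal := inferInstance
  refine le_antisymm ?_ ?_
  · refine Subgroup.Normal.commutator_le_of_self_sup_commutative_eq_top
      (H := Subgroup.zpowers ⟨a, Split.mem_cover L a⟩) ?_ inferInstance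
    refine Subgroup.map_injective (coverGroup L a).subtype_injective ?_
    rw [Subgroup.map_sup, MonoidHom.map_zpowers, Subgroup.subgroupOf_map_subtype,
      inf_of_le_left (Split.le_cover L a), ← MonoidHom.range_eq_map, Subgroup.range_subtype]
    rfl
  · let i : L →* coverGroup L a := Subgroup.inclusion (Split.le_cover L a)
    intro y hy
    have hy' : y ∈ (commutator L).map i := by
      rw [hL.perfect_layer]
      exact ⟨⟨y, hy⟩, Subgroup.mem_top _, rfl⟩
    rw [commutator_def, Subgroup.map_commutator] at hy'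
    exact Subgroup.commutator_mono le_top le_top hy'

/-- The layer read inside a model of a cover. -/
noncomputable def Split.layerEquiv (hL : Split D L) {a : G} {Y : Type v} [Group Y]
    (e : coverGroup L a ≃* Y) : L ≃* commutator Y :=
  (Subgroup.subgroupOfEquivOfLe (Split.le_cover L a)).symm.trans
    ((MulEquiv.subgroupCongr hL.cover_commutator.symm).trans
      ((e.subgroupMap (commutator (coverGroup L a))).trans
        (MulEquiv.subgroupCongr (by
          rw [commutator_def, commutator_def, Subgroup.map_commutator,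
            Subgroup.map_top_of_surjective _ e.surjective]))))

theorem Split.cover_nontrivial (hL : Split D L) {a : G} : Nontrivial (coverGroup L a) := by
  haveI := hL.nontrivial
  exact (Subgroup.inclusion_injective (Split.le_cover L a)).nontrivial

theorem Split.cover_not_perfect (hL : Split D L) {a : G} (ha : a ∈ D) :
    commutator (coverGroup L a) ≠ ⊤ := by
  intro h
  rw [hL.cover_commutator] at h
  have : (⟨a, Split.mem_cover L a⟩ : coverGroup L a) ∈ L.subgroupOf (coverGroup L a) :=
    h ▸ Subgroup.mem_top _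
  exact hL.not_mem a ha this

theorem Split.cover_not_simple (hL : Split D L) {a : G} (ha : a ∈ D) :
    ¬ IsSimpleGroup (coverGroup L a) := by
  intro h
  haveI := hL.cover_nontrivial (a := a)
  refine hL.cover_not_perfect ha
    (((inferInstance : (commutator (coverGroup L a)).Normal).eq_bot_or_eq_top).resolve_left fun hb => ?_)
  rw [hL.cover_commutator, Subgroup.subgroupOf_eq_bot, disjoint_iff,
    inf_of_le_left (Split.le_cover L a)] at hb
  exact (Subgroup.nontrivial_iff_ne_bot L).1 hL.nontrivial hb

theorem Split.cover_index (hL : Split D L) (hs : Cfsg.IsThreeTranspositionSet D) {a : G}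
    (ha : a ∈ D) : (L.subgroupOf (coverGroup L a)).index = 2 := by
  haveI := hL.normal
  rw [Subgroup.index_eq_two_iff]
  refine ⟨⟨a, Split.mem_cover L a⟩, fun ⟨y, hy⟩ => ?_⟩
  obtain ⟨l, hl, z, hz, e⟩ : ∃ l ∈ L, ∃ z ∈ Subgroup.zpowers a, l * z = y := by
    simpa [coverGroup] using Subgroup.mem_sup_of_normal_left.1 hy
  obtain ⟨k, rfl⟩ := Subgroup.mem_zpowers_iff.1 hz
  have ha2 : a ^ (2 : ℤ) = 1 := by rw [zpow_two, mul_self hs ha]
  have hcases : y = l ∨ y = l * a := by
    rcases Int.even_or_odd k with ⟨j, hj⟩ | ⟨j, hj⟩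
    · left
      rw [← e, hj, ← two_mul, zpow_mul, ha2, one_zpow, mul_one]
    · right
      rw [← e, hj, zpow_add, zpow_mul, ha2, one_zpow, one_mul, zpow_one]
  simp only [Subgroup.mem_subgroupOf, Subgroup.coe_mul]
  rcases hcases with rfl | rfl
  · exact Or.inr ⟨hl, fun h => hL.not_mem a ha (by
      have := L.mul_mem (L.inv_mem hl) h
      rwa [inv_mul_cancel_left] at this)⟩
  · refine Or.inl ⟨by rw [mul_assoc, mul_self hs ha, mul_one]; exact hl, fun h => hL.not_mem a ha ?_⟩
    have := L.mul_mem (L.inv_mem hl) h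
    rwa [inv_mul_cancel_left] at this

/-! ### Outer automorphisms -/

/-- The automorphisms of a group without centre. -/
theorem card_mulAut_eq {H : Type*} [Group H] (hc : Subgroup.center H = ⊥) :
    Nat.card (MulAut H) = Nat.card (Cfsg.Out H) * Nat.card H := by
  have hinj : Function.Injective (MulAut.conj : H →* MulAut H) := by
    rw [injective_iff_map_eq_one]
    intro h hh
    rw [← Subgroup.mem_bot, ← hc, Subgroup.mem_center_iff]
    intro x
    have := DFunLike.congr_fun hh x
    rw [MulAut.conj_apply, MulAut.one_apply, mul_inv_eq_iff_eq_mul] at this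
    exact this.symm
  rw [Subgroup.card_eq_card_quotient_mul_card_subgroup (Cfsg.Inn H),
    ← Nat.card_congr (MonoidHom.ofInjective hinj).toEquiv]

/-- The quotient by the layer acts faithfully by outer automorphisms of it. -/
theorem Split.exists_hom (hL : Split D L) [L.Normal] :
    ∃ f : G ⧸ L →* Cfsg.Out L, Function.Injective f := by
  set ψ : G →* Cfsg.Out L :=
    (QuotientGroup.mk' (Cfsg.Inn L)).comp (MulAut.conjNormal : G →* MulAut L)
  have hker : ψ.ker = L := by
    ext g
    rw [MonoidHom.mem_ker, MonoidHom.comp_apply, QuotientGroup.mk'_apply, QuotientGroup.eq_one_iff]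
    constructor
    · rintro ⟨l, hl⟩
      have hc : (l : G)⁻¹ * g ∈ Subgroup.centralizer (L : Set G) := by
        rw [Subgroup.mem_centralizer_iff]
        intro x hx
        have := congrArg Subtype.val (DFunLike.congr_fun hl ⟨x, hx⟩)
        simp only [MulAut.conj_apply, Subgroup.coe_mul, Subgroup.coe_inv,
          MulAut.conjNormal_apply] at this
        calc x * ((l : G)⁻¹ * g) = (l : G)⁻¹ * ((l : G) * x * (l : G)⁻¹) * g := by group
          _ = (l : G)⁻¹ * (g * x * g⁻¹) * g := by rw [this]
          _ = (l : G)⁻¹ * g * x := by group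
      rw [hL.self, Subgroup.mem_bot, inv_mul_eq_one] at hc
      exact hc ▸ l.2
    · intro hg
      exact ⟨⟨g, hg⟩, MulEquiv.ext fun x => Subtype.ext (by simp)⟩
  refine ⟨QuotientGroup.lift L ψ hker.ge, (injective_iff_map_eq_one _).2 fun x hx => ?_⟩
  induction x using QuotientGroup.induction_on with
  | _ g =>
    rw [QuotientGroup.eq_one_iff, ← hker, MonoidHom.mem_ker]
    exact hx

variable [Finite G]

/-- Members in different cosets have a product of order three modulo the layer. -/
theorem Split.exists_order_three (hS : Semi D) (hL : Split D L) [L.Normal] :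
    ∃ a ∈ D, ∃ b ∈ D, orderOf ((a * b : G) : G ⧸ L) = 3 := by
  have hs := hS.hE.closed.set
  obtain ⟨a, ha, -⟩ := hS.pair
  obtain ⟨b, hb, hab⟩ := hL.other a ha
  haveI : Fact (Nat.Prime 3) := ⟨Nat.prime_three⟩
  refine ⟨a, ha, b, hb, orderOf_eq_prime ?_ ?_⟩
  · rw [← QuotientGroup.mk_pow, pow_three_of_not_commute hs ha hb (hL.far a ha b hb hab),
      QuotientGroup.mk_one]
  · rw [Ne, QuotientGroup.eq_one_iff]
    intro h
    exact hab (by rwa [inv_eq hs ha])

theorem Split.three_dvd_out (hS : Semi D) (hL : Split D L) : 3 ∣ Nat.card (Cfsg.Out L) := by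
  haveI := hL.normal
  obtain ⟨a, -, b, -, h⟩ := hL.exists_order_three hS
  obtain ⟨f, hf⟩ := hL.exists_hom
  rw [← h, ← orderOf_injective f hf]
  exact orderOf_dvd_natCard _

/-- A braided generating class in a group with one factor three gives the symmetric group. -/
theorem nonempty_perm_three {Q : Type*} [Group Q] [Finite Q] {E : Set Q}
    (hE : WidthOne.Braided E) (hgen : Subgroup.closure E = ⊤) {a b : Q} (ha : a ∈ E) (hb : b ∈ E)
    (hab : a ≠ b) (h9 : ¬ 9 ∣ Nat.card Q) : Nonempty (Q ≃* Equiv.Perm (Fin 3)) := by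
  have hinv : ∀ x ∈ E, x⁻¹ = x := fun x hx => inv_eq_of_mul_eq_one_right (hE.sq x hx)
  set P := Subgroup.closure {z | ∃ x ∈ E, ∃ y ∈ E, z = x * y} with hPdef
  have hP : IsPGroup 3 P := WidthOne.isPGroup_products hE
  haveI : Fact (Nat.Prime 3) := ⟨Nat.prime_three⟩
  have haP : a ∉ P := by
    intro h
    obtain ⟨k, hk⟩ := hP ⟨a, h⟩
    have hk' : a ^ 3 ^ k = 1 := congrArg Subtype.val hk
    have hodd : Odd (3 ^ k) := Odd.pow (by decide)
    obtain ⟨j, hj⟩ := hodd
    rw [hj, pow_succ, pow_mul, pow_two, hE.sq a ha, one_pow, one_mul] at hk'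
    refine hab ?_
    have := hE.braid a ha b hb
    rw [hk', one_mul, mul_one, hE.sq b hb] at this
    rw [hk', this]
  have hconj : ∀ p ∈ P, a * p * a ∈ P := by
    intro p hp
    induction hp using Subgroup.closure_induction with
    | mem z hz =>
      obtain ⟨u, hu, w, hw, rfl⟩ := hz
      have e : a * (u * w) * a = a * u * a * (a * w * a) := by
        simp [mul_assoc, ← mul_assoc a a, hE.sq a ha]
      rw [e]
      exact Subgroup.subset_closure ⟨_, hE.closed a ha u hu, _, hE.closed a ha w hw, rfl⟩
    | one => rw [mul_one, hE.sq a ha]; exact one_mem _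
    | mul p q _ _ hp hq =>
      have e : a * (p * q) * a = a * p * a * (a * q * a) := by
        simp [mul_assoc, ← mul_assoc a a, hE.sq a ha]
      rw [e]; exact mul_mem hp hq
    | inv p _ hp => simpa [mul_assoc, hinv a ha] using inv_mem hp
  have hswap : ∀ y, y * a ∈ P ↔ a * y ∈ P := by
    intro y
    constructor
    · intro h
      simpa [mul_assoc, hE.sq a ha] using hconj _ h
    · intro h
      simpa [← mul_assoc, hE.sq a ha] using hconj _ h
  have hall : ∀ x : Q, x ∈ P ∨ a * x ∈ P := by
    intro x
    have hx : x ∈ Subgroup.closure E := hgen ▸ Subgroup.mem_top x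
    induction hx using Subgroup.closure_induction with
    | mem x hx => exact Or.inr (Subgroup.subset_closure ⟨a, ha, x, hx, rfl⟩)
    | one => exact Or.inl (one_mem _)
    | mul x y _ _ hx hy =>
      rcases hx with hx | hx <;> rcases hy with hy | hy
      · exact Or.inl (mul_mem hx hy)
      · refine Or.inr ?_
        have := mul_mem (hconj x hx) hy
        simpa [mul_assoc, ← mul_assoc a a, hE.sq a ha] using this
      · exact Or.inr (by simpa [mul_assoc] using mul_mem hx hy)
      · refine Or.inl ?_
        have := mul_mem ((hswap x).2 hx) hy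
        simpa [mul_assoc, ← mul_assoc a a, hE.sq a ha] using this
    | inv x _ hx =>
      rcases hx with hx | hx
      · exact Or.inl (inv_mem hx)
      · refine Or.inr ?_
        have := inv_mem ((hswap x).2 hx)
        rwa [mul_inv_rev, hinv a ha] at this
  have hidx : P.index = 2 := Subgroup.index_eq_two_iff.2 ⟨a, fun y => by
    rcases hall y with hy | hy
    · refine Or.inr ⟨hy, fun h => haP ?_⟩
      simpa using mul_mem (inv_mem hy) h
    · refine Or.inl ⟨(hswap y).2 hy, fun h => haP ?_⟩
      simpa using mul_mem hy (inv_mem h)⟩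
  have hcard : Nat.card Q = Nat.card P * 2 := by rw [← hidx, P.card_mul_index]
  obtain ⟨k, hk⟩ := IsPGroup.iff_card.1 hP
  have hab1 : a * b ≠ 1 := fun h => hab (by
    rw [mul_eq_one_iff_eq_inv, hinv b hb] at h; exact h)
  have hk1 : k ≠ 0 := by
    rintro rfl
    rw [pow_zero, Subgroup.card_eq_one] at hk
    have : a * b ∈ P := Subgroup.subset_closure ⟨a, ha, b, hb, rfl⟩
    rw [hk, Subgroup.mem_bot] at this
    exact hab1 this
  have hk2 : k = 1 := by
    by_contra h
    refine h9 ?_
    rw [hcard, hk]
    exact (show (3 : ℕ) ^ 2 ∣ 3 ^ k from pow_dvd_pow 3 (by omega)).trans (dvd_mul_right _ _)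
  have h6 : Nat.card Q = 6 := by rw [hcard, hk, hk2]; norm_num
  -- the action on the cosets of an involution
  set H := Subgroup.zpowers a
  have horder : orderOf a = 2 := orderOf_eq_prime (by rw [pow_two, hE.sq a ha]) fun h => haP (h ▸ one_mem _)
  have hH : Nat.card H = 2 := by rw [Nat.card_zpowers, horder]
  have h3 : Nat.card (Q ⧸ H) = 3 := by
    have := Subgroup.card_eq_card_quotient_mul_card_subgroup H
    rw [h6, hH] at this
    omega
  have hinjf : Function.Injective (MulAction.toPermHom Q (Q ⧸ H)) := by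
    rw [← MonoidHom.ker_eq_bot_iff, ← Subgroup.normalCore_eq_ker, eq_bot_iff]
    intro x hx
    have hxH := H.normalCore_le hx
    by_contra hx1
    have hcore : H.normalCore = H := by
      refine le_antisymm H.normalCore_le ?_
      have hle : Subgroup.zpowers x = H := by
        refine Subgroup.eq_of_le_of_card_ge (by rwa [Subgroup.zpowers_le]) ?_
        rw [hH, Nat.card_zpowers]
        have hne : orderOf x ≠ 1 := fun h => hx1 (Subgroup.mem_bot.2 (orderOf_eq_one_iff.1 h))
        have hpos := orderOf_pos x
        omega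
      exact hle.symm.le.trans (Subgroup.zpowers_le.2 hx)
    have hn : H.Normal := hcore ▸ H.normalCore_normal
    have hcen : ∀ y, y * a * y⁻¹ = a := by
      intro y
      have hy := hn.conj_mem a (Subgroup.mem_zpowers a) y
      obtain ⟨i, hi⟩ := Subgroup.mem_zpowers_iff.1 hy
      rw [← zpow_mod_orderOf, horder] at hi
      rcases Int.emod_two_eq_zero_or_one i with h | h <;>
        simp only [Nat.cast_ofNat, h, zpow_zero, zpow_one] at hi
      · exfalso
        exact haP (by rw [eq_comm, conj_eq_one_iff] at hi; exact hi ▸ one_mem _)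
      · exact hi.symm
    refine hab ?_
    have := hE.braid a ha b hb
    rw [show b * a * b = b * a * b⁻¹ by rw [hinv b hb], hcen b,
      show a * b * a = a * (b * a) by group, ← (mul_inv_eq_iff_eq_mul.1 (hcen b)).symm] at this
    rw [← mul_assoc, hE.sq a ha, one_mul] at this
    exact this.symm
  let e : Q ⧸ H ≃ Fin 3 := (Finite.equivFin (Q ⧸ H)).trans (finCongr h3)
  refine ⟨MulEquiv.ofBijective ((e.permCongrHom.toMonoidHom).comp (MulAction.toPermHom Q (Q ⧸ H)))
    ((Nat.bijective_iff_injective_and_card _).2 ⟨?_, ?_⟩)⟩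
  · rw [MonoidHom.coe_comp]
    exact e.permCongrHom.injective.comp hinjf
  · rw [h6, Nat.card_eq_fintype_card, Fintype.card_perm, Fintype.card_fin]
    rfl

/-- A quotient whose order has one factor three is symmetric of degree three. -/
theorem Split.quot_equiv (hS : Semi D) (hL : Split D L) [L.Normal]
    (h9 : ¬ 9 ∣ Nat.card (Cfsg.Out L)) : Nonempty (G ⧸ L ≃* Equiv.Perm (Fin 3)) := by
  obtain ⟨f, hf⟩ := hL.exists_hom
  have hs := hS.hE.closed.set
  set π := QuotientGroup.mk' L
  have hnc : ∀ x ∈ D, ∀ y ∈ D, π x ≠ π y → ¬ Commute x y := fun x hx y hy h =>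
    hL.far x hx y hy fun k => h (by rwa [QuotientGroup.mk'_apply, QuotientGroup.mk'_apply, QuotientGroup.eq])
  have hE : WidthOne.Braided (π '' D) := by
    refine ⟨?_, ?_, ?_⟩
    · rintro _ ⟨x, hx, rfl⟩
      rw [← map_mul, mul_self hs hx, map_one]
    · rintro _ ⟨x, hx, rfl⟩ _ ⟨y, hy, rfl⟩
      by_cases h : π x = π y
      · rw [h]
      · rw [← map_mul, ← map_mul, braid hs hx hy (hnc x hx y hy h), map_mul, map_mul]
    · rintro _ ⟨x, hx, rfl⟩ _ ⟨y, hy, rfl⟩
      refine ⟨x * y * x, ?_, by rw [map_mul, map_mul]⟩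
      have := hS.hE.closed.conj x y hy
      rwa [inv_eq hs hx] at this
  have hgen : Subgroup.closure (π '' D) = ⊤ := by
    rw [← MonoidHom.map_closure, hS.hE.gen]
    exact Subgroup.map_top_of_surjective _ (QuotientGroup.mk'_surjective L)
  obtain ⟨a, ha, -⟩ := hS.pair
  obtain ⟨b, hb, hab⟩ := hL.other a ha
  refine nonempty_perm_three hE hgen ⟨a, ha, rfl⟩ ⟨b, hb, rfl⟩ ?_ ?_
  · rwa [Ne, QuotientGroup.mk'_apply, QuotientGroup.mk'_apply, QuotientGroup.eq]
  · exact fun h => h9 (h.trans (Subgroup.card_dvd_of_injective f hf))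

/-- The case of an outer group of order six or twenty-four. -/
theorem Split.quot_equiv_of_card (hS : Semi D) (hL : Split D L) [L.Normal]
    (h : Nat.card (Cfsg.Out L) = 6 ∨ Nat.card (Cfsg.Out L) = 24) :
    Nonempty (G ⧸ L ≃* Equiv.Perm (Fin 3)) :=
  hL.quot_equiv hS (by rcases h with h | h <;> rw [h] <;> decide)

/-! ### Kinds of coset classes -/

theorem Split.sq_dvd_cover (hL : Split D L) {a : G} (ha : a ∈ D) :
    (coverClass D L a).ncard ^ 2 ∣ Nat.card (coverGroup L a) :=
  ncard_coverClass (D := D) (L := L) (a := a) ▸ hL.sq_dvd a ha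

theorem Split.not_sym (hS : Semi D) (hL : Split D L) {a : G} (ha : a ∈ D) {n : ℕ} (hn : 5 ≤ n) :
    ¬ KindSym (coverClass D L a) n := by
  rintro ⟨e, he⟩
  have hX : Nat.card (coverGroup L a) = n.factorial := by
    rw [Nat.card_congr e.toEquiv, Nat.card_eq_fintype_card, Fintype.card_perm, Fintype.card_fin]
  by_cases h6 : n = 6
  · subst h6
    have hO : (coverClass D L a).ncard = 15 := by
      rw [← Set.ncard_image_of_injective _ e.injective, he, show {σ : Equiv.Perm (Fin 6) | σ.IsSwap} =
          ↑((Finset.univ : Finset (Equiv.Perm (Fin 6))).filter fun σ => σ.support.card = 2) by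
        ext σ; simp [Equiv.Perm.card_support_eq_two], Set.ncard_coe_finset]
      decide +kernel
    have := hL.sq_dvd_cover ha
    rw [hO, hX] at this
    norm_num [Nat.factorial] at this
  have hidx : ((L.subgroupOf (coverGroup L a)).map e.toMonoidHom).index = 2 := by
    exact ((L.subgroupOf (coverGroup L a)).index_map_equiv e).trans
      (hL.cover_index hS.hE.closed.set ha)
  let eL : L ≃* alternatingGroup (Fin n) :=
    (Subgroup.subgroupOfEquivOfLe (Split.le_cover L a)).symm.trans
      ((e.subgroupMap (L.subgroupOf (coverGroup L a))).trans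
        (MulEquiv.subgroupCongr (Equiv.Perm.eq_alternatingGroup_of_index_eq_two hidx)))
  haveI : Nontrivial (Fin n) := Fin.nontrivial_iff_two_le.2 (by omega)
  have hA : 2 * Nat.card (alternatingGroup (Fin n)) = n.factorial := by
    rw [Nat.card_eq_fintype_card, two_mul_card_alternatingGroup, Fintype.card_perm, Fintype.card_fin]
  have hAut : Nat.card (MulAut L) = n.factorial := by
    rw [Nat.card_congr (MulAut.congr eL).toEquiv,
      ← Nat.card_congr (Equiv.ofBijective _ (CfsgLib.Schur.conjNormal_bijective (by omega) h6)),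
      Nat.card_eq_fintype_card, Fintype.card_perm, Fintype.card_fin]
  have hout := card_mulAut_eq hL.center_layer
  rw [hAut, Nat.card_congr eL.toEquiv, ← hA] at hout
  have h2 : Nat.card (Cfsg.Out L) = 2 := (Nat.eq_of_mul_eq_mul_right Nat.card_pos hout).symm
  have h3 := hL.three_dvd_out hS
  rw [h2] at h3
  norm_num at h3

theorem Split.not_sp (hL : Split D L) {a : G} (ha : a ∈ D) {m : ℕ} (hm : 3 ≤ m) :
    ¬ KindSp (coverClass D L a) m := by
  rintro ⟨e, -⟩
  refine hL.cover_not_perfect ha ?_
  have hperf : commutator (Matrix.symplecticGroup (Fin m) (ZMod 2)) = ⊤ :=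
    CfsgLib.Sp.commutator_eq_top_of_card (ZMod.card 2) (Or.inr (Or.inr ⟨rfl, hm⟩))
  apply Subgroup.map_injective (f := e.toMonoidHom) e.injective
  rw [commutator_def, Subgroup.map_commutator, Subgroup.map_top_of_surjective _ e.surjective]
  exact hperf

theorem Split.not_psu (hL : Split D L) {a : G} (ha : a ∈ D) {n : ℕ} (hn : 4 ≤ n) :
    ¬ KindPSU (coverClass D L a) n := by
  rintro ⟨F, _, _, hF, e, -⟩
  refine hL.cover_not_simple ha ?_
  haveI : IsSimpleGroup (Cfsg.PSU n F 2) :=
    CfsgLib.ClassicalGroups.psu_isSimpleGroup (q := 2) hF (by omega) (by omega)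
  haveI := hL.cover_nontrivial (a := a)
  exact IsSimpleGroup.isSimpleGroup_of_surjective e.symm.toMonoidHom e.symm.surjective

theorem Split.not_types (hL : Split D L) {a : G} (ha : a ∈ D) :
    ¬ (Cfsg.IsOfTypeM22 (coverGroup L a) (coverClass D L a) ∨
      Cfsg.IsOfTypeM23 (coverGroup L a) (coverClass D L a) ∨
      Cfsg.IsOfTypeM24 (coverGroup L a) (coverClass D L a)) := by
  have hG := hL.good_cover ha
  rintro (h | h | h)
  · exact hL.cover_not_simple ha (TypeTop.main22 hG.group hG.set.prim h).1
  · exact hL.cover_not_simple ha (TypeTop.main23 hG.group hG.set.prim h).1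
  · have := hL.sq_dvd_cover ha
    rw [(Tower.local24 hG.group hG.set.prim h).card, TypeTop.order24 hG.group hG.set.prim h] at this
    norm_num at this

/-- The only possible kinds of a coset class are orthogonal. -/
theorem Split.kinds (hS : Semi D) (hL : Split D L) {a : G} (ha : a ∈ D)
    (hK : Known (coverClass D L a)) :
    ((∃ m, 4 ≤ m ∧ KindOPlus (coverClass D L a) m) ∨ ∃ m, 2 ≤ m ∧ KindOMinus (coverClass D L a) m) ∨
      ∃ n, 6 ≤ n ∧ ∃ Q : QuadraticForm (ZMod 3) (Fin n → ZMod 3),
        (QuadraticMap.polarBilin Q).Nondegenerate ∧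
          ∃ c : ZMod 3, c ≠ 0 ∧ KindRefl (coverClass D L a) Q c := by
  rcases hK with ⟨n, hn, h⟩ | ⟨m, hm, h⟩ | ⟨n, hn, h⟩ | h | h | h
  · exact absurd h (hL.not_sym hS ha hn)
  · exact absurd h (hL.not_sp ha hm)
  · exact absurd h (hL.not_psu ha hn)
  · exact Or.inl h
  · exact Or.inr h
  · exact absurd h (hL.not_types ha)

end CfsgLib.ThreeTrans.Classif
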