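import Mathlib
import Cfsg.Agent.S0303
import Cfsg.Agent.S0816
import Cfsg.Agent.S0817
import Cfsg.Agent.S0818
import Cfsg.Agent.Lib.ThreeTrans.Classif.DisconnectedOut
import Cfsg.Agent.Lib.ThreeTrans.ReflSeven
import Cfsg.Agent.Lib.ThreeTrans.MinusSix
import Cfsg.Agent.Lib.AutPOmega.FormTransport

/-!
The layer of a disconnected class when the coset classes are of orthogonal kind: its outer
automorphism group.
-/

set_option autoImplicit false

namespace CfsgLib.ThreeTrans.Classif

open CfsgLib.ThreeTrans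
open QuadraticMap CfsgLib.Orth CfsgLib.OmegaSylow76

universe u v w

namespace DisOrth

/-- The number of outer automorphisms, from the number of automorphisms of an isomorphic group. -/
theorem card_out_of {A : Type u} {B : Type w} [Group A] [Finite A] [Group B]
    (h : Subgroup.center A = ⊥) (e : A ≃* B) {k : ℕ}
    (hk : Nat.card (MulAut B) = k * Nat.card B) : Nat.card (Cfsg.Out A) = k := by
  refine Nat.eq_of_mul_eq_mul_right (Nat.card_pos : 0 < Nat.card A) ?_
  rw [← card_mulAut_eq h, Nat.card_congr (MulAut.congr e).toEquiv, hk, Nat.card_congr e.toEquiv]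

/-- A centreless group isomorphic to the derived group of `H` is `H'` modulo its centre. -/
theorem exists_modCenter {A : Type u} [Group A] {H : Type w} [Group H] (h : Subgroup.center A = ⊥)
    (e : A ≃* commutator H) :
    Nonempty (A ≃* commutator H ⧸ Subgroup.center (commutator H)) := by
  have hz : Subgroup.center (commutator H) = ⊥ := by
    rw [← CfsgLib.FieldPOmega.map_center_top e, h, Subgroup.map_bot]
  exact ⟨e.trans (QuotientGroup.quotientBot.symm.trans (QuotientGroup.quotientMulEquivOfEq hz.symm))⟩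

end DisOrth

open DisOrth

variable {G : Type u} [Group G] {D : Set G} {L : Subgroup G}

variable [Finite G] {a : G}

/-- Orthogonal kind of plus type over two elements: degree eight with six outer automorphisms, or
two outer automorphisms. -/
theorem Split.out_oPlus (hL : Split D L) (_ha : a ∈ D) {m : ℕ} (hm : 4 ≤ m)
    (h : KindOPlus (coverClass D L a) m) :
    (m = 4 ∧ Nat.card (Cfsg.Out L) = 6 ∧
        Nonempty (L ≃* Cfsg.Omega (ZMod 2) (Cfsg.quadFormPlus 4 (ZMod 2)))) ∨
      Nat.card (Cfsg.Out L) = 2 := by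
  have : Fact (Nat.Prime 2) := ⟨Nat.prime_two⟩
  obtain ⟨e, -⟩ := h
  have eL := hL.layerEquiv e
  obtain ⟨eP⟩ := exists_modCenter hL.center_layer eL
  have hA := Cfsg.Agent.S0817.result (F := ZMod 2) 2 1 le_rfl (by simp [ZMod.card]) m hm
  have hO := card_out_of hL.center_layer eP hA
  by_cases h4 : m = 4
  · subst h4
    exact Or.inl ⟨rfl, by simpa using hO, ⟨eL⟩⟩
  · exact Or.inr (by simpa [h4] using hO)

/-- Orthogonal kind of minus type over two elements: two outer automorphisms. -/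
theorem Split.out_oMinus (hL : Split D L) (_ha : a ∈ D) {m : ℕ} (hm : 2 ≤ m)
    (h : KindOMinus (coverClass D L a) m) :
    Nat.card (Cfsg.Out L) = 2 := by
  classical
  have : Fact (Nat.Prime 2) := ⟨Nat.prime_two⟩
  obtain ⟨e, -⟩ := h
  obtain ⟨eP⟩ := exists_modCenter hL.center_layer (hL.layerEquiv e)
  rcases (show m = 2 ∨ 3 ≤ m by omega) with rfl | h3
  · let K := GaloisField 2 2
    let _ : Fintype K := Fintype.ofFinite K
    have hK : Fintype.card K = 2 ^ 2 := by
      rw [← Nat.card_eq_fintype_card]; exact GaloisField.card 2 2 (by norm_num)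
    obtain ⟨e4⟩ := Cfsg.Agent.S0303.result (K := K) (q := 2) (ZMod.card 2) hK (1 : ZMod 2) 1
      MinusSix.aniso
    refine card_out_of hL.center_layer (eP.trans e4) ?_
    rw [MinusSix.card_mulAut_psu_four hK, USix.card_psu_four hK]
  · have hA := Cfsg.Agent.S0818.result (F := ZMod 2) 2 1 le_rfl (by simp [ZMod.card]) (m + 1) (by omega)
      1 1 MinusSix.aniso
    rw [Nat.add_sub_cancel] at hA
    simpa using card_out_of hL.center_layer eP hA

namespace DisOrth

variable {n : ℕ} {Q : QuadraticForm (ZMod 3) (Fin n → ZMod 3)} {c : ZMod 3}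

/-- A centreless image with central kernel is the group modulo its centre. -/
theorem modCenter_of_range {A B C : Type*} [Group A] [Group B] [Group C] (F : B →* C)
    (g : A ≃* F.range) (hA : Subgroup.center A = ⊥) (hk : F.ker ≤ Subgroup.center B) :
    Nonempty (A ≃* B ⧸ Subgroup.center B) := by
  have hzr : Subgroup.center F.range = ⊥ := by
    rw [← CfsgLib.FieldPOmega.map_center_top g, hA, Subgroup.map_bot]
  have hker : F.ker = Subgroup.center B := by
    refine le_antisymm hk fun y hy => ?_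
    have : F.rangeRestrict y ∈ Subgroup.center F.range := Subgroup.mem_center_iff.2 fun z => by
      obtain ⟨z, rfl⟩ := F.rangeRestrict_surjective z
      rw [← map_mul, ← map_mul, Subgroup.mem_center_iff.1 hy z]
    rw [hzr, Subgroup.mem_bot] at this
    exact congrArg Subtype.val this
  exact ⟨g.trans ((QuotientGroup.quotientKerEquivRange F).symm.trans (QuotientGroup.quotientMulEquivOfEq hker))⟩

/-- A centreless group isomorphic to the derived group of a projective reflection group is `PΩ`. -/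
theorem refl_modCenter {A : Type u} [Group A] (hA : Subgroup.center A = ⊥)
    (f : A ≃* commutator (↥(Cfsg.reflectionSubgroup (⇑Q) c) ⧸ Subgroup.center ↥(Cfsg.reflectionSubgroup (⇑Q) c)))
    (hQ : (QuadraticMap.polarBilin Q).Nondegenerate) (hn : 6 ≤ n) (hc : c ≠ 0) :
    Nonempty (A ≃* Cfsg.POmega (ZMod 3) ⇑Q) := by
  set R := Cfsg.reflectionSubgroup (⇑Q) c with hR
  have hi : R.index = 2 := ReflClass.index_eq_two hQ (by omega) hc
  have : R.Normal := Subgroup.normal_of_index_eq_two hi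
  have hcyc : IsMulCommutative (O Q ⧸ R) := by
    have : IsCyclic (O Q ⧸ R) := isCyclic_of_prime_card (p := 2) (by rw [← hi]; rfl)
    exact IsCyclic.isMulCommutative
  have hle : commutator (O Q) ≤ R := Subgroup.Normal.quotient_commutative_iff_commutator_le.1 inferInstance
  set π := QuotientGroup.mk' (Subgroup.center R) with hπ
  let F : commutator (O Q) →* R ⧸ Subgroup.center R := π.comp (Subgroup.inclusion hle)
  have hperf : commutator (commutator (O Q)) = ⊤ := CfsgLib.POmega.omega_perfect hQ (by simpa using hn)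
  -- its range is the derived group
  have hrange : F.range = commutator (R ⧸ Subgroup.center R) := by
    refine le_antisymm ?_ ?_
    · rw [MonoidHom.range_eq_map, ← hperf]
      show Subgroup.map F ⁅(⊤ : Subgroup (commutator (O Q))), ⊤⁆ ≤ _
      rw [Subgroup.map_commutator]
      exact Subgroup.commutator_mono le_top le_top
    · rw [_root_.commutator_def (R ⧸ Subgroup.center R),
        ← Subgroup.map_top_of_surjective π (QuotientGroup.mk'_surjective _), ← Subgroup.map_commutator]
      rintro _ ⟨y, hy, rfl⟩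
      have hyO : (y : O Q) ∈ commutator (O Q) := by
        have := Subgroup.mem_map_of_mem R.subtype hy
        rw [Subgroup.map_commutator] at this
        exact Subgroup.commutator_mono le_top le_top this
      exact ⟨⟨y, hyO⟩, rfl⟩
  refine modCenter_of_range F (f.trans (MulEquiv.subgroupCongr hrange.symm)) hA fun y hy =>
    Subgroup.mem_center_iff.2 fun z => ?_
  have hy' : Subgroup.inclusion hle y ∈ Subgroup.center R := (QuotientGroup.eq_one_iff _).1 hy
  exact Subgroup.inclusion_injective hle (by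
    rw [map_mul, map_mul]; exact Subgroup.mem_center_iff.1 hy' _)

theorem quotient_equiv_of {ι κ : Type} [Fintype ι] [DecidableEq ι] [Fintype κ] [DecidableEq κ]
    {F : Type*} [Field F] {Q₁ : QuadraticForm F (ι → F)} {Q₂ : QuadraticForm F (κ → F)}
    (f : O Q₁ ≃* O Q₂) : Nonempty (Cfsg.POmega F ⇑Q₁ ≃* Cfsg.POmega F ⇑Q₂) :=
  ⟨QuotientGroup.congr _ _ (CfsgLib.FieldPOmega.commEquiv f) (CfsgLib.FieldPOmega.map_center_top _)⟩

theorem aniso_three : ∀ z₁ z₂ : ZMod 3, z₁ ^ 2 + 0 * z₁ * z₂ + 1 * z₂ ^ 2 = 0 → z₁ = 0 ∧ z₂ = 0 := by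
  decide

theorem isometryGroup_neg' {ι : Type} [Fintype ι] [DecidableEq ι]
    (Q : QuadraticForm (ZMod 3) (ι → (ZMod 3))) :
    Nonempty (O (-Q) ≃* O Q) :=
  ⟨MulEquiv.subgroupCongr (ReflSeven.isometryGroup_neg Q)⟩

theorem nondeg_neg {ι : Type} [Fintype ι] [DecidableEq ι] {Q : QuadraticForm (ZMod 3) (ι → ZMod 3)}
    (hQ : Q.polarBilin.Nondegenerate) : (-Q).polarBilin.Nondegenerate := by
  have key : ∀ x, (∀ y, polar (⇑(-Q)) x y = 0) → x = 0 := fun x hx => hQ.1 x fun y => by
    have := hx y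
    simp [QuadraticMap.polar] at this ⊢
    linear_combination -this
  exact ⟨key, fun y hy => key y fun x => by rw [polar_comm]; exact hy x⟩

/-- In odd dimension one group. -/
theorem odd_model {m : ℕ} (hQ : Q.polarBilin.Nondegenerate) (hn : n = 2 * m + 1) :
    Nonempty (Cfsg.POmega (ZMod 3) ⇑Q ≃* Cfsg.POmega (ZMod 3) (Cfsg.quadFormOdd m (ZMod 3))) := by
  classical
  subst hn
  have h2 : (2 : ZMod 3) ≠ 0 := ReflClass.two_ne
  have h0 := CfsgLib.POmega.oddQ_nondegenerate h2 m
  rw [← CfsgLib.POmega.oddQ_coe]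
  let e : (Unit ⊕ (Fin m ⊕ Fin m)) ≃ Fin (2 * m + 1) := Fintype.equivFinOfCardEq (by simp; omega)
  have hd : ∀ a b : ZMod 3, a ≠ 0 → b ≠ 0 → IsSquare (a * b) ∨ IsSquare (a * -b) := by decide
  have hneg : disc (-Q) (Equiv.refl (Fin (2 * m + 1))) = -disc Q (Equiv.refl (Fin (2 * m + 1))) := by
    simp only [disc]
    rw [show (⇑(reindex (-Q) (Equiv.refl (Fin (2 * m + 1)))) : (Fin (2 * m + 1) → ZMod 3) → ZMod 3) =
      fun v => (-1 : ZMod 3) * reindex Q (Equiv.refl (Fin (2 * m + 1))) v from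
        funext fun v => by simp [reindex],
      CfsgLib.QuadFin.gram_det_smul, Fintype.card_fin, pow_succ, pow_mul, neg_one_sq, one_pow, one_mul,
      neg_one_mul]
  rcases hd _ _ (disc_ne_zero h2 h0 e) (disc_ne_zero h2 hQ (Equiv.refl _)) with h | h
  · obtain ⟨g, hg⟩ := exists_iso_of_disc h2 hQ h0 (Equiv.refl _) e h
    exact quotient_equiv_of (isoO g hg).symm
  · obtain ⟨g, hg⟩ := exists_iso_of_disc h2 (nondeg_neg hQ) h0 (Equiv.refl _) e (by rw [hneg]; exact h)
    obtain ⟨f⟩ := isometryGroup_neg' Q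
    exact quotient_equiv_of (f.symm.trans (isoO g hg).symm)

/-- In even dimension two groups, the plus one belonging to the discriminant `(-1) ^ (n / 2)`. -/
theorem even_model {k : ℕ} (hQ : Q.polarBilin.Nondegenerate) (hn : n = 2 * (k + 1)) :
    (Nonempty (O Q ≃* O (plusQ (k + 1) (ZMod 3))) ∧
        IsSquare ((-1) ^ (k + 1) * Cfsg.polarGramDet ⇑Q)) ∨
      Nonempty (O Q ≃* O (minusQ k (ZMod 3) 0 1)) := by
  classical
  subst hn
  have h2 : (2 : ZMod 3) ≠ 0 := ReflClass.two_ne
  have hp := plusQ_nondegenerate (F := ZMod 3) (k + 1)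
  have hm := minusQ_nondegenerate h2 aniso_three (m := k)
  let e : Fin (k + 1) ⊕ Fin (k + 1) ≃ Fin (2 * (k + 1)) :=
    finSumFinEquiv.trans (finCongr (two_mul (k + 1)).symm)
  let e' : (Fin k ⊕ Fin k) ⊕ Fin 2 ≃ Fin (2 * (k + 1)) :=
    Fintype.equivFinOfCardEq (by simp; omega)
  have hne : ¬ IsSquare (disc (minusQ k (ZMod 3) 0 1) e' * disc (plusQ (k + 1) (ZMod 3)) e) := by
    intro hs
    have h := card_eq_of_disc h2 hp hm e e' hs
    have h1 := CfsgLib.ClassicalGroups.card_isometry_plus (F := ZMod 3) k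
    have h1' := CfsgLib.ClassicalGroups.card_isometry_minus (F := ZMod 3) aniso_three k
    rw [← plusQ_coe] at h1
    rw [← minusQ_coe] at h1'
    rw [show Nat.card (O (minusQ k (ZMod 3) 0 1)) = _ from h1',
      show Nat.card (O (plusQ (k + 1) (ZMod 3))) = _ from h1, ZMod.card] at h
    have hP : 0 < ∏ i ∈ Finset.range k, (3 ^ (2 * (i + 1)) - 1) := Finset.prod_pos fun i _ => by
      have : 1 < 3 ^ (2 * (i + 1)) := Nat.one_lt_pow (by omega) (by norm_num)
      omega
    have h3 := Nat.eq_of_mul_eq_mul_right hP h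
    have h4 := Nat.eq_of_mul_eq_mul_left (by positivity) h3
    omega
  have hd : ∀ x y z : ZMod 3, x ≠ 0 → y ≠ 0 → z ≠ 0 → ¬ IsSquare (z * y) →
      IsSquare (y * x) ∨ IsSquare (z * x) := by decide
  rcases hd _ _ _ (disc_ne_zero h2 hQ (Equiv.refl _)) (disc_ne_zero h2 hp e) (disc_ne_zero h2 hm e') hne
    with h | h
  · obtain ⟨g, hg⟩ := exists_iso_of_disc h2 hQ hp (Equiv.refl _) e h
    refine Or.inl ⟨⟨(isoO g hg).symm⟩, ?_⟩
    have htr : ∀ x y z : ZMod 3, y ≠ 0 → IsSquare (x * y) → IsSquare (y * z) → IsSquare (x * z) := by decide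
    have hdQ : disc Q (Equiv.refl (Fin (2 * (k + 1)))) = Cfsg.polarGramDet ⇑Q := rfl
    exact hdQ ▸ htr _ _ _ (disc_ne_zero h2 hp e) (disc_plus h2 (k + 1) e) h
  · obtain ⟨g, hg⟩ := exists_iso_of_disc h2 hQ hm (Equiv.refl _) e' h
    exact Or.inr ⟨(isoO g hg).symm⟩

theorem eq_one_of_sq : ∀ x : ZMod 3, x ≠ 0 → IsSquare ((-1) ^ (3 + 1) * x) → x = 1 := by decide

theorem six_counts : ∀ d c : ZMod 3, d ≠ 0 → c ≠ 0 →
    7 ∣ ((Finset.univ : Finset (Fin 6 → ZMod 3)).filter fun v => ∑ i, (if i = 5 then d else 1) * v i ^ 2 = c).card ∨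
    13 ∣ ((Finset.univ : Finset (Fin 6 → ZMod 3)).filter fun v => ∑ i, (if i = 5 then d else 1) * v i ^ 2 = c).card := by
  decide +kernel

/-- The number of vectors of a given norm in dimension six. -/
theorem six_vectors {Q : QuadraticForm (ZMod 3) (Fin 6 → ZMod 3)} (hQ : Q.polarBilin.Nondegenerate)
    {c : ZMod 3} (hc : c ≠ 0) :
    7 ∣ {v | Q v = c}.ncard ∨ 13 ∣ {v | Q v = c}.ncard := by
  classical
  have h2 : (2 : ZMod 3) ≠ 0 := ReflClass.two_ne
  have hd : ∀ x : ZMod 3, x ≠ 0 → ∃ d : ZMod 3, d ≠ 0 ∧ IsSquare (2 ^ 6 * d * x) := by decide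
  obtain ⟨d, hd0, hsq⟩ := hd _ (CfsgLib.QuadFin.gram_det_ne_zero _ hQ)
  set wt : Fin 6 → ZMod 3 := fun i => if i = 5 then d else 1 with hwt
  let Qd : QuadraticForm (ZMod 3) (Fin 6 → ZMod 3) := QuadraticMap.weightedSumSquares (ZMod 3) wt
  have hQd : ⇑Qd = fun v : Fin 6 → ZMod 3 => ∑ i, wt i * v i ^ 2 := funext fun v => by
    simp [Qd, QuadraticMap.weightedSumSquares_apply, pow_two]
  have hdet : (CfsgLib.QuadFin.gram ⇑Qd).det = 2 ^ 6 * d := by
    rw [hQd, CfsgLib.QuadFin.gram_diag, Matrix.det_diagonal]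
    simp [hwt, Fin.prod_univ_six]
    ring
  have hQdn : Qd.polarBilin.Nondegenerate := by
    refine (LinearMap.BilinForm.nondegenerate_iff_det_ne_zero (Pi.basisFun (ZMod 3) (Fin 6))).2 ?_
    rw [← CfsgLib.QuadFin.gram_eq_toMatrix, hdet]
    exact mul_ne_zero (pow_ne_zero _ h2) hd0
  obtain ⟨g, hg⟩ := (CfsgLib.QuadFin.equiv_iff_isSquare h2 Qd Q hQdn hQ).2 (by rw [hdet]; exact hsq)
  have himg : {v | Q v = c} = g '' {v | Qd v = c} := by
    ext v
    constructor
    · intro hv
      exact ⟨g.symm v, by rwa [Set.mem_ofPred_eq, ← hg, g.apply_symm_apply], g.apply_symm_apply v⟩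
    · rintro ⟨x, hx, rfl⟩
      rwa [Set.mem_ofPred_eq, hg]
  have hcard : {v | Q v = c}.ncard =
      ((Finset.univ : Finset (Fin 6 → ZMod 3)).filter fun v => ∑ i, (if i = 5 then d else 1) * v i ^ 2 = c).card := by
    rw [himg, Set.ncard_image_of_injective _ g.injective, ← Set.ncard_coe_finset]
    congr 1
    ext v
    simp [hQd, hwt]
  rw [hcard]
  exact six_counts d c hd0 hc

/-- Each reflection comes from two vectors. -/
theorem two_mul_cls (hc : c ≠ 0) : 2 * (ReflClass.cls Q c).ncard = {v | Q v = c}.ncard := by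
  classical
  let g : (Fin n → ZMod 3) → O Q := fun v => refl Q v
  have himg : Subtype.val '' ReflClass.cls Q c = g '' {v | Q v = c} := by
    ext x
    constructor
    · rintro ⟨r, hr, rfl⟩
      obtain ⟨v, hv, e⟩ := ReflClass.eq_refl_of_mem hr
      exact ⟨v, hv, e.symm⟩
    · rintro ⟨v, hv, rfl⟩
      exact ⟨_, ReflClass.rc_mem hv, rfl⟩
  rw [← Set.ncard_image_of_injective _ Subtype.val_injective, himg,
    Set.ncard_eq_toFinset_card', Set.ncard_eq_toFinset_card', Set.toFinset_image, mul_comm,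
    Finset.card_eq_sum_card_image g {v | Q v = c}.toFinset, Finset.sum_const_nat]
  intro b hb
  obtain ⟨v, hv, rfl⟩ := Finset.mem_image.1 hb
  rw [Set.mem_toFinset] at hv
  have hv' : Q v = c := hv
  have hne : v ≠ -v := fun h => hc (by
    have : v = 0 := funext fun i => (show ∀ x : ZMod 3, x = -x → x = 0 by decide) _ (congrFun h i)
    rw [← hv', this, QuadraticMap.map_zero])
  refine Eq.trans ?_ (Finset.card_pair hne)
  congr 1
  ext w
  simp only [Finset.mem_filter, Set.mem_toFinset, Set.mem_ofPred_eq, Finset.mem_insert, Finset.mem_singleton, g]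
  constructor
  · rintro ⟨hw, h⟩
    exact (ReflClass.refl_eq_iff (show Q w ≠ 0 by rwa [hw])).1 h.symm
  · rintro (rfl | rfl)
    · exact ⟨hv', rfl⟩
    · exact ⟨by rw [QuadraticMap.map_neg, hv'], refl_neg (Q := Q) v⟩

/-- Distinct reflections of one norm stay distinct modulo the centre. -/
theorem mk_injOn (hQ : Q.polarBilin.Nondegenerate) (hn : 5 ≤ n) (hc : c ≠ 0) :
    Set.InjOn (QuotientGroup.mk : ↥(Cfsg.reflectionSubgroup (⇑Q) c) →
      ↥(Cfsg.reflectionSubgroup (⇑Q) c) ⧸ Subgroup.center ↥(Cfsg.reflectionSubgroup (⇑Q) c))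
      (ReflClass.cls Q c) := by
  intro p hp q hq hpq
  obtain ⟨u, hu, rfl⟩ := ReflClass.exists_rc hp
  obtain ⟨v, hv, rfl⟩ := ReflClass.exists_rc hq
  by_contra hne
  have hne' : ¬ (v = u ∨ v = -u) := fun h => hne ((ReflClass.rc_eq_iff hc hu hv).2 h)
  set z := (ReflClass.rc u hu)⁻¹ * ReflClass.rc v hv with hz
  have hzc : z ∈ Subgroup.center ↥(Cfsg.reflectionSubgroup (⇑Q) c) := QuotientGroup.eq.1 hpq
  have hcom : ∀ r, Commute (ReflClass.rc u hu) r → Commute (ReflClass.rc v hv) r := fun r h => by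
    have := h.mul_left (Subgroup.mem_center_iff.1 hzc r).symm
    rwa [hz, mul_inv_cancel_left] at this
  have huv : polar Q u v = 0 := by
    have := (hcom _ (Commute.refl _)).symm
    exact ((ReflClass.rc_commute_iff hc hu hv).1 this).resolve_right hne'
  obtain ⟨y, hy0, huy, hvy, hy⟩ := ReflClass.exists_singular_perp hQ hn hc (u := u) (w := v)
  have hx : Q (v + y) = c := by rw [QuadraticMap.map_add ⇑Q, hv, hy, hvy]; simp
  have h1 : Commute (ReflClass.rc u hu) (ReflClass.rc _ hx) :=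
    (ReflClass.rc_commute_iff hc hu hx).2 (Or.inl (by rw [polar_add_right, huv, huy, add_zero]))
  rcases (ReflClass.rc_commute_iff hc hv hx).1 (hcom _ h1) with h | h | h
  · rw [polar_add_right, polar_self', hvy, hv, add_zero] at h
    exact hc ((mul_eq_zero.1 h).resolve_left ReflClass.two_ne)
  · exact hy0 (by simpa using h)
  · have hyv : y = v := funext fun i =>
      (show ∀ a b : ZMod 3, a + b = -a → b = a by decide) _ _ (congrFun h i)
    rw [hyv, hv] at hy
    exact hc hy

end DisOrth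

section Refl

variable {n : ℕ} {Q : QuadraticForm (ZMod 3) (Fin n → ZMod 3)} {c : ZMod 3}

/-- Six dimensions do not occur: the square of the class does not divide the order. -/
theorem Split.refl_six_false (hL : Split D L) (ha : a ∈ D) (hn : n = 6)
    (hQ : (QuadraticMap.polarBilin Q).Nondegenerate) (hc : c ≠ 0)
    (h : KindRefl (coverClass D L a) Q c) : False := by
  classical
  subst hn
  obtain ⟨e, he⟩ := h
  have hcls : (coverClass D L a).ncard = (ReflClass.cls Q c).ncard := by
    rw [← Set.ncard_image_of_injective _ e.injective, he]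
    exact (mk_injOn hQ (by omega) hc).ncard_image
  have hd := hL.sq_dvd_cover ha
  rw [hcls, Nat.card_congr e.toEquiv] at hd
  have hdO : (ReflClass.cls Q c).ncard ^ 2 ∣ Nat.card (Orth.O Q) :=
    hd.trans ((Subgroup.card_quotient_dvd_card _).trans (Subgroup.card_subgroup_dvd_card _))
  have h2 := two_mul_cls (Q := Q) hc
  have hp : 7 ∣ (ReflClass.cls Q c).ncard ∨ 13 ∣ (ReflClass.cls Q c).ncard := by
    rcases six_vectors hQ hc with h | h <;> rw [← h2] at h
    · exact Or.inl ((Nat.Coprime.dvd_mul_left (by norm_num)).1 h)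
    · exact Or.inr ((Nat.Coprime.dvd_mul_left (by norm_num)).1 h)
  have hcard : Nat.card (Orth.O Q) = 2 * 3 ^ 6 * (3 ^ 3 - 1) * ((3 ^ 2 - 1) * (3 ^ 4 - 1)) ∨
      Nat.card (Orth.O Q) = 2 * 3 ^ 6 * (3 ^ 3 + 1) * ((3 ^ 2 - 1) * (3 ^ 4 - 1)) := by
    rcases even_model (k := 2) hQ rfl with ⟨⟨f⟩, -⟩ | f <;> [skip; obtain ⟨f⟩ := f]
    · left
      have h1 := CfsgLib.ClassicalGroups.card_isometry_plus (F := ZMod 3) 2
      rw [← plusQ_coe] at h1
      rw [Nat.card_congr f.toEquiv, show Nat.card (Orth.O (plusQ (2 + 1) (ZMod 3))) = _ from h1, ZMod.card]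
      rfl
    · right
      have h1 := CfsgLib.ClassicalGroups.card_isometry_minus (F := ZMod 3) aniso_three 2
      rw [← minusQ_coe] at h1
      rw [Nat.card_congr f.toEquiv, show Nat.card (Orth.O (minusQ 2 (ZMod 3) 0 1)) = _ from h1, ZMod.card]
      rfl
  rcases hp with h | h <;> rcases hcard with hc' | hc' <;>
    exact absurd ((hc' ▸ (pow_dvd_pow_of_dvd h 2).trans hdO)) (by norm_num)

/-- Projective reflection kind: eight dimensions of plus type with twenty four outer automorphisms,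
or a number of them prime to three. -/
theorem Split.out_refl (hL : Split D L) (ha : a ∈ D) (hn : 6 ≤ n)
    (hQ : (QuadraticMap.polarBilin Q).Nondegenerate) (hc : c ≠ 0)
    (h : KindRefl (coverClass D L a) Q c) :
    (n = 8 ∧ Cfsg.polarGramDet ⇑Q = 1 ∧ Nat.card (Cfsg.Out L) = 24 ∧
        Nonempty (L ≃* Cfsg.POmega (ZMod 3) (Cfsg.quadFormPlus 4 (ZMod 3)))) ∨
      ¬ 3 ∣ Nat.card (Cfsg.Out L) := by
  have : Fact (Nat.Prime 3) := ⟨Nat.prime_three⟩
  rcases (show n = 6 ∨ 7 ≤ n by omega) with h6 | h7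
  · exact (hL.refl_six_false ha h6 hQ hc h).elim
  obtain ⟨e, -⟩ := h
  obtain ⟨eP⟩ := refl_modCenter hL.center_layer (hL.layerEquiv e) hQ hn hc
  rcases Nat.even_or_odd n with ⟨j, hj⟩ | ⟨m, hm⟩
  · obtain ⟨k, rfl⟩ : ∃ k, j = k + 1 := ⟨j - 1, by omega⟩
    rcases even_model (k := k) hQ (by omega) with ⟨⟨g⟩, hsq⟩ | g <;> [skip; obtain ⟨g⟩ := g]
    · obtain ⟨g'⟩ := quotient_equiv_of g
      have hA := Cfsg.Agent.S0817.result (F := ZMod 3) 3 1 le_rfl (by simp [ZMod.card]) (k + 1) (by omega)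
      rw [← plusQ_coe] at hA
      have hO := card_out_of hL.center_layer (eP.trans g') hA
      by_cases h4 : k = 3
      · subst h4
        refine Or.inl ⟨by omega, ?_, by rw [hO, if_pos rfl, if_neg (by norm_num), if_pos (by decide)], ?_⟩
        · exact eq_one_of_sq _ (CfsgLib.QuadFin.gram_det_ne_zero _ hQ) hsq
        rw [← plusQ_coe]
        exact ⟨eP.trans g'⟩
      · right
        rw [hO, if_neg (show k + 1 ≠ 4 by omega), if_neg (by norm_num)]
        split_ifs <;> norm_num
    · obtain ⟨g'⟩ := quotient_equiv_of g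
      have hA := Cfsg.Agent.S0818.result (F := ZMod 3) 3 1 le_rfl (by simp [ZMod.card]) (k + 1) (by omega)
        0 1 aniso_three
      rw [Nat.add_sub_cancel, ← minusQ_coe] at hA
      right
      rw [card_out_of hL.center_layer (eP.trans g') hA, if_neg (by norm_num)]
      split_ifs <;> norm_num
  · obtain ⟨g⟩ := odd_model (m := m) hQ hm
    right
    rw [card_out_of hL.center_layer (eP.trans g)
      (Cfsg.Agent.S0816.result (F := ZMod 3) 3 1 le_rfl (by simp [ZMod.card]) (by decide) m (by omega))]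
    norm_num

end Refl

/-- A disconnected class whose coset classes are known: the conclusion on the layer. -/
theorem Split.orth_case [L.Normal] (hS : Semi D) (hL : Split D L) (ha : a ∈ D)
    (hK : Known (coverClass D L a)) :
    Nonempty (G ⧸ L ≃* Equiv.Perm (Fin 3)) ∧
      (Nonempty (L ≃* Cfsg.Omega (ZMod 2) (Cfsg.quadFormPlus 4 (ZMod 2))) ∨
        Nonempty (L ≃* Cfsg.POmega (ZMod 3) (Cfsg.quadFormPlus 4 (ZMod 3)))) := by
  have h3 := hL.three_dvd_out hS
  rcases hL.kinds hS ha hK with (⟨m, hm, h⟩ | ⟨m, hm, h⟩) | ⟨n, hn, Q, hQ, c, hc, h⟩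
  · rcases hL.out_oPlus ha hm h with ⟨-, h6, e⟩ | h2
    · exact ⟨hL.quot_equiv_of_card hS (Or.inl h6), Or.inl e⟩
    · rw [h2] at h3; norm_num at h3
  · rw [hL.out_oMinus ha hm h] at h3; norm_num at h3
  · rcases hL.out_refl ha hn hQ hc h with ⟨-, -, h24, e⟩ | hno
    · exact ⟨hL.quot_equiv_of_card hS (Or.inr h24), Or.inr e⟩
    · exact absurd h3 hno

end CfsgLib.ThreeTrans.Classif
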