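import Mathlib
import Cfsg.Agent.Lib.ThreeTrans.Classif.Sporadic
import Cfsg.Agent.Lib.ThreeTrans.Classif.DisconnectedOrth

/-! The layer analysis under type M(24). -/

set_option autoImplicit false

namespace CfsgLib.ThreeTrans.Classif

universe u

theorem splitEight : SplitEight.{u} := by
  intro X _ _ D' L hS hL hall
  haveI := hL.normal
  obtain ⟨a, ha, -⟩ := hS.hE.two
  obtain ⟨Q, e, hQ, he, hdet, hK⟩ := hall a ha
  refine ⟨L, hL.normal, ?_, ?_⟩
  · rcases hL.out_refl ha (by norm_num) hQ he hK with ⟨-, -, -, h⟩ | h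
    · exact h
    · exact absurd (hL.three_dvd_out hS) h
  · exact (hL.orth_case hS ha (Or.inr (Or.inr (Or.inr (Or.inr (Or.inl ⟨8, by norm_num, Q, hQ, e, he, hK⟩)))))).1

end CfsgLib.ThreeTrans.Classif
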