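import Mathlib
import Cfsg.Agent.Lib.ThreeTrans.Classif.DisconnectedOrth
import Cfsg.Agent.Lib.ThreeTrans.WidthOne

/-!
A centreless class without cores whose commuting graph is disconnected, given the classification:
the quotient by the generalized Fitting subgroup is the symmetric group of degree three.
-/

set_option autoImplicit false

namespace CfsgLib.ThreeTrans.Classif

open CfsgLib.ThreeTrans

universe u

variable {G : Type u} [Group G] [Finite G] {D : Set G}

/-- Without cores and with a disconnected graph there is a commuting pair. -/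
theorem semi_of_disconnected (hD : Cfsg.IsThreeTranspositionClass D)
    (hZ : Subgroup.center G = ⊥) (h2 : Cfsg.pCore 2 G = ⊥) (h3 : Cfsg.pCore 3 G = ⊥)
    (hdisc : ¬ (Cfsg.commutingGraph D).Connected) : Semi D := by
  have hc := conjClosed_of_class hD
  have hs := hc.set
  have htwo : ∃ a ∈ D, ∃ b ∈ D, a ≠ b := by
    by_contra! hone
    obtain ⟨-, ⟨d, hd, -⟩, -⟩ := hD
    have : Nonempty D := ⟨⟨d, hd⟩⟩
    refine hdisc ⟨fun u w => ?_⟩
    rw [show u = w from Subtype.ext (hone _ u.2 _ w.2)]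
  refine ⟨⟨hc, hD.2.2, fun a ha b hb => class_conj hD ha hb, htwo⟩, hZ, h2, h3, ?_⟩
  by_contra! hno
  have hB : WidthOne.Braided D := ⟨fun x hx => mul_self hs hx, fun x hx y hy => ?_,
    fun x hx y hy => conj_mem_left hc hx hy⟩
  swap
  · rcases eq_or_ne x y with rfl | hne
    · rfl
    · exact braid hs hx hy (hno x hx y hy hne)
  set P := Subgroup.closure {z | ∃ x ∈ D, ∃ y ∈ D, z = x * y} with hP
  haveI : P.Normal := by
    refine ⟨fun z hz g => ?_⟩
    induction hz using Subgroup.closure_induction with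
    | mem w hw =>
      obtain ⟨x, hx, y, hy, rfl⟩ := hw
      exact Subgroup.subset_closure ⟨g * x * g⁻¹, hc.conj g x hx, g * y * g⁻¹, hc.conj g y hy, by group⟩
    | one => simp [one_mem]
    | mul x y _ _ hx hy => rw [show g * (x * y) * g⁻¹ = g * x * g⁻¹ * (g * y * g⁻¹) by group]; exact mul_mem hx hy
    | inv x _ hx => rw [show g * x⁻¹ * g⁻¹ = (g * x * g⁻¹)⁻¹ by group]; exact inv_mem hx
  haveI := Fact.mk Nat.prime_three
  have hle : P ≤ Cfsg.pCore 3 G :=
    CfsgLib.PCore.le_pCore inferInstance (WidthOne.isPGroup_products hB)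
  obtain ⟨a, ha, b, hb, hab⟩ := htwo
  have : a * b ∈ (⊥ : Subgroup G) := h3 ▸ hle (Subgroup.subset_closure ⟨a, ha, b, hb, rfl⟩)
  exact hab ((mul_eq_one_iff_eq' hs hb).1 (Subgroup.mem_bot.1 this))

/-- The disconnected case, given the classification. -/
theorem disconnected_case (hcl : ∀ {X : Type u} [Group X] [Finite X] (D' : Set X), Good D' → Known D')
    (hD : Cfsg.IsThreeTranspositionClass D) (hZ : Subgroup.center G = ⊥) (h2 : Cfsg.pCore 2 G = ⊥)
    (h3 : Cfsg.pCore 3 G = ⊥) (hdisc : ¬ (Cfsg.commutingGraph D).Connected) (F : Subgroup G) [F.Normal]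
    (hF : F = Cfsg.generalizedFittingSubgroup G) :
    Nonempty (G ⧸ F ≃* Equiv.Perm (Fin 3)) ∧
      (Nonempty (F ≃* Cfsg.Omega (ZMod 2) (Cfsg.quadFormPlus 4 (ZMod 2))) ∨
        Nonempty (F ≃* Cfsg.POmega (ZMod 3) (Cfsg.quadFormPlus 4 (ZMod 3)))) := by
  have hS := semi_of_disconnected hD hZ h2 h3 hdisc
  obtain ⟨L, hL⟩ := hS.split hdisc
  obtain rfl : L = F := hL.fstar.trans hF.symm
  obtain ⟨a, ha, -⟩ := hS.hE.two
  exact hL.orth_case hS ha (hcl _ (hL.good a ha))

end CfsgLib.ThreeTrans.Classif
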