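import Mathlib
import Cfsg.Agent.S0439
import Cfsg.Agent.Lib.ThreeTrans.Classif.Counting
import Cfsg.Agent.Lib.ThreeTrans.Classif.MuSet
import Cfsg.Agent.Lib.ThreeTrans.Classif.SrgTables
import Cfsg.Agent.Lib.ThreeTrans.Uniq.Extend
import Cfsg.Agent.Lib.ThreeTrans.Torsion.SymRec

/-!
A good class whose members commuting with one look like the transpositions of degree `n` is the class
of transpositions of degree `n + 2`, apart from one case of degree six; and the transpositions as a
point model.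
-/

set_option autoImplicit false

namespace CfsgLib.ThreeTrans.Classif

open CfsgLib.ThreeTrans
open CfsgLib.ThreeTrans.LocalSymThree (nbr nbr_symm)

universe u v

namespace FromSym

theorem choose_two (j : ℕ) : 2 * j.choose 2 + j = j * j := by
  induction j with
  | zero => simp
  | succ j ih =>
    rw [Nat.choose_succ_succ', Nat.choose_one_right]
    linarith

theorem choose_two_inj {a b : ℕ} (h : a.choose 2 = b.choose 2) (hb : 0 < b.choose 2) : a = b := by
  have ha := choose_two a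
  have hb' := choose_two b
  rw [h] at ha
  have h2 : 2 ≤ a := by nlinarith
  have h2' : 2 ≤ b := by nlinarith
  rcases lt_trichotomy a b with h1 | h1 | h1
  · exfalso; nlinarith
  · exact h1
  · exfalso; nlinarith

theorem pair_inter {α : Type*} [DecidableEq α] {s t : Finset α} (hs : s.card = 2) (ht : t.card = 2)
    (hne : s ≠ t) (h : ¬ Disjoint s t) : (s ∩ t).card = 1 := by
  have h1 : 0 < (s ∩ t).card := Finset.card_pos.2 (Finset.not_disjoint_iff_nonempty_inter.1 h)
  have h2 : (s ∩ t).card ≤ 2 := hs ▸ Finset.card_le_card Finset.inter_subset_left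
  rcases (show (s ∩ t).card = 1 ∨ (s ∩ t).card = 2 by omega) with e | e
  · exact e
  · exact absurd ((Finset.eq_of_subset_of_card_le Finset.inter_subset_left (by omega)).symm.trans
      (Finset.eq_of_subset_of_card_le Finset.inter_subset_right (by omega))) hne

/-- A set of pairs closed under completing triangles, with connected traces of the given size. -/
theorem pairs_blocks {n : ℕ} (hn : 5 ≤ n) (T : Finset (Finset (Fin n))) (h2 : ∀ t ∈ T, t.card = 2)
    (hcl : ∀ a ∈ T, ∀ b ∈ T, (a ∩ b).card = 1 → symmDiff a b ∈ T) (hne : T.Nonempty)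
    (hcnt : ∀ a ∈ T, (T.filter fun u => Disjoint a u).card = (n - 3).choose 2)
    (hconn : ∀ a ∈ T, ∀ u ∈ T, ∀ w ∈ T, Disjoint a u → Disjoint a w →
      ∃ v ∈ T, ¬ Disjoint u v ∧ ¬ Disjoint v w)
    (hfive : n = 5 → T.card = 6) :
    (∃ p : Fin n, T = (Finset.univ.erase p).powersetCard 2) ∨ (n = 6 ∧ T.card = 6) := by
  classical
  set R : Fin n → Fin n → Prop := fun x y => x = y ∨ ({x, y} : Finset (Fin n)) ∈ T with hR
  have hsymm : ∀ x y, R x y → R y x := fun x y h => h.imp Eq.symm fun h => by rwa [Finset.pair_comm]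
  have htrans : ∀ x y z, R x y → R y z → R x z := by
    intro x y z h1 h2'
    rcases h1 with rfl | h1
    · exact h2'
    rcases h2' with rfl | h2'
    · exact Or.inr h1
    by_cases hxz : x = z
    · exact Or.inl hxz
    have hxy : x ≠ y := fun e => by simpa [e] using h2 _ h1
    have hyz : y ≠ z := fun e => by simpa [e] using h2 _ h2'
    have hi : ({x, y} : Finset (Fin n)) ∩ {y, z} = {y} := by
      ext w; simp only [Finset.mem_inter, Finset.mem_insert, Finset.mem_singleton]; grind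
    have hs : symmDiff ({x, y} : Finset (Fin n)) {y, z} = {x, z} := by
      ext w; simp only [Finset.mem_symmDiff, Finset.mem_insert, Finset.mem_singleton]; grind
    exact Or.inr (hs ▸ hcl _ h1 _ h2' (by rw [hi]; rfl))
  set blk : Finset (Fin n) → Finset (Fin n) := fun a => Finset.univ.filter fun z => ∃ x ∈ a, R x z
    with hblk
  have hsub : ∀ a, a ⊆ blk a := fun a x hx => by
    simp only [hblk, Finset.mem_filter, Finset.mem_univ, true_and]
    exact ⟨x, hx, Or.inl rfl⟩
  have hRa : ∀ a ∈ T, ∀ x ∈ a, ∀ y ∈ a, R x y := fun a ha x hx y hy => by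
    by_cases e : x = y
    · exact Or.inl e
    refine Or.inr ?_
    have h' : ({x, y} : Finset (Fin n)) = a := Finset.eq_of_subset_of_card_le
      (by simp [Finset.insert_subset_iff, hx, hy]) (by rw [h2 a ha, Finset.card_pair e])
    rwa [h']
  have hRblk : ∀ a ∈ T, ∀ x ∈ blk a, ∀ y ∈ blk a, R x y := by
    intro a ha x hx y hy
    simp only [hblk, Finset.mem_filter, Finset.mem_univ, true_and] at hx hy
    obtain ⟨x', hx', h1⟩ := hx
    obtain ⟨y', hy', h1'⟩ := hy
    exact htrans _ _ _ (hsymm _ _ h1) (htrans _ _ _ (hRa a ha x' hx' y' hy') h1')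
  have hpairs : ∀ a ∈ T, (blk a).powersetCard 2 ⊆ T := by
    intro a ha t ht
    obtain ⟨hts, htc⟩ := Finset.mem_powersetCard.1 ht
    obtain ⟨x, y, hxy, rfl⟩ := Finset.card_eq_two.1 htc
    exact (hRblk a ha x (hts (by simp)) y (hts (by simp))).resolve_left hxy
  have hmeet : ∀ a, ∀ t ∈ T, ¬ Disjoint t (blk a) → t ⊆ blk a := by
    intro a t ht h y hy
    obtain ⟨x, hx, hxb⟩ := Finset.not_disjoint_iff.1 h
    simp only [hblk, Finset.mem_filter, Finset.mem_univ, true_and] at hxb ⊢
    obtain ⟨x', hx', h1⟩ := hxb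
    exact ⟨x', hx', htrans _ _ _ h1 (hRa t ht x hx y hy)⟩
  have hdis : ∀ a, ∀ a' ∈ T, ¬ a' ⊆ blk a → Disjoint (blk a) (blk a') := by
    intro a a' ha' h
    refine Finset.disjoint_left.2 fun z hz hz' => h (hmeet a a' ha' ?_)
    simp only [hblk, Finset.mem_filter, Finset.mem_univ, true_and] at hz hz'
    obtain ⟨x', hx', h1⟩ := hz
    obtain ⟨y', hy', h1'⟩ := hz'
    refine Finset.not_disjoint_iff.2 ⟨y', hy', ?_⟩
    simp only [hblk, Finset.mem_filter, Finset.mem_univ, true_and]
    exact ⟨x', hx', htrans _ _ _ h1 (hsymm _ _ h1')⟩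
  -- two blocks: the trace at one is the pairs of the other
  have htwo : ∀ a ∈ T, ∀ a' ∈ T, ¬ a' ⊆ blk a →
      (blk a').card = n - 3 ∧ (blk a).card ≤ 3 ∧ ∀ t ∈ T, t ⊆ blk a ∨ t ⊆ blk a' := by
    intro a ha a' ha' h
    have hd := hdis a a' ha' h
    have haa' : Disjoint a a' := hd.mono (hsub a) (hsub a')
    have hTa : T.filter (fun u => Disjoint a u) = (blk a').powersetCard 2 := by
      refine Finset.Subset.antisymm (fun t ht => ?_) fun t ht => ?_
      · obtain ⟨htT, hta⟩ := Finset.mem_filter.1 ht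
        refine Finset.mem_powersetCard.2 ⟨?_, h2 t htT⟩
        obtain ⟨v, hv, h1, h3⟩ := hconn a ha a' ha' t htT haa' hta
        have hvb : v ⊆ blk a' := hmeet a' v hv fun h' => h1 ((h'.mono_right (hsub a')).symm)
        exact hmeet a' t htT fun h' => h3 ((h'.mono_right hvb).symm)
      · exact Finset.mem_filter.2 ⟨hpairs a' ha' ht,
          hd.mono (hsub a) (Finset.mem_powersetCard.1 ht).1⟩
    refine ⟨?_, ?_, fun t ht => ?_⟩
    · refine choose_two_inj ?_ (Nat.choose_pos (by omega))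
      rw [← hcnt a ha, hTa, Finset.card_powersetCard]
    · by_contra! hb
      have h4 : 1 < (blk a \ a).card := by
        rw [Finset.card_sdiff_of_subset (hsub a), h2 a ha]; omega
      obtain ⟨x, hx, y, hy, hxy⟩ := Finset.one_lt_card.1 h4
      rw [Finset.mem_sdiff] at hx hy
      have hp : ({x, y} : Finset (Fin n)) ∈ T.filter (fun u => Disjoint a u) :=
        Finset.mem_filter.2 ⟨hpairs a ha (Finset.mem_powersetCard.2
          ⟨by simp [Finset.insert_subset_iff, hx.1, hy.1], Finset.card_pair hxy⟩),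
          by simp [hx.2, hy.2]⟩
      rw [hTa, Finset.mem_powersetCard] at hp
      exact Finset.disjoint_left.1 hd hx.1 (hp.1 (by simp))
    · by_cases hta : Disjoint a t
      · have : t ∈ T.filter (fun u => Disjoint a u) := Finset.mem_filter.2 ⟨ht, hta⟩
        rw [hTa, Finset.mem_powersetCard] at this
        exact Or.inr this.1
      · exact Or.inl (hmeet a t ht fun h' => hta (h'.mono_right (hsub a)).symm)
  obtain ⟨a, ha⟩ := hne
  by_cases hall : ∀ t ∈ T, t ⊆ blk a
  · left
    have hT : T = (blk a).powersetCard 2 :=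
      Finset.Subset.antisymm (fun t ht => Finset.mem_powersetCard.2 ⟨hall t ht, h2 t ht⟩) (hpairs a ha)
    have h1 : T.filter (fun u => Disjoint a u) = (blk a \ a).powersetCard 2 := by
      ext t
      simp only [Finset.mem_filter, Finset.mem_powersetCard, Finset.subset_sdiff]
      exact ⟨fun ⟨h, h'⟩ => ⟨⟨hall t h, h'.symm⟩, h2 t h⟩, fun ⟨⟨h, h'⟩, hc⟩ =>
        ⟨hpairs a ha (Finset.mem_powersetCard.2 ⟨h, hc⟩), h'.symm⟩⟩
    have h3 : (blk a).card - 2 = n - 3 := by
      refine choose_two_inj ?_ (Nat.choose_pos (by omega))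
      rw [← hcnt a ha, h1, Finset.card_powersetCard, Finset.card_sdiff_of_subset (hsub a), h2 a ha]
    obtain ⟨p, hp⟩ : ∃ p, (blk a)ᶜ = {p} := Finset.card_eq_one.1 (by
      have := Finset.card_le_univ (blk a)
      rw [Fintype.card_fin] at this
      rw [Finset.card_compl, Fintype.card_fin]; omega)
    exact ⟨p, hT.trans (by rw [Finset.erase_eq, ← Finset.compl_eq_univ_sdiff, ← hp, compl_compl])⟩
  · right
    push Not at hall
    obtain ⟨a', ha', h⟩ := hall
    obtain ⟨h1, h3, hcov⟩ := htwo a ha a' ha' h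
    have hd := hdis a a' ha' h
    have h' : ¬ a ⊆ blk a' := fun k => by
      obtain ⟨x, hx⟩ := Finset.card_pos.1 (show 0 < a.card by rw [h2 a ha]; omega)
      exact Finset.disjoint_left.1 hd (hsub a hx) (k hx)
    obtain ⟨h1', h3', -⟩ := htwo a' ha' a ha h'
    have hT : T = (blk a).powersetCard 2 ∪ (blk a').powersetCard 2 := by
      refine Finset.Subset.antisymm (fun t ht => ?_) (Finset.union_subset (hpairs a ha) (hpairs a' ha'))
      rw [Finset.mem_union, Finset.mem_powersetCard, Finset.mem_powersetCard]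
      exact (hcov t ht).imp (fun k => ⟨k, h2 t ht⟩) (fun k => ⟨k, h2 t ht⟩)
    have hc : T.card = (n - 3).choose 2 + (n - 3).choose 2 := by
      rw [hT, Finset.card_union_of_disjoint, Finset.card_powersetCard, Finset.card_powersetCard, h1, h1']
      refine Finset.disjoint_left.2 fun t ht ht' => ?_
      rw [Finset.mem_powersetCard] at ht ht'
      obtain ⟨x, hx⟩ := Finset.card_pos.1 (show 0 < t.card by omega)
      exact Finset.disjoint_left.1 hd (ht.1 hx) (ht'.1 hx)
    have hn' : n = 5 ∨ n = 6 := by omega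
    rcases hn' with rfl | rfl
    · rw [hfive rfl] at hc; exact absurd hc (by decide)
    · exact ⟨rfl, hc⟩

end FromSym

open FromSym

section Pts

variable {Y : Type v} [Group Y] {E : Set Y} {n : ℕ} {ψ : Y → Finset (Fin n)}

theorem SymPts.mem_nbr (hE : SymPts E (n := n) ψ) {a w : Y} (ha : a ∈ E) :
    w ∈ nbr E a ↔ w ∈ E ∧ Disjoint (ψ a) (ψ w) := by
  constructor
  · rintro ⟨hw, hne, hc⟩
    exact ⟨hw, ((hE.comm a ha w hw).1 hc).resolve_left fun e => hne e.symm⟩
  · rintro ⟨hw, hd⟩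
    refine ⟨hw, fun e => ?_, (hE.comm a ha w hw).2 (Or.inr hd)⟩
    subst e
    have h : (ψ w).card = 2 := hE.bij.mapsTo hw
    rw [disjoint_self.1 hd] at h
    simp at h

theorem SymPts.inter_eq_one (hE : SymPts E (n := n) ψ) {a b : Y} (ha : a ∈ E) (hb : b ∈ E)
    (h : ¬ Commute a b) : (ψ a ∩ ψ b).card = 1 :=
  pair_inter (hE.bij.mapsTo ha) (hE.bij.mapsTo hb)
    (fun e => h (hE.bij.injOn ha hb e ▸ Commute.refl a))
    fun d => h ((hE.comm a ha b hb).2 (Or.inr d))

theorem SymPts.image_avoid (hE : SymPts E (n := n) ψ) (A : Finset (Fin n)) :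
    ψ '' {w | w ∈ E ∧ Disjoint A (ψ w)} = ↑(Aᶜ.powersetCard 2) := by
  ext s
  simp only [Set.mem_image, Set.mem_ofPred_eq, Finset.mem_coe, Finset.mem_powersetCard,
    Finset.subset_compl_iff_disjoint_right]
  constructor
  · rintro ⟨w, ⟨hw, hd⟩, rfl⟩
    exact ⟨hd.symm, hE.bij.mapsTo hw⟩
  · rintro ⟨hd, hs⟩
    obtain ⟨w, hw, rfl⟩ := hE.bij.surjOn hs
    exact ⟨w, ⟨hw, hd.symm⟩, rfl⟩

theorem SymPts.ncard_avoid (hE : SymPts E (n := n) ψ) (A : Finset (Fin n)) :
    {w | w ∈ E ∧ Disjoint A (ψ w)}.ncard = (n - A.card).choose 2 := by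
  rw [← Set.InjOn.ncard_image (hE.bij.injOn.mono fun w hw => hw.1), hE.image_avoid,
    Set.ncard_coe_finset, Finset.card_powersetCard, Finset.card_compl, Fintype.card_fin]

/-- The number of pairs. -/
theorem SymPts.ncard_eq (hE : SymPts E (n := n) ψ) : E.ncard = n.choose 2 := by
  have h := hE.ncard_avoid ∅
  simpa using h

/-- The number of pairs disjoint from one. -/
theorem SymPts.deg (hE : SymPts E (n := n) ψ) {a : Y} (ha : a ∈ E) :
    (nbr E a).ncard = (n - 2).choose 2 := by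
  rw [show nbr E a = {w | w ∈ E ∧ Disjoint (ψ a) (ψ w)} from Set.ext fun w => hE.mem_nbr ha,
    hE.ncard_avoid, show (ψ a).card = 2 from hE.bij.mapsTo ha]

/-- The common partners of two non-commuting members: the pairs avoiding a point. -/
theorem SymPts.mu_set (hE : SymPts E (n := n) ψ) (hn : 5 ≤ n) {S : Set Y} {m : ℕ} (M : MuData E S m)
    (hfive : n = 5 → m = 6) :
    (m = (n - 1).choose 2 ∧ ∃ p : Fin n, ∀ w ∈ E, (w ∈ S ↔ p ∉ ψ w)) ∨ (n = 6 ∧ m = 6) := by
  classical
  set T : Finset (Finset (Fin n)) := Finset.univ.filter (fun s => s ∈ ψ '' S) with hT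
  have hTm : ∀ s, s ∈ T ↔ s ∈ ψ '' S := fun s => by simp [hT]
  have hTcoe : (T : Set (Finset (Fin n))) = ψ '' S := Set.ext fun s => hTm s
  have hinj := hE.bij.injOn.mono M.sub
  have hcard : T.card = m := by
    rw [← Set.ncard_coe_finset, hTcoe, hinj.ncard_image, M.card]
  have hfilt : ∀ a ∈ S, ((T.filter fun u => Disjoint (ψ a) u : Finset (Finset (Fin n))) :
      Set (Finset (Fin n))) = ψ '' (S ∩ nbr E a) := by
    intro a ha
    ext s
    simp only [Finset.coe_filter, hTm, Set.mem_ofPred_eq, Set.mem_image, Set.mem_inter_iff]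
    constructor
    · rintro ⟨⟨w, hw, rfl⟩, hd⟩
      exact ⟨w, ⟨hw, (hE.mem_nbr (M.sub ha)).2 ⟨M.sub hw, hd⟩⟩, rfl⟩
    · rintro ⟨w, ⟨hw, hn'⟩, rfl⟩
      exact ⟨⟨w, hw, rfl⟩, ((hE.mem_nbr (M.sub ha)).1 hn').2⟩
  refine (pairs_blocks hn T ?_ ?_ ?_ ?_ ?_ fun h => hcard.trans (hfive h)).elim ?one ?six
  case one =>
    rintro ⟨p, hp⟩
    left
    refine ⟨?_, p, fun w hw => ?_⟩
    · rw [← hcard, hp, Finset.card_powersetCard, Finset.card_erase_of_mem (Finset.mem_univ p),
        Finset.card_univ, Fintype.card_fin]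
    · have h1 : ψ w ∈ T ↔ w ∈ S := by
        rw [hTm]
        exact ⟨fun ⟨w', hw', e⟩ => hE.bij.injOn (M.sub hw') hw e ▸ hw', fun h => ⟨w, h, rfl⟩⟩
      rw [← h1, hp, Finset.mem_powersetCard, Finset.subset_erase,
        show (ψ w).card = 2 from hE.bij.mapsTo hw]
      simp
  case six => exact fun h => Or.inr ⟨h.1, hcard.symm.trans h.2⟩
  · intro s hs
    obtain ⟨w, hw, rfl⟩ := (hTm s).1 hs
    exact hE.bij.mapsTo (M.sub hw)
  · intro s hs s' hs' h1
    obtain ⟨a, ha, rfl⟩ := (hTm s).1 hs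
    obtain ⟨b, hb, rfl⟩ := (hTm s').1 hs'
    refine (hTm _).2 ⟨a * b * a, M.closed a ha b hb, ?_⟩
    rw [hE.conj a (M.sub ha) b (M.sub hb), if_pos h1]
  · obtain ⟨a, ha⟩ := M.ne
    exact ⟨ψ a, (hTm _).2 ⟨a, ha, rfl⟩⟩
  · intro s hs
    obtain ⟨a, ha, rfl⟩ := (hTm s).1 hs
    obtain ⟨p, hp, hap, θ, hθ, -, -, hSA⟩ := M.swap a ha
    rw [← Set.ncard_coe_finset, hfilt a ha, (hinj.mono Set.inter_subset_left).ncard_image, hSA,
      (hθ.injOn.mono Set.inter_subset_left).ncard_image]
    have h1 : (ψ a).card = 2 := hE.bij.mapsTo (M.sub ha)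
    have h2 : (ψ p).card = 2 := hE.bij.mapsTo hp
    have h3 := Finset.card_union_add_card_inter (ψ a) (ψ p)
    rw [hE.inter_eq_one (M.sub ha) hp hap, h1, h2] at h3
    rw [show (3 : ℕ) = (ψ a ∪ ψ p).card by omega, ← hE.ncard_avoid]
    congr 1
    ext w
    simp only [Set.mem_inter_iff, hE.mem_nbr (M.sub ha), hE.mem_nbr hp, Set.mem_ofPred_eq,
      Finset.disjoint_union_left]
    tauto
  · intro s hs u hu w hw hsu hsw
    obtain ⟨a, ha, rfl⟩ := (hTm s).1 hs
    obtain ⟨p, hp, hap, θ, hθ, hθc, -, hSA⟩ := M.swap a ha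
    have pre : ∀ {x}, x ∈ T → Disjoint (ψ a) x →
        ∃ x₀ ∈ nbr E a ∩ nbr E p, ψ (θ x₀) = x := by
      intro x hx hd
      obtain ⟨y, hy, rfl⟩ := (hTm x).1 hx
      have : y ∈ S ∩ nbr E a := ⟨hy, (hE.mem_nbr (M.sub ha)).2 ⟨M.sub hy, hd⟩⟩
      rw [hSA] at this
      obtain ⟨x₀, h0, rfl⟩ := this
      exact ⟨x₀, h0, rfl⟩
    obtain ⟨u₀, hu₀, rfl⟩ := pre hu hsu
    obtain ⟨w₀, hw₀, rfl⟩ := pre hw hsw
    have hSmem : ∀ {x}, x ∈ nbr E a ∩ nbr E p → ψ (θ x) ∈ T := fun {x} hx => by
      have : θ x ∈ S ∩ nbr E a := hSA ▸ Set.mem_image_of_mem θ hx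
      exact (hTm _).2 ⟨_, this.1, rfl⟩
    -- meeting is kept
    have keep : ∀ {x y}, x ∈ nbr E a ∩ nbr E p → y ∈ nbr E a ∩ nbr E p →
        ¬ Disjoint (ψ x) (ψ y) → ¬ Disjoint (ψ (θ x)) (ψ (θ y)) := by
      intro x y hx hy hxy hd
      by_cases e : x = y
      · subst e
        have h : (ψ (θ x)).card = 2 := hE.bij.mapsTo (hθ.mapsTo hx.1).1
        rw [disjoint_self.1 hd] at h
        simp at h
      · refine hxy (((hE.comm x hx.1.1 y hy.1.1).1 ((hθc x hx.1 y hy.1).1 ?_)).resolve_left e)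
        exact (hE.comm _ (hθ.mapsTo hx.1).1 _ (hθ.mapsTo hy.1).1).2 (Or.inr hd)
    have hself : ∀ {x}, x ∈ nbr E a ∩ nbr E p → ¬ Disjoint (ψ (θ x)) (ψ (θ x)) := fun {x} hx hd => by
      have h : (ψ (θ x)).card = 2 := hE.bij.mapsTo (hθ.mapsTo hx.1).1
      rw [disjoint_self.1 hd] at h
      simp at h
    by_cases hm' : Disjoint (ψ u₀) (ψ w₀)
    · obtain ⟨x, hx⟩ := Finset.card_pos.1
        (show 0 < (ψ u₀).card by rw [show (ψ u₀).card = 2 from hE.bij.mapsTo hu₀.1.1]; omega)
      obtain ⟨y, hy⟩ := Finset.card_pos.1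
        (show 0 < (ψ w₀).card by rw [show (ψ w₀).card = 2 from hE.bij.mapsTo hw₀.1.1]; omega)
      have hxy : x ≠ y := fun e => Finset.disjoint_left.1 hm' hx (e ▸ hy)
      obtain ⟨v₀, hv₀, hv⟩ := hE.bij.surjOn (show ({x, y} : Finset (Fin n)) ∈ {s | s.card = 2} from
        Finset.card_pair hxy)
      have hmem : ∀ {b}, b ∈ E → u₀ ∈ nbr E b → w₀ ∈ nbr E b → v₀ ∈ nbr E b := fun {b} hb h1 h2 => by
        rw [hE.mem_nbr hb] at h1 h2 ⊢
        refine ⟨hv₀, ?_⟩
        rw [hv, Finset.disjoint_right]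
        intro z hz
        rcases Finset.mem_insert.1 hz with rfl | hz
        · exact Finset.disjoint_right.1 h1.2 hx
        · rw [Finset.mem_singleton] at hz
          exact hz ▸ Finset.disjoint_right.1 h2.2 hy
      have hv' : v₀ ∈ nbr E a ∩ nbr E p :=
        ⟨hmem (M.sub ha) hu₀.1 hw₀.1, hmem hp hu₀.2 hw₀.2⟩
      refine ⟨_, hSmem hv', keep hu₀ hv' ?_, keep hv' hw₀ ?_⟩
      · rw [hv]; exact Finset.not_disjoint_iff.2 ⟨x, hx, by simp⟩
      · rw [hv]; exact Finset.not_disjoint_iff.2 ⟨y, by simp, hy⟩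
    · exact ⟨_, hSmem hu₀, hself hu₀, keep hu₀ hw₀ hm'⟩

end Pts

namespace FromSym

variable {ι : Type} [Fintype ι] [DecidableEq ι]

/-- The usual form on vectors over two elements. -/
def dot : (ι → ZMod 2) →ₗ[ZMod 2] (ι → ZMod 2) →ₗ[ZMod 2] ZMod 2 :=
  LinearMap.mk₂ (ZMod 2) (fun u w => dotProduct u w) add_dotProduct smul_dotProduct dotProduct_add
    dotProduct_smul

omit [DecidableEq ι] in
theorem dot_comm (u w : ι → ZMod 2) : dot u w = dot w u := dotProduct_comm u w

/-- A basis vector. -/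
def pt (x : ι) : ι → ZMod 2 := Pi.single x 1

theorem dot_pt (u : ι → ZMod 2) (x : ι) : dot u (pt x) = u x := by
  simp [dot, pt]

theorem dot_two (u : ι → ZMod 2) (x y : ι) : dot u (pt x + pt y) = u x + u y := by
  rw [map_add, dot_pt, dot_pt]

omit [Fintype ι] in
theorem pt_apply (x y : ι) : pt x y = if y = x then 1 else 0 := by
  simp [pt, Pi.single_apply]

/-- A transposition moves basis vectors by adding its two points. -/
theorem pt_swap {x y : ι} (h : x ≠ y) (z : ι) :
    pt (Equiv.swap x y z) = pt z + dot (pt z) (pt x + pt y) • (pt x + pt y) := by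
  rw [dot_two, pt_apply, pt_apply]
  by_cases hzx : z = x
  · subst hzx
    rw [Equiv.swap_apply_left, if_pos rfl, if_neg (Ne.symm h), add_zero, one_smul, ← add_assoc,
      ZModModule.add_self, zero_add]
  · by_cases hzy : z = y
    · subst hzy
      rw [Equiv.swap_apply_right, if_neg h, if_pos rfl, zero_add, one_smul, add_comm (pt x) (pt z),
        ← add_assoc, ZModModule.add_self, zero_add]
    · rw [Equiv.swap_apply_of_ne_of_ne hzx hzy, if_neg (Ne.symm hzx), if_neg (Ne.symm hzy), add_zero,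
        zero_smul, add_zero]

omit [Fintype ι] in
theorem pt_injective {x y : ι} (h : pt x = pt y) : x = y := by
  by_contra hne
  have := congrFun h x
  rw [pt_apply, pt_apply, if_pos rfl, if_neg hne] at this
  exact one_ne_zero this

theorem swap_unique {x y x' y' : ι} (h : x ≠ y) (h' : x' ≠ y')
    (e : pt x + pt y = pt x' + pt y') : Equiv.swap x y = Equiv.swap x' y' :=
  Equiv.ext fun z => pt_injective (by rw [pt_swap h, pt_swap h', e])

omit [Fintype ι] in
theorem pts_unique {x y x' y' : ι} (h : x ≠ y) (e : Equiv.swap x y = Equiv.swap x' y') :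
    pt x + pt y = pt x' + pt y' := by
  have h1 : Equiv.swap x' y' x = y := by rw [← e, Equiv.swap_apply_left]
  by_cases hx : x = x'
  · subst hx
    rw [Equiv.swap_apply_left] at h1
    rw [h1]
  · by_cases hy : x = y'
    · subst hy
      rw [Equiv.swap_apply_right] at h1
      rw [h1, add_comm]
    · rw [Equiv.swap_apply_of_ne_of_ne hx hy] at h1
      exact absurd h1 h

/-- Two points. -/
def IsTwo (u : ι → ZMod 2) : Prop := ∃ x y, x ≠ y ∧ u = pt x + pt y

theorem IsTwo.add {u w : ι → ZMod 2} (hu : IsTwo u) (hw : IsTwo w) (h : dot u w = 1) :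
    IsTwo (u + w) := by
  obtain ⟨x, y, hxy, rfl⟩ := hu
  obtain ⟨x', y', hxy', rfl⟩ := hw
  refine ⟨Equiv.swap x y x', Equiv.swap x y y', (Equiv.swap x y).injective.ne hxy', ?_⟩
  rw [pt_swap hxy, pt_swap hxy, add_add_add_comm (pt x'), ← add_smul]
  rw [dot_comm, LinearMap.map_add₂] at h
  rw [h, one_smul]
  abel

theorem dot_sum {n : ℕ} {g : Fin n → ι} (hg : Function.Injective g) (s t : Finset (Fin n)) :
    dot (∑ x ∈ s, pt (g x)) (∑ y ∈ t, pt (g y)) = ((s ∩ t).card : ZMod 2) := by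
  simp only [map_sum, LinearMap.sum_apply, dot_pt, pt_apply, hg.eq_iff]
  simp [Finset.sum_ite_mem, Finset.inter_comm]

omit [Fintype ι] in
theorem sum_apply_point {n : ℕ} {g : Fin n → ι} (hg : Function.Injective g) (s : Finset (Fin n))
    (x : Fin n) : (∑ y ∈ s, pt (g y)) (g x) = if x ∈ s then 1 else 0 := by
  simp only [Finset.sum_apply, pt_apply, hg.eq_iff]
  simp

omit [Fintype ι] in
theorem sum_apply_out {n : ℕ} {g : Fin n → ι} (s : Finset (Fin n))
    {i : ι} (hi : ∀ x, g x ≠ i) : (∑ y ∈ s, pt (g y)) i = 0 := by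
  simp only [Finset.sum_apply, pt_apply]
  exact Finset.sum_eq_zero fun x _ => if_neg (Ne.symm (hi x))

end FromSym

variable {G : Type u} [Group G] [Finite G] {D : Set G} {Y : Type v} [Group Y] {E : Set Y} {f : G → Y}
  {n : ℕ}

omit [Finite G] in
/-- Vectors give the isomorphism with the symmetric group. -/
theorem sym_of_points (hG : Good D) (hn : 3 ≤ n) (φ : G → (Fin n → ZMod 2))
    (hP : ∀ a ∈ D, IsTwo (φ a)) (hinj : Set.InjOn φ D)
    (hsurj : ∀ x y : Fin n, x ≠ y → ∃ a ∈ D, φ a = pt x + pt y)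
    (hconj : ∀ a ∈ D, ∀ b ∈ D, φ (a * b * a) = φ b + dot (φ a) (φ b) • φ a) : KindSym D n := by
  classical
  have : Nonempty (Fin n) := ⟨⟨0, by omega⟩⟩
  choose! px py hne hφ using hP
  have hs : ∀ a ∈ D, (Equiv.swap (px a) (py a)).IsSwap := fun a ha => ⟨_, _, hne a ha, rfl⟩
  have hbij : Set.BijOn (fun a => Equiv.swap (px a) (py a)) D {σ : Equiv.Perm (Fin n) | σ.IsSwap} := by
    refine ⟨hs, fun a ha b hb h => hinj ha hb ?_, ?_⟩
    · rw [hφ a ha, hφ b hb]; exact pts_unique (hne a ha) h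
    · rintro σ ⟨x, y, hxy, rfl⟩
      obtain ⟨a, ha, e⟩ := hsurj x y hxy
      exact ⟨a, ha, swap_unique (hne a ha) hxy ((hφ a ha).symm.trans e)⟩
  have hmul : ∀ a ∈ D, ∀ b ∈ D, Equiv.swap (px (a * b * a)) (py (a * b * a)) =
      Equiv.swap (px a) (py a) * Equiv.swap (px b) (py b) * Equiv.swap (px a) (py a) := by
    intro a ha b hb
    have hm := conj_mem_left hG.set.hD.closed ha hb
    conv_rhs => arg 2; rw [← Equiv.swap_inv]
    rw [← Equiv.swap_apply_apply]
    refine swap_unique (hne _ hm) ((Equiv.swap _ _).injective.ne (hne b hb)) ?_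
    rw [← hφ _ hm, hconj a ha b hb, pt_swap (hne a ha), pt_swap (hne a ha), ← hφ a ha,
      dot_comm (φ a), hφ b hb, add_add_add_comm (pt (px b)), ← add_smul, LinearMap.map_add₂]
  have h₂ := group_of_class (Cfsg.Agent.S0439.result n (by omega))
  have hZ : Subgroup.center (Equiv.Perm (Fin n)) = ⊥ := by
    rw [eq_bot_iff]
    intro σ hσ
    exact Subgroup.mem_bot.2 (Torsion.eq_one_of_commute_swaps hn fun x y _ =>
      (Subgroup.mem_center_iff.1 hσ (Equiv.swap x y)).symm)
  obtain ⟨e, -, he⟩ := Uniq.exists_mulEquiv hG.group h₂ hG.triv hZ hbij hmul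
  exact ⟨e, he⟩

/-- If the members commuting with one are the pairs of an `n`-set, the class is that of the
transpositions of degree `n + 2`, unless `n = 6` and two members which do not commute have six
common partners. -/
theorem from_sym (hG : Good D) {d : G} (C : Chart D d f E) (hn : 5 ≤ n) {ψ : Y → Finset (Fin n)}
    (hE : SymPts E (n := n) ψ) {N k l m : ℕ} (P : Params D N k l m) (hm : 0 < m) :
    KindSym D (n + 2) ∨ (n = 6 ∧ m = 6) := by
  classical
  have hd := C.mem
  obtain ⟨c, hcD, hdc⟩ := exists_not_commute hG.set.hD.gen hG.set.hD.closed hG.set.hD.class_eq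
    hG.set.hD.two hd
  obtain ⟨hk, hl⟩ := P.of_chart hG C (fun e he => hE.deg he)
  rw [hE.ncard_eq] at hk
  have hfive : n = 5 → m = 6 := by
    rintro rfl
    obtain ⟨N', k', l', m', P', -, hlt⟩ := exists_params hG
    obtain ⟨-, rfl, -, rfl⟩ := P.unique hG P'
    have h10 : k = 10 := hk
    have h3 : l = 3 := hl
    subst h10 h3
    exact mu_ten hG hm P hlt
  rcases hE.mu_set hn (muData hG P hm C hcD hdc) hfive with ⟨hm', p, hp⟩ | h
  swap
  · exact Or.inr h
  left
  -- the members commuting with `c`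
  have hcy : ∀ y ∈ nbr D d, (Commute c y ↔ p ∉ ψ (f y)) := by
    intro y hy
    rw [← hp (f y) (C.bij.mapsTo hy)]
    constructor
    · intro h
      exact ⟨y, ⟨hy, hy.1, fun e => hdc (e ▸ hy.2.2), h⟩, rfl⟩
    · rintro ⟨y', hy', e⟩
      rw [(C.inj hy'.1 hy).1 e] at hy'
      exact hy'.2.2.2
  -- the numbers
  have hA : Additive D := by
    have hfar := P.mul_far hd
    have hN := P.card_far hd
    obtain ⟨j, rfl⟩ : ∃ j, n = j + 2 := ⟨n - 2, by omega⟩
    rw [show j + 2 - 1 = j + 1 from rfl] at hm'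
    rw [show j + 2 - 2 = j from rfl] at hl
    have e1 : (j + 1).choose 2 = j + j.choose 2 := by
      rw [Nat.choose_succ_succ', Nat.choose_one_right]
    have e2 : (j + 2).choose 2 = (j + 1) + (j + 1).choose 2 := by
      rw [Nat.choose_succ_succ', Nat.choose_one_right]
    have e3 := choose_two j
    rw [show k - 1 - l = 2 * j by omega] at hfar
    have hfc : (far D d).ncard = 2 * (j + 2) := by
      refine Nat.eq_of_mul_eq_mul_right (m := 2 * m) (by omega) ?_
      calc (far D d).ncard * (2 * m) = 2 * ((far D d).ncard * m) := by ring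
        _ = 2 * j * (2 * k) := by rw [hfar]; ring
        _ = 2 * (j + 2) * (2 * m) := by
          rw [hk, hm', e2, e1]
          nlinarith [e3]
    refine additive_of_params hG P ?_
    rw [hN, hfc, hk, hm', e2, e1]
    linarith
  -- the model
  set g : Fin n → Fin (n + 2) := fun x => ⟨x.val, by omega⟩ with hgdef
  have hg : Function.Injective g := fun x y h => Fin.ext (Fin.mk.inj_iff.1 h)
  set r : Fin (n + 2) := ⟨n, by omega⟩ with hr
  set s : Fin (n + 2) := ⟨n + 1, by omega⟩ with hs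
  have hgr : ∀ x, g x ≠ r := fun x h => by
    have := Fin.mk.inj_iff.1 h; omega
  have hgs : ∀ x, g x ≠ s := fun x h => by
    have := Fin.mk.inj_iff.1 h; omega
  have hrs : r ≠ s := fun h => by have := Fin.mk.inj_iff.1 h; omega
  have hcases : ∀ i, (∃ x, g x = i) ∨ i = r ∨ i = s := fun i => by
    by_cases h : i.val < n
    · exact Or.inl ⟨⟨i.val, h⟩, rfl⟩
    · have := i.isLt
      rcases (show i.val = n ∨ i.val = n + 1 by omega) with e | e
      exacts [Or.inr (Or.inl (Fin.ext e)), Or.inr (Or.inr (Fin.ext e))]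
  have hcd : c ≠ d := fun e => hdc (e ▸ Commute.refl d)
  set φ₀ : G → (Fin (n + 2) → ZMod 2) := fun y =>
    if y = d then pt r + pt s else if y = c then pt (g p) + pt r else ∑ x ∈ ψ (f y), pt (g x) with hφ₀
  have hφd : φ₀ d = pt r + pt s := if_pos rfl
  have hφc : φ₀ c = pt (g p) + pt r := by simp only [hφ₀, if_neg hcd, if_true]
  have hφy : ∀ y ∈ nbr D d, φ₀ y = ∑ x ∈ ψ (f y), pt (g x) := fun y hy => by
    simp only [hφ₀, if_neg hy.2.1, if_neg (show y ≠ c from fun e => hdc (e ▸ hy.2.2))]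
  set T := insert c (insert d (nbr D d)) with hTdef
  have hTD : T ⊆ D := Set.insert_subset hcD (Set.insert_subset hd fun y hy => hy.1)
  have hdT : d ∈ T := Or.inr (Or.inl rfl)
  have hcT : c ∈ T := Or.inl rfl
  have hyT : ∀ {y}, y ∈ nbr D d → y ∈ T := fun hy => Or.inr (Or.inr hy)
  have hP₀ : ∀ t ∈ T, IsTwo (φ₀ t) := by
    rintro t (rfl | rfl | ht)
    · exact ⟨_, _, hgr p, hφc⟩
    · exact ⟨_, _, hrs, hφd⟩
    · obtain ⟨x, y, hxy, e⟩ := Finset.card_eq_two.1
        (show (ψ (f t)).card = 2 from hE.bij.mapsTo (C.bij.mapsTo ht))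
      exact ⟨g x, g y, hg.ne hxy, by rw [hφy t ht, e, Finset.sum_pair hxy]⟩
  have z2 : ∀ a : ZMod 2, a + a = 0 := by decide
  have hdy : ∀ y ∈ nbr D d, dot (φ₀ y) (φ₀ d) = row y d := fun y hy => by
    rw [hφy y hy, hφd, dot_two, sum_apply_out _ hgr, sum_apply_out _ hgs, add_zero,
      row_eq_zero.2 hy.2.2.symm]
  have hcy' : ∀ y ∈ nbr D d, dot (φ₀ y) (φ₀ c) = row y c := fun y hy => by
    rw [hφy y hy, hφc, dot_two, sum_apply_out _ hgr, sum_apply_point hg, add_zero]
    by_cases h : p ∈ ψ (f y)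
    · rw [if_pos h, row_eq_one.2 fun k => (hcy y hy).1 k.symm h]
    · rw [if_neg h, row_eq_zero.2 ((hcy y hy).2 h).symm]
  have hdc' : dot (φ₀ d) (φ₀ c) = row d c := by
    rw [hφd, hφc, dot_two, row_eq_one.2 hdc]
    simp [pt_apply, hgr p, hgs p, hrs]
  have hdd : ∀ t ∈ T, dot (φ₀ t) (φ₀ t) = 0 := fun t ht => by
    obtain ⟨x, y, hxy, e⟩ := hP₀ t ht
    rw [e, dot_two]
    simp [pt_apply, hxy, hxy.symm, z2]
  have h0 : ∀ a ∈ T, ∀ b ∈ T, dot (φ₀ a) (φ₀ b) = row a b := by
    rintro a (rfl | rfl | ha) b (rfl | rfl | hb)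
    · rw [hdd _ hcT, row_self]
    · rw [dot_comm, hdc', row_comm]
    · rw [dot_comm, hcy' b hb, row_comm]
    · exact hdc'
    · rw [hdd _ hdT, row_self]
    · rw [dot_comm, hdy b hb, row_comm]
    · exact hcy' a ha
    · exact hdy a ha
    · by_cases e : a = b
      · rw [e, hdd _ (hyT hb), row_self]
      have hab := C.comm a ha b hb
      rw [hφy a ha, hφy b hb, dot_sum hg]
      by_cases h : Commute a b
      · rw [row_eq_zero.2 h, Finset.disjoint_iff_inter_eq_empty.1 (((hE.comm _ (C.bij.mapsTo ha) _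
          (C.bij.mapsTo hb)).1 (hab.2 h)).resolve_left fun k => e ((C.inj ha hb).1 k))]
        simp
      · rw [row_eq_one.2 h, hE.inter_eq_one (C.bij.mapsTo ha) (C.bij.mapsTo hb) (fun k => h (hab.1 k))]
        simp
  have hpair : ∀ x y, x ≠ y → ∃ t ∈ nbr D d, φ₀ t = pt (g x) + pt (g y) := by
    intro x y hxy
    obtain ⟨w, hw, hw'⟩ := hE.bij.surjOn (show ({x, y} : Finset (Fin n)) ∈ {s | s.card = 2} from
      Finset.card_pair hxy)
    obtain ⟨t, ht, rfl⟩ := C.bij.surjOn hw
    exact ⟨t, ht, by rw [hφy t ht, hw', Finset.sum_pair hxy]⟩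
  have huniq : ∀ u w, IsTwo u → IsTwo w →
      (∀ t ∈ T, dot u (φ₀ t) = dot w (φ₀ t)) → u = w := by
    intro u w hu hw h
    have q : ∀ a b a' b' : ZMod 2, a + b = a' + b' → a + a' = b + b' := by decide
    have q0 : ∀ a b : ZMod 2, a + b = 0 → a = b := by decide
    have hδd := h d hdT
    rw [hφd, dot_two, dot_two] at hδd
    have hδc := h c hcT
    rw [hφc, dot_two, dot_two] at hδc
    have hconst : ∀ i, u i + w i = u r + w r := by
      intro i
      rcases hcases i with ⟨x, rfl⟩ | rfl | rfl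
      · by_cases hx : x = p
        · rw [hx]; exact q _ _ _ _ hδc
        · obtain ⟨t, ht, e⟩ := hpair x p hx
          have hδ := h t (hyT ht)
          rw [e, dot_two, dot_two] at hδ
          exact (q _ _ _ _ hδ).trans (q _ _ _ _ hδc)
      · rfl
      · exact (q _ _ _ _ hδd).symm
    obtain ⟨x, y, -, rfl⟩ := hu
    obtain ⟨x', y', -, rfl⟩ := hw
    obtain ⟨i, -, hi⟩ := Finset.exists_mem_notMem_of_card_lt_card
      (s := ({x, y, x', y'} : Finset (Fin (n + 2)))) (t := Finset.univ) (by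
        rw [Finset.card_univ, Fintype.card_fin]
        exact lt_of_le_of_lt Finset.card_le_four (by omega))
    simp only [Finset.mem_insert, Finset.mem_singleton, not_or] at hi
    have hz := hconst i
    simp only [Pi.add_apply, pt_apply, if_neg hi.1, if_neg hi.2.1, if_neg hi.2.2.1, if_neg hi.2.2.2,
      add_zero] at hz
    funext j
    refine q0 _ _ ((hconst j).trans ?_)
    simp only [Pi.add_apply, pt_apply]
    exact hz.symm
  obtain ⟨φ, hφ0, hφP, hφB, hφc', hφi⟩ := exists_vectors hG.set.hD hA hTD ⟨c, hcT⟩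
    (closure_base hG hd hcD hdc) dot dot_comm IsTwo (fun u w => IsTwo.add) φ₀ hP₀ h0 huniq
  have hconj : ∀ a ∈ D, ∀ b ∈ D, φ (a * b * a) = φ b + dot (φ a) (φ b) • φ a := fun a ha b hb => by
    rw [hφc' a ha b hb, hφB a ha b hb]
  refine sym_of_points hG (by omega) φ hφP (hφi hG.noTwins) ?_ hconj
  -- every transposition occurs
  have hstep : ∀ {x y x' y' : Fin (n + 2)}, x ≠ y → (∃ a ∈ D, φ a = pt x + pt y) →
      (∃ a ∈ D, φ a = pt x' + pt y') →
      ∃ a ∈ D, φ a = pt (Equiv.swap x y x') + pt (Equiv.swap x y y') := by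
    rintro x y x' y' hxy ⟨a, ha, e⟩ ⟨b, hb, e'⟩
    refine ⟨a * b * a, conj_mem_left hG.set.hD.closed ha hb, ?_⟩
    rw [hconj a ha b hb, pt_swap hxy, pt_swap hxy, dot_comm (φ a), e, e', add_add_add_comm (pt x'),
      ← add_smul]
    rw [LinearMap.map_add₂]
  have hrs' : ∃ a ∈ D, φ a = pt r + pt s := ⟨d, hd, by rw [hφ0 d hdT, hφd]⟩
  have hxy' : ∀ x y, x ≠ y → ∃ a ∈ D, φ a = pt (g x) + pt (g y) := fun x y hxy => by
    obtain ⟨t, ht, e⟩ := hpair x y hxy
    exact ⟨t, ht.1, by rw [hφ0 t (hyT ht), e]⟩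
  have hxr : ∀ x, ∃ a ∈ D, φ a = pt (g x) + pt r := fun x => by
    by_cases hx : x = p
    · exact ⟨c, hcD, by rw [hx, hφ0 c hcT, hφc]⟩
    · have := hstep (hg.ne hx) (hxy' x p hx) ⟨c, hcD, by rw [hφ0 c hcT, hφc]⟩
      rwa [Equiv.swap_apply_right, Equiv.swap_apply_of_ne_of_ne (hgr x).symm (hgr p).symm] at this
  have hxs : ∀ x, ∃ a ∈ D, φ a = pt (g x) + pt s := fun x => by
    have := hstep hrs hrs' (hxr x)
    rwa [Equiv.swap_apply_left, Equiv.swap_apply_of_ne_of_ne (hgr x) (hgs x)] at this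
  intro x y hxy
  rcases hcases x with ⟨a, rfl⟩ | rfl | rfl <;> rcases hcases y with ⟨b, rfl⟩ | rfl | rfl
  · exact hxy' a b fun e => hxy (e ▸ rfl)
  · exact hxr a
  · exact hxs a
  · simpa only [add_comm (pt r)] using hxr b
  · exact absurd rfl hxy
  · exact hrs'
  · simpa only [add_comm (pt s)] using hxs b
  · simpa only [add_comm (pt s)] using hrs'
  · exact absurd rfl hxy

open Equiv in
omit [Finite G] in
/-- The transpositions of a symmetric group as a point model. -/
theorem sym_points (h : KindSym D n) :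
    ∃ ψ : G → Finset (Fin n), SymPts D (n := n) ψ ∧ D.ncard = n.choose 2 ∧
      ∀ a ∈ D, (nbr D a).ncard = (n - 2).choose 2 := by
  classical
  obtain ⟨e, he⟩ := h
  have hmem : ∀ a, a ∈ D ↔ (e a).IsSwap := fun a => by
    rw [show (e a).IsSwap ↔ e a ∈ e '' D from by rw [he]; rfl, e.injective.mem_set_image]
  have hcard : ∀ a ∈ D, (e a).support.card = 2 := fun a ha =>
    Perm.card_support_eq_two.2 ((hmem a).1 ha)
  have hsw : ∀ {x y : Fin n}, x ≠ y → (swap x y).support = {x, y} := fun h => Perm.support_swap h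
  have hconj : ∀ a ∈ D, ∀ b ∈ D, (e (a * b * a)).support =
      if ((e a).support ∩ (e b).support).card = 1 then symmDiff (e a).support (e b).support
      else (e b).support := by
    intro a ha b hb
    obtain ⟨x, y, hxy, hea⟩ := (hmem a).1 ha
    obtain ⟨x', y', hxy', heb⟩ := (hmem b).1 hb
    have e1 : e (a * b * a) = swap (swap x y x') (swap x y y') := by
      rw [map_mul, map_mul, hea, heb]
      conv_lhs => arg 2; rw [← swap_inv]
      rw [← Equiv.swap_apply_apply]
    rw [e1, hea, heb, hsw ((swap x y).injective.ne hxy'), hsw hxy, hsw hxy']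
    by_cases h1 : x' = x <;> by_cases h2 : x' = y <;> by_cases h3 : y' = x <;> by_cases h4 : y' = y
    all_goals
      simp_all [swap_apply_of_ne_of_ne, Finset.symmDiff_def, Finset.ext_iff]
    all_goals grind
  have hinj : ∀ a ∈ D, ∀ b ∈ D, (e a).support = (e b).support → a = b := by
    intro a ha b hb h
    obtain ⟨x, y, hxy, hea⟩ := (hmem a).1 ha
    obtain ⟨x', y', hxy', heb⟩ := (hmem b).1 hb
    rw [hea, heb, hsw hxy, hsw hxy'] at h
    refine e.injective (hea.trans (Eq.trans ?_ heb.symm))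
    have hx : x ∈ ({x', y'} : Finset (Fin n)) := h ▸ Finset.mem_insert_self _ _
    have hy : y ∈ ({x', y'} : Finset (Fin n)) := h ▸ by simp
    simp only [Finset.mem_insert, Finset.mem_singleton] at hx hy
    rcases hx with rfl | rfl <;> rcases hy with rfl | rfl
    exacts [absurd rfl hxy, rfl, swap_comm _ _, absurd rfl hxy]
  have hE : SymPts D (n := n) fun a => (e a).support := by
    refine ⟨⟨hcard, fun a ha b hb => hinj a ha b hb, ?_⟩, fun a ha b hb => ?_, hconj⟩
    · intro s hs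
      obtain ⟨x, y, hxy, rfl⟩ := Finset.card_eq_two.1 hs
      refine ⟨e.symm (swap x y), (hmem _).2 ?_, ?_⟩
      · rw [e.apply_symm_apply]; exact ⟨x, y, hxy, rfl⟩
      · show (e (e.symm (swap x y))).support = _
        rw [e.apply_symm_apply, hsw hxy]
    · constructor
      · intro h
        by_contra! hne
        have h1 := pair_inter (hcard a ha) (hcard b hb) (fun k => hne.1 (hinj a ha b hb k)) hne.2
        have h2 := hconj a ha b hb
        have haa : a * a = 1 := e.injective (by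
          obtain ⟨x, y, -, hea⟩ := (hmem a).1 ha
          rw [map_mul, map_one, hea, swap_mul_self])
        rw [if_pos h1, h.eq, mul_assoc, haa, mul_one] at h2
        have h3 := congrArg (fun s : Finset (Fin n) => symmDiff s (e b).support) h2
        simp only [symmDiff_self, symmDiff_symmDiff_cancel_right] at h3
        have := hcard a ha
        rw [← h3] at this
        simp at this
      · rintro (rfl | h)
        · exact Commute.refl a
        · have hc : Commute (e a) (e b) :=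
            (Perm.disjoint_iff_disjoint_support.2 h).commute
          simpa using hc.map e.symm.toMonoidHom
  exact ⟨_, hE, hE.ncard_eq, fun a ha => hE.deg ha⟩

end CfsgLib.ThreeTrans.Classif
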