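import Mathlib
import Cfsg.Agent.Lib.ThreeTrans.Classif.RowExtend
import Cfsg.Agent.Lib.ThreeTrans.TransvecTwo
import Cfsg.Agent.Lib.ThreeTrans.Uniq.Extend

/-! A class described by the anisotropic vectors of a quadratic space over two elements is the class
of orthogonal transvections of that space. -/

set_option autoImplicit false

namespace CfsgLib.ThreeTrans.Classif

open CfsgLib.ThreeTrans CfsgLib.Orth
open Matrix QuadraticMap

universe u

variable {G : Type u} [Group G] [Finite G] {D : Set G}

variable {ι : Type} [Fintype ι] [DecidableEq ι] {Q : QuadraticForm (ZMod 2) (ι → ZMod 2)}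

/-- A bijection with the anisotropic vectors respecting conjugation gives an isomorphism. -/
theorem orth_of_points (hQ : Q.polarBilin.Nondegenerate) (hι : Fintype.card ι ≠ 4)
    (h1 : 1 ≤ Fintype.card ι) (hG : Good D) (φ : G → (ι → ZMod 2))
    (hbij : Set.BijOn φ D {v | Q v = 1})
    (hconj : ∀ a ∈ D, ∀ b ∈ D, φ (a * b * a) = φ b + polar Q (φ b) (φ a) • φ a)
    (hsep : ∀ u w, (∀ v, Q v = 1 → polar Q u v = polar Q w v) → u = w) :
    ∃ e : G ≃* ↥(Cfsg.isometryGroup (ZMod 2) ⇑Q),
      e '' D = {g : ↥(Cfsg.isometryGroup (ZMod 2) ⇑Q) |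
        (((g : Matrix.GeneralLinearGroup ι (ZMod 2)) : Matrix ι ι (ZMod 2)) - 1).rank = 1} := by
  have hne : ∀ a ∈ D, Q (φ a) ≠ 0 := fun a ha => by
    rw [show Q (φ a) = 1 from hbij.mapsTo ha]; exact one_ne_zero
  have hcls := TransvecTwo.isClass hQ hι h1
  have hZ : Subgroup.center (O Q) = ⊥ := by
    rw [eq_bot_iff]
    intro g hg
    rw [Subgroup.mem_bot]
    have hfix : ∀ v, Q v = 1 → app g v = v := fun v hv => by
      have hv0 : Q v ≠ 0 := hv ▸ one_ne_zero
      have e : refl Q (app g v) = refl Q v := by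
        rw [← refl_conj, ← Subgroup.mem_center_iff.1 hg (refl Q v), mul_inv_cancel_right]
      -- the moved space of a transvection is the line of its centre
      obtain ⟨y, hy⟩ := exists_polar_eq_one hQ (v := v) fun h => hv0 (by rw [h, QuadraticMap.map_zero])
      have h2 := congrArg (fun t : O Q => app t y) e
      simp only [TransvecTwo.app_refl_add hv0,
        TransvecTwo.app_refl_add (v := app g v) (by rwa [Q_app]), add_right_inj] at h2
      rw [polar_comm (⇑Q) y v, hy, one_smul] at h2
      rcases (show ∀ z : ZMod 2, z = 0 ∨ z = 1 by decide) (polar Q y (app g v)) with h | h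
      · rw [h, zero_smul] at h2
        exact absurd (by rw [← h2, QuadraticMap.map_zero]) hv0
      · rwa [h, one_smul] at h2
    refine ext_app fun y => ?_
    rw [app_one]
    refine hsep _ _ fun v hv => ?_
    conv_lhs => rw [← hfix v hv]
    rw [polar_app]
  suffices h : Set.BijOn (fun a => refl Q (φ a)) D _ ∧ ∀ a ∈ D, ∀ b ∈ D,
      refl Q (φ (a * b * a)) = refl Q (φ a) * refl Q (φ b) * refl Q (φ a) by
    obtain ⟨e, -, he⟩ := Uniq.exists_mulEquiv hG.group (group_of_class hcls) hG.triv hZ h.1 h.2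
    exact ⟨e, he⟩
  refine ⟨?_, ?_⟩
  · refine ⟨fun a ha => (TransvecTwo.rank_one_iff hQ _).2 ⟨φ a, hne a ha, rfl⟩, ?_, ?_⟩
    · intro a ha b hb h
      refine hbij.injOn ha hb ?_
      have h' : refl Q (φ a) = refl Q (φ b) := h
      obtain ⟨y, hy⟩ := exists_polar_eq_one hQ (v := φ a)
        fun k => hne a ha (by rw [k, QuadraticMap.map_zero])
      have h2 := congrArg (fun t : O Q => app t y) h'
      simp only [TransvecTwo.app_refl_add (hne a ha), TransvecTwo.app_refl_add (hne b hb),
        add_right_inj] at h2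
      rw [polar_comm (⇑Q) y (φ a), hy, one_smul] at h2
      rcases (show ∀ z : ZMod 2, z = 0 ∨ z = 1 by decide) (polar Q y (φ b)) with k | k
      · rw [k, zero_smul] at h2
        exact absurd (by rw [h2, QuadraticMap.map_zero]) (hne a ha)
      · rwa [k, one_smul] at h2
    · intro g hg
      obtain ⟨v, hv, rfl⟩ := (TransvecTwo.rank_one_iff hQ g).1 hg
      obtain ⟨a, ha, rfl⟩ := hbij.surjOn (show v ∈ {v | Q v = 1} from TransvecTwo.eq_one_of_ne hv)
      exact ⟨a, ha, rfl⟩
  · intro a ha b hb
    show refl Q (φ (a * b * a)) = refl Q (φ a) * refl Q (φ b) * refl Q (φ a)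
    have h := refl_conj (refl Q (φ a)) (φ b)
    rw [refl_inv] at h
    rw [h, TransvecTwo.app_refl_add (hne a ha), hconj a ha b hb]

end CfsgLib.ThreeTrans.Classif
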