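import Mathlib
import Cfsg.Agent.Lib.ThreeTrans.Classif.MuSet
import Cfsg.Agent.Lib.ThreeTrans.Classif.Counting
import Cfsg.Agent.Lib.ThreeTrans.Classif.OrthModel
import Cfsg.Agent.Lib.KnownSimple.QuadTwo

/-!
A symplectic class one level down gives an orthogonal class over two elements.
-/

set_option autoImplicit false

namespace CfsgLib.ThreeTrans.Classif

open CfsgLib.ThreeTrans
open CfsgLib.ThreeTrans.LocalSymThree (nbr)
open CfsgLib.KnownSimple.QuadTwo

universe u v w

namespace Symp

section quadric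

variable {Y : Type v} [Group Y] {E : Set Y} {W : Type w} [AddCommGroup W] [Module (ZMod 2) W]
  {B : W →ₗ[ZMod 2] W →ₗ[ZMod 2] ZMod 2} {ψ : Y → W}

theorem zcases (z : ZMod 2) : z = 0 ∨ z = 1 := by revert z; decide

theorem zne {z : ZMod 2} : z ≠ 0 ↔ z = 1 := by revert z; decide

theorem vadd_self (u : W) : u + u = 0 := ZModModule.add_self u

theorem eq_of_add_eq_zero {u z : W} (h : u + z = 0) : u = z := by
  rw [← add_zero u, ← vadd_self z, ← add_assoc, h, zero_add]

theorem comm_symm (hE : SympPts E B ψ) (u z : W) : B u z = B z u := by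
  have h := hE.alt (u + z)
  simp only [map_add, LinearMap.add_apply, hE.alt, zero_add, add_zero] at h
  exact (CharTwo.add_eq_zero.1 (by rwa [add_comm] at h))

/-- A vector orthogonal to the perp of `a` is `0` or `a`. -/
theorem perp_perp (hE : SympPts E B ψ) {a x : W} (ha : a ≠ 0)
    (h : ∀ z, B a z = 0 → B x z = 0) : x = 0 ∨ x = a := by
  obtain ⟨p, hp⟩ : ∃ p, B a p = 1 := by
    by_contra! hno
    exact ha (hE.sep a fun z => by rcases zcases (B a z) with h | h <;> [exact h; exact absurd h (hno z)])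
  have key : x + B x p • a = 0 := by
    refine hE.sep _ fun z => ?_
    have h1 := h (z + B a z • p) (by
      simp only [map_add, map_smul, hp, smul_eq_mul, mul_one]; exact CharTwo.add_self_eq_zero _)
    simp only [map_add, map_smul, smul_eq_mul] at h1
    simp only [map_add, LinearMap.add_apply, map_smul, LinearMap.smul_apply, smul_eq_mul]
    rw [mul_comm]
    exact h1
  rcases zcases (B x p) with h1 | h1
  · rw [h1, zero_smul, add_zero] at key
    exact Or.inl key
  · rw [h1, one_smul] at key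
    exact Or.inr (eq_of_add_eq_zero key)

/-- The members commuting with `a`, as vectors. -/
theorem mem_nbr_iff (hE : SympPts E B ψ) {a e : Y} (ha : a ∈ E) :
    e ∈ nbr E a ↔ e ∈ E ∧ ψ e ≠ ψ a ∧ B (ψ a) (ψ e) = 0 :=
  ⟨fun h => ⟨h.1, fun k => h.2.1 (hE.bij.injOn h.1 ha k), (hE.comm a ha e h.1).1 h.2.2⟩,
    fun h => ⟨h.1, fun k => h.2.1 (k ▸ rfl), (hE.comm a ha e h.1).2 h.2.2⟩⟩

theorem ne_zero (hE : SympPts E B ψ) {a : Y} (ha : a ∈ E) : ψ a ≠ 0 := hE.bij.mapsTo ha

/-- Two members commuting with `a` have the same such members commuting with them iff they are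
equal or add up to `a`. -/
theorem twins_iff (hE : SympPts E B ψ) {a u z : Y} (ha : a ∈ E) (hu : u ∈ nbr E a) (hz : z ∈ nbr E a) :
    (∀ e ∈ nbr E a, (Commute u e ↔ Commute z e)) ↔ u = z ∨ ψ u + ψ z = ψ a := by
  have hu' := (mem_nbr_iff hE ha).1 hu
  have hz' := (mem_nbr_iff hE ha).1 hz
  constructor
  · intro h
    have key : ∀ y, B (ψ a) y = 0 → B (ψ u + ψ z) y = 0 := by
      intro y hy
      simp only [map_add, LinearMap.add_apply]
      by_cases h0 : y = 0
      · simp [h0]
      by_cases h1 : y = ψ a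
      · rw [h1, comm_symm hE (ψ u), comm_symm hE (ψ z), hu'.2.2, hz'.2.2, add_zero]
      obtain ⟨e, he, rfl⟩ := hE.bij.surjOn h0
      have hh := h e ((mem_nbr_iff hE ha).2 ⟨he, h1, hy⟩)
      rw [hE.comm u hu.1 e he, hE.comm z hz.1 e he] at hh
      rcases zcases (B (ψ u) (ψ e)) with k | k <;> rcases zcases (B (ψ z) (ψ e)) with k' | k' <;>
        simp_all [CharTwo.add_self_eq_zero]
    rcases perp_perp hE (ne_zero hE ha) key with h1 | h1
    · exact Or.inl (hE.bij.injOn hu.1 hz.1 (eq_of_add_eq_zero h1))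
    · exact Or.inr h1
  · rintro (rfl | h) e he
    · exact Iff.rfl
    rw [hE.comm u hu.1 e he.1, hE.comm z hz.1 e he.1,
      show ψ z = ψ u + ψ a by rw [← h, ← add_assoc, vadd_self, zero_add],
      map_add, LinearMap.add_apply, ((mem_nbr_iff hE ha).1 he).2.2, add_zero]

variable {S : Set Y} {m : ℕ}

/-- Off `a`, exactly one of two vectors perp to `a` differing by `a` comes from `S`. -/
theorem pair_one (hE : SympPts E B ψ) (hS : MuData E S m) {a y z : Y} (ha : a ∈ S) (hy : y ∈ nbr E a)
    (hz : z ∈ E) (hyz : ψ z = ψ y + ψ a) : (y ∈ S ↔ z ∉ S) := by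
  have haE := hS.sub ha
  have hy' := (mem_nbr_iff hE haE).1 hy
  have hzn : z ∈ nbr E a := by
    refine (mem_nbr_iff hE haE).2 ⟨hz, fun k => ne_zero hE hy.1 ?_, ?_⟩
    · rw [hyz] at k; simpa using k
    · rw [hyz, map_add, hy'.2.2, hE.alt, add_zero]
  have hne : y ≠ z := fun k => ne_zero hE haE (by rw [← k] at hyz; simpa using hyz)
  obtain ⟨p, hpE, hap, θ, hθ, hθc, -, hθS⟩ := hS.swap a ha
  obtain ⟨y', hy'n, rfl⟩ := hθ.surjOn hy
  obtain ⟨z', hz'n, rfl⟩ := hθ.surjOn hzn
  have htw : ψ y' + ψ z' = ψ a := by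
    refine ((twins_iff hE haE hy'n hz'n).1 fun e he => ?_).resolve_left fun k => hne (k ▸ rfl)
    rw [← hθc y' hy'n e he, ← hθc z' hz'n e he]
    exact (twins_iff hE haE hy hzn).2 (Or.inr (by rw [hyz, ← add_assoc, vadd_self, zero_add])) _ (hθ.mapsTo he)
  have hmem : ∀ t ∈ nbr E a, (θ t ∈ S ↔ B (ψ t) (ψ p) = 0) := by
    intro t ht
    constructor
    · intro h
      obtain ⟨t', ht', e⟩ := hθS.le ⟨h, hθ.mapsTo ht⟩
      rw [← hE.comm t ht.1 p hpE, ← hθ.injOn ht'.1 ht e]
      exact ht'.2.2.2.symm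
    · intro h
      refine (hθS.ge ⟨t, ⟨ht, ht.1, fun k => hap (k ▸ ht.2.2), ((hE.comm t ht.1 p hpE).2 h).symm⟩,
        rfl⟩).1
  rw [hmem y' hy'n, hmem z' hz'n,
    show ψ z' = ψ y' + ψ a by rw [← htw, ← add_assoc, vadd_self, zero_add],
    map_add, LinearMap.add_apply, zne.1 fun k => hap ((hE.comm a haE p hpE).2 k)]
  rcases zcases (B (ψ y') (ψ p)) with k | k <;> rw [k] <;> decide

open Classical in
/-- The indicator of the image of `S`. -/
noncomputable def ind (ψ : Y → W) (S : Set Y) (z : W) : ZMod 2 := if z ∈ ψ '' S then 1 else 0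

theorem ind_eq_one (hE : SympPts E B ψ) (hS : MuData E S m) {e : Y} (he : e ∈ E) :
    ind ψ S (ψ e) = 1 ↔ e ∈ S := by
  unfold ind
  split_ifs with h
  · obtain ⟨e', he', k⟩ := h
    exact iff_of_true rfl (hE.bij.injOn (hS.sub he') he k ▸ he')
  · exact iff_of_false (by decide) fun k => h ⟨e, k, rfl⟩

theorem ind_zero (hE : SympPts E B ψ) (hS : MuData E S m) : ind ψ S 0 = 0 := by
  unfold ind
  rw [if_neg]
  rintro ⟨e, he, k⟩
  exact ne_zero hE (hS.sub he) k

/-- A vector perp to `a` and neither `0` nor `a`: one of it and its translate by `a` is in `S`. -/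
theorem ind_shift (hE : SympPts E B ψ) (hS : MuData E S m) {a z : W} (ha : ind ψ S a = 1)
    (hz : z ≠ 0) (hza : z ≠ a) (h : B a z = 0) : ind ψ S (z + a) = ind ψ S z + 1 := by
  have ha' : a ∈ ψ '' S := by
    by_contra k
    simp [ind, k] at ha
  obtain ⟨a, haS, rfl⟩ := ha'
  obtain ⟨y, hy, rfl⟩ := hE.bij.surjOn hz
  obtain ⟨z, hzE, hz'⟩ := hE.bij.surjOn (show ψ y + ψ a ≠ 0 from fun k => hza (eq_of_add_eq_zero k))
  have key := pair_one hE hS haS ((mem_nbr_iff hE (hS.sub haS)).2 ⟨hy, hza, h⟩) hzE hz'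
  rw [← hz']
  rw [← ind_eq_one hE hS hy, ← ind_eq_one hE hS hzE] at key
  rcases zcases (ind ψ S (ψ y)) with k | k <;> rcases zcases (ind ψ S (ψ z)) with k' | k' <;>
    rw [k, k'] at key ⊢ <;> revert key <;> decide

/-- Two vectors of `S` which do not commute have their sum in `S`. -/
theorem ind_sum (hE : SympPts E B ψ) (hS : MuData E S m) {a b : W} (ha : ind ψ S a = 1)
    (hb : ind ψ S b = 1) (h : B a b = 1) : ind ψ S (a + b) = 1 := by
  have hmem : ∀ {z : W}, ind ψ S z = 1 → z ∈ ψ '' S := fun {z} hz => by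
    by_contra k
    simp [ind, k] at hz
  obtain ⟨x, hx, rfl⟩ := hmem ha
  obtain ⟨y, hy, rfl⟩ := hmem hb
  unfold ind
  rw [if_pos]
  exact ⟨x * y * x, hS.closed x hx y hy, by
    rw [hE.conj x (hS.sub hx) y (hS.sub hy), h, one_smul, add_comm]⟩

/-- The indicator is a quadratic form polarizing to `B`. -/
theorem ind_add (hE : SympPts E B ψ) (hS : MuData E S m)
    (hdim : ∀ a b : W, ∃ p, p ≠ 0 ∧ B a p = 0 ∧ B b p = 0) (u z : W) :
    ind ψ S (u + z) = ind ψ S u + ind ψ S z + B u z := by
  set q := ind ψ S with hq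
  have h0 : q 0 = 0 := ind_zero hE hS
  have hsym := comm_symm hE
  have hsum : ∀ {a b : W}, q a = 1 → q b = 1 → B a b = 1 → q (a + b) = 1 := ind_sum hE hS
  have hsh : ∀ {a z : W}, q a = 1 → z ≠ 0 → z ≠ a → B a z = 0 → q (z + a) = q z + 1 := ind_shift hE hS
  obtain ⟨a₀, ha₀⟩ := hS.ne
  have ha₀' : q (ψ a₀) = 1 := (ind_eq_one hE hS (hS.sub ha₀)).2 ha₀
  -- every vector is perp to some vector of `S`
  have hperp : ∀ x : W, ∃ a, q a = 1 ∧ B a x = 0 := by
    intro x
    by_contra! hno
    have hall : ∀ a, q a = 1 → B a x = 1 := fun a ha => zne.1 (hno a ha)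
    have hax := hall _ ha₀'
    set a := ψ a₀
    obtain ⟨p, hp0, hap, hxp⟩ := hdim a x
    obtain ⟨r, hr⟩ : ∃ r, B p r = 1 := by
      by_contra! k
      exact hp0 (hE.sep p fun z => by rcases zcases (B p z) with h | h <;> [exact h; exact absurd h (k z)])
    set p' := r + (B r x • a + B r a • x) with hp'
    have e1 : B a p' = 0 := by
      simp only [hp', map_add, map_smul, smul_eq_mul, hE.alt, mul_zero, hax, mul_one, zero_add, hsym a r]
      exact CharTwo.add_self_eq_zero _
    have e2 : B x p' = 0 := by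
      simp only [hp', map_add, map_smul, smul_eq_mul, hE.alt, mul_zero, hsym x a, hax, mul_one, add_zero,
        hsym x r]
      exact CharTwo.add_self_eq_zero _
    have e3 : B p p' = 1 := by
      simp only [hp', map_add, map_smul, smul_eq_mul, hsym p a, hap, hsym p x, hxp, hr, mul_zero, add_zero]
    have key : ∀ s, B a s = 0 → B x s = 0 → s ≠ 0 → q (s + a) = 1 := by
      intro s h1 h2 h3
      have hsa : s ≠ a := fun k => zero_ne_one (α := ZMod 2) (by rw [← h2, k, hsym x a, hax])
      rw [hsh ha₀' h3 hsa h1]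
      rcases zcases (q s) with k | k
      · rw [k]; decide
      · rw [← hsym s x, hall s k] at h2
        exact absurd h2 one_ne_zero
    have hp'0 : p' ≠ 0 := fun k => by rw [k, map_zero] at e3; exact zero_ne_one e3
    have q1 := key p hap hxp hp0
    have q2 := key p' e1 e2 hp'0
    have hB : B (p + a) (p' + a) = 1 := by
      simp only [map_add, LinearMap.add_apply, e3, e1, hE.alt, hsym p a, hap, add_zero]
    have q3 := hall _ (hsum q1 q2 hB)
    rw [show p + a + (p' + a) = p + p' by rw [add_add_add_comm, vadd_self, add_zero],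
      map_add, LinearMap.add_apply, hsym p x, hxp, hsym p' x, e2, add_zero] at q3
    exact zero_ne_one q3
  rcases eq_or_ne u 0 with rfl | hu
  · simp [h0]
  rcases eq_or_ne z 0 with rfl | hz
  · simp [h0]
  rcases eq_or_ne u z with rfl | huz
  · rw [vadd_self, h0, hE.alt, add_zero, CharTwo.add_self_eq_zero]
  rcases zcases (B u z) with hB | hB
  · -- commuting
    rw [hB, add_zero]
    rcases zcases (q u) with hqu | hqu <;> rcases zcases (q z) with hqz | hqz
    · rcases zcases (q (u + z)) with k | k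
      · rw [k, hqu, hqz, add_zero]
      · have := hsh k hu (fun e => hz (by simpa using e.symm)) (by
          rw [map_add, LinearMap.add_apply, hE.alt, hsym z u, hB, add_zero])
        rw [← add_assoc, vadd_self, zero_add, hqz, hqu] at this
        exact absurd this (by decide)
    · rw [hsh hqz hu huz (by rw [hsym, hB]), hqu, hqz]
    · rw [add_comm u z, hsh hqu hz huz.symm hB, hqz, hqu, add_comm]
    · rw [hsh hqz hu huz (by rw [hsym, hB]), hqu, hqz]
  · -- not commuting
    rw [hB]
    have hBz : B z u = 1 := by rw [hsym, hB]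
    have hcyc : B u (u + z) = 1 := by rw [map_add, hE.alt, hB, zero_add]
    rcases zcases (q u) with hqu | hqu <;> rcases zcases (q z) with hqz | hqz
    · rw [hqu, hqz, add_zero, zero_add]
      by_contra hne
      have hqs : q (u + z) = 0 := (zcases _).resolve_right hne
      obtain ⟨a, ha, hau⟩ := hperp u
      have hua : u ≠ a := fun k => by rw [k, ha] at hqu; exact one_ne_zero hqu
      have h1 := hsh ha hu hua hau
      rw [hqu, zero_add] at h1
      rcases zcases (B a z) with haz | haz
      · have hza : z ≠ a := fun k => by rw [k, ha] at hqz; exact one_ne_zero hqz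
        have h2 := hsh ha hz hza haz
        rw [hqz, zero_add] at h2
        have h3 := hsum h1 h2 (by
          simp only [map_add, LinearMap.add_apply, hE.alt, hsym u a, hau, haz, hB, add_zero])
        rw [add_add_add_comm, vadd_self, add_zero] at h3
        exact hne h3
      · -- now `z + a` is outside, and two steps lead to the sum
        have hza : q (z + a) = 0 := by
          refine (zcases _).resolve_right fun k => ?_
          have := hsum ha k (by rw [map_add, haz, hE.alt, add_zero])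
          rw [add_left_comm, vadd_self, add_zero, hqz] at this
          exact zero_ne_one this
        have hBuz : B (u + a) z = 0 := by
          rw [map_add, LinearMap.add_apply, hB, haz]; decide
        have h2 := hsh h1 hz (fun k => by rw [k, h1] at hqz; exact one_ne_zero hqz) hBuz
        rw [hqz, zero_add] at h2
        have h3 := hsum ha h2 (by
          simp only [map_add, haz, hau, hE.alt, add_zero])
        rw [show a + (z + (u + a)) = u + z by
          rw [← add_assoc z, add_comm a, add_assoc, vadd_self, add_zero, add_comm]] at h3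
        exact hne h3
    · rw [hqu, hqz, zero_add]
      refine (zcases _).resolve_right fun k => ?_
      have := hsum k hqz (by rw [map_add, LinearMap.add_apply, hE.alt, hB, add_zero])
      rw [add_assoc, vadd_self, add_zero, hqu] at this
      exact zero_ne_one this
    · rw [hqu, hqz, add_zero]
      refine (zcases _).resolve_right fun k => ?_
      have := hsum hqu k hcyc
      rw [← add_assoc, vadd_self, zero_add, hqz] at this
      exact zero_ne_one this
    · rw [hsum hqu hqz hB, hqu, hqz]; decide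

end quadric

section count

variable {Y : Type v} [Group Y] {E : Set Y} {n : ℕ} {ψ : Y → V n}

theorem exists_perp_pair (hn : 2 ≤ n) (a b : V n) : ∃ p, p ≠ 0 ∧ B n a p = 0 ∧ B n b p = 0 := by
  let f : V n → ZMod 2 × ZMod 2 := fun p => (B n a p, B n b p)
  obtain ⟨p, p', hne, h⟩ := Fintype.exists_ne_map_eq_of_card_lt f (by
    simp only [Fintype.card_prod, ZMod.card, Fintype.card_fun, Fintype.card_sum, Fintype.card_fin]
    calc 2 * 2 < 2 ^ 4 := by norm_num
      _ ≤ 2 ^ (n + n) := Nat.pow_le_pow_right two_pos (by omega))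
  simp only [f, Prod.mk.injEq] at h
  exact ⟨p + p', fun k => hne (eq_of_add_eq_zero k), by rw [map_add, h.1, zadd], by rw [map_add, h.2, zadd]⟩

theorem card_V : Fintype.card (V n) = 4 ^ n := by
  simp only [Fintype.card_fun, Fintype.card_sum, Fintype.card_fin, ZMod.card]
  rw [← two_mul, pow_mul]
  norm_num

theorem ncard_points (hE : SympPts E (B n) ψ) : E.ncard + 1 = 4 ^ n := by
  have h : (ψ '' E).ncard = E.ncard := Set.InjOn.ncard_image hE.bij.injOn
  rw [hE.bij.image_eq, show {z : V n | z ≠ 0} = ({0} : Set (V n))ᶜ from rfl, Set.ncard_compl,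
    Set.ncard_singleton, Nat.card_eq_fintype_card, card_V] at h
  have : 0 < 4 ^ n := pow_pos (by norm_num) n
  omega

theorem ncard_nbr (hE : SympPts E (B n) ψ) {a : Y} (ha : a ∈ E) :
    2 * ((nbr E a).ncard + 2) = 4 ^ n := by
  classical
  have h0 := ne_zero hE ha
  obtain ⟨p, hp⟩ : ∃ p, B n (ψ a) p = 1 := by
    by_contra! hno
    exact h0 (hE.sep _ fun z => (zcases _).resolve_right (hno z))
  have himg : ψ '' nbr E a = {z | B n (ψ a) z = 0} \ {0, ψ a} := by
    ext z
    simp only [Set.mem_diff, Set.mem_insert_iff, Set.mem_singleton_iff, not_or, Set.mem_ofPred_eq]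
    constructor
    · rintro ⟨e, he, rfl⟩
      have := (mem_nbr_iff hE ha).1 he
      exact ⟨this.2.2, ne_zero hE he.1, this.2.1⟩
    · rintro ⟨h1, h2, h3⟩
      obtain ⟨e, he, rfl⟩ := hE.bij.surjOn h2
      exact ⟨e, (mem_nbr_iff hE ha).2 ⟨he, h3, h1⟩, rfl⟩
  have hcard : 2 * ({z | B n (ψ a) z = 0} : Set (V n)).ncard = 4 ^ n := by
    have hc : ({z | B n (ψ a) z = 0} : Set (V n))ᶜ = (fun z => z + p) '' {z | B n (ψ a) z = 0} := by
      ext z
      simp only [Set.mem_compl_iff, Set.mem_ofPred_eq, Set.mem_image]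
      constructor
      · intro h
        refine ⟨z + p, ?_, by rw [add_assoc, vadd_self, add_zero]⟩
        rw [map_add, zne.1 h, hp, zadd]
      · rintro ⟨y, hy, rfl⟩
        rw [map_add, hy, hp, zero_add]
        exact one_ne_zero
    have h := Set.ncard_add_ncard_compl ({z | B n (ψ a) z = 0} : Set (V n))
    rw [hc, Set.ncard_image_of_injective _ (fun x y h => add_right_cancel h),
      Nat.card_eq_fintype_card, card_V] at h
    omega
  rw [← Set.InjOn.ncard_image (hE.bij.injOn.mono fun e he => he.1), himg] at *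
  have hsub : ({0, ψ a} : Set (V n)) ⊆ {z | B n (ψ a) z = 0} := by
    rintro z (rfl | rfl)
    exacts [map_zero _, hE.alt _]
  have h := Set.ncard_diff_add_ncard_of_subset hsub (Set.toFinite _)
  rw [Set.ncard_pair (Ne.symm h0)] at h
  omega

variable {S : Set Y} {m : ℕ}

theorem gauss_eq {X : Type*} [Fintype X] (q : X → ZMod 2) :
    gauss q = (Fintype.card X : ℤ) - 2 * ({z | q z = 1} : Set X).ncard := by
  classical
  have h : ∀ z, chi (q z) = 1 - 2 * (if q z = 1 then 1 else 0 : ℤ) := by
    intro z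
    rcases zcases (q z) with h | h <;> rw [h] <;> decide
  rw [gauss, Finset.sum_congr rfl fun z _ => h z, Finset.sum_sub_distrib, ← Finset.mul_sum,
    Finset.sum_boole, Set.ncard_eq_toFinset_card']
  simp

/-- The size of `S`. -/
theorem size_sq (hn : 2 ≤ n) (hE : SympPts E (B n) ψ) (hS : MuData E S m) :
    ((4 : ℤ) ^ n - 2 * m) ^ 2 = 4 ^ n := by
  have hq : HasPolar (ind ψ S) := fun u z => by
    rw [polar_eq, ind_add hE hS (exists_perp_pair hn)]
  obtain ⟨w, hw⟩ := hq.exists_shift
  have hone : {z | ind ψ S z = 1} = ψ '' S := by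
    ext z
    simp only [Set.mem_ofPred_eq, ind]
    split_ifs with h <;> simp [h]
  have h := gauss_eq (ind ψ S)
  rw [hone, Set.InjOn.ncard_image (hE.bij.injOn.mono hS.sub), hS.card, card_V] at h
  rw [show gauss (ind ψ S) = chi (Q n w) * 2 ^ n by rw [hw]; exact gauss_shift w] at h
  push_cast at h
  rw [← h, mul_pow, ← pow_mul, mul_comm n 2, pow_mul]
  rcases zcases (Q n w) with k | k <;> rw [k] <;> norm_num [chi]

end count

section extend

variable {G : Type u} [Group G] [Finite G] {D : Set G} {Y : Type v} [Group Y] {E : Set Y} {f : G → Y}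
  {n : ℕ} {ψ : Y → V n}

/-- Two more coordinates. -/
def emb (z : V n) (x y : ZMod 2) : V (n + 1) :=
  Sum.elim (Fin.snoc (fun i => z (.inl i)) x) (Fin.snoc (fun i => z (.inr i)) y)

/-- The first coordinates. -/
def proj (v : V (n + 1)) : V n := Sum.elim (fun i => v (.inl i.castSucc)) (fun i => v (.inr i.castSucc))

theorem proj_emb (z : V n) (x y : ZMod 2) : proj (emb z x y) = z := by
  funext j; cases j <;> simp [proj, emb]

theorem emb_inl (z : V n) (x y : ZMod 2) : emb z x y (.inl (Fin.last n)) = x := by simp [emb]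

theorem emb_inr (z : V n) (x y : ZMod 2) : emb z x y (.inr (Fin.last n)) = y := by simp [emb]

theorem proj_add (u v : V (n + 1)) : proj (u + v) = proj u + proj v := by
  funext j; cases j <;> rfl

theorem emb_surj (v : V (n + 1)) : emb (proj v) (v (.inl (Fin.last n))) (v (.inr (Fin.last n))) = v := by
  funext j
  rcases j with i | i <;> induction i using Fin.lastCases <;> simp [emb, proj]

theorem B_succ (u v : V (n + 1)) : B (n + 1) u v = B n (proj u) (proj v) +
    (u (.inl (Fin.last n)) * v (.inr (Fin.last n)) + u (.inr (Fin.last n)) * v (.inl (Fin.last n))) := by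
  rw [B_apply, B_apply, Fin.sum_univ_castSucc]
  rfl

theorem B_emb (z z' : V n) (x y x' y' : ZMod 2) :
    B (n + 1) (emb z x y) (emb z' x' y') = B n z z' + (x * y' + y * x') := by
  rw [B_succ, proj_emb, proj_emb, emb_inl, emb_inr, emb_inl, emb_inr]

/-- The form on the larger space. -/
def big (q : V n → ZMod 2) (v : V (n + 1)) : ZMod 2 :=
  q (proj v) + (v (.inl (Fin.last n)) * v (.inr (Fin.last n)) + v (.inl (Fin.last n)) + v (.inr (Fin.last n)))

theorem big_emb (q : V n → ZMod 2) (z : V n) (x y : ZMod 2) :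
    big q (emb z x y) = q z + (x * y + x + y) := by
  rw [big, proj_emb, emb_inl, emb_inr]

theorem big_hasPolar {q : V n → ZMod 2} (hq : ∀ u z, q (u + z) = q u + q z + B n u z) :
    HasPolar (big q) := fun u v => by
  rw [polar_eq, B_succ]
  simp only [big, proj_add, hq, Pi.add_apply]
  ring

/-- A form with the polarization of `quadFormPlus`, as a quadratic form. -/
def toQuad {q : V n → ZMod 2} (hq : HasPolar q) : QuadraticForm (ZMod 2) (V n) :=
  QuadraticMap.ofPolar q (fun a x => by rw [hq.smul, zself, smul_eq_mul])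
    (fun x x' y => by
      simp only [QuadraticMap.polar, hq.add', map_add, LinearMap.add_apply]; ring)
    (fun a x y => by
      simp only [QuadraticMap.polar, hq.add', hq.smul, map_smul, LinearMap.smul_apply, smul_eq_mul]
      ring)

theorem toQuad_apply {q : V n → ZMod 2} (hq : HasPolar q) (v : V n) : toQuad hq v = q v := rfl

theorem polar_toQuad {q : V n → ZMod 2} (hq : HasPolar q) (u v : V n) :
    QuadraticMap.polar (toQuad hq) u v = B n u v := by
  simp only [QuadraticMap.polar, toQuad_apply, hq.add']; ring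

/-- Points of the larger space for the whole class. -/
theorem exists_points (hG : Good D) {d : G} (C : Chart D d f E) (hn : 2 ≤ n) (hE : SympPts E (B n) ψ)
    {N k l m : ℕ} (P : Params D N k l m) (hm : 0 < m) :
    ∃ (q : V (n + 1) → ZMod 2) (φ : G → V (n + 1)), HasPolar q ∧ Set.BijOn φ D {v | q v = 1} ∧
      (∀ a ∈ D, ∀ b ∈ D, φ (a * b * a) = φ b + B (n + 1) (φ a) (φ b) • φ a) ∧
      (∀ u w, (∀ v, q v = 1 → B (n + 1) u v = B (n + 1) w v) → u = w) := by
  have hd := C.mem
  have hD := hG.set.hD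
  have hc := hD.closed
  have hs := hc.set
  obtain ⟨c, hcD, hdc⟩ := exists_not_commute hD.gen hc hD.class_eq hD.two hd
  set S := f '' (nbr D d ∩ nbr D c) with hSdef
  have hS : MuData E S m := muData hG P hm C hcD hdc
  set qs := ind ψ S with hqs
  have hadd := ind_add hE hS (exists_perp_pair hn)
  set q := big qs with hqdef
  have hq : HasPolar q := big_hasPolar hadd
  have hz0 : qs 0 = 0 := ind_zero hE hS
  -- the parameters
  obtain ⟨e₀, he₀⟩ := hS.ne
  have hdeg : ∀ e ∈ E, (nbr E e).ncard = (nbr E e₀).ncard := fun e he => by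
    have h1 := ncard_nbr hE he; have h2 := ncard_nbr hE (hS.sub he₀); omega
  obtain ⟨hk, hl⟩ := P.of_chart hG C hdeg
  have hk' : k + 1 = 4 ^ n := hk ▸ ncard_points hE
  have hl' : 2 * (l + 2) = 4 ^ n := hl ▸ ncard_nbr hE (hS.sub he₀)
  have hA : Additive D := by
    refine additive_of_params hG P ?_
    have h1 := P.card_far hd
    have h2 := P.mul_far hd
    have h3 := size_sq hn hE hS
    obtain ⟨A, hA'⟩ : ∃ A : ℕ, 4 ^ n = 2 * A := ⟨l + 2, hl'.symm⟩
    rw [show k - 1 - l = A by omega] at h2
    rw [show (4 : ℤ) ^ n = 2 * (A : ℤ) by exact_mod_cast hA'] at h3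
    have h2' : ((far D d).ncard : ℤ) * m = k * A := by exact_mod_cast h2
    have hkA : (k : ℤ) = 2 * A - 1 := by omega
    rw [hkA] at h2'
    have : ((far D d).ncard : ℤ) + 2 * m = 4 * A := by
      have hm0 : 2 * (m : ℤ) ≠ 0 := mul_ne_zero two_ne_zero (by exact_mod_cast hm.ne')
      apply mul_right_cancel₀ hm0
      linear_combination 2 * h2' + h3
    omega
  -- vectors on a generating set
  set T : Set G := insert c (insert d (nbr D d)) with hT
  classical
  let φ₀ : G → V (n + 1) := fun t =>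
    if t = c then emb 0 0 1 else if t = d then emb 0 1 0 else emb (ψ (f t)) (1 + qs (ψ (f t))) 0
  have hφc : φ₀ c = emb 0 0 1 := if_pos rfl
  have hcd : d ≠ c := fun e => hdc (e ▸ Commute.refl d)
  have hφd : φ₀ d = emb 0 1 0 := by simp [φ₀, hcd]
  have hφe : ∀ t ∈ nbr D d, φ₀ t = emb (ψ (f t)) (1 + qs (ψ (f t))) 0 := fun t ht => by
    simp [φ₀, ht.2.1, show t ≠ c from fun e => hdc (e ▸ ht.2.2)]
  have hrow : ∀ t ∈ nbr D d, row c t = 1 + qs (ψ (f t)) := fun t ht => by
    have key : qs (ψ (f t)) = 1 ↔ Commute c t := by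
      rw [ind_eq_one hE hS (C.bij.mapsTo ht)]
      constructor
      · rintro ⟨y, hy, e⟩
        rw [← (C.inj hy.1 ht).1 e]
        exact hy.2.2.2
      · intro h
        exact ⟨t, ⟨ht, ht.1, fun e => hdc (e ▸ ht.2.2), h⟩, rfl⟩
    rcases zcases (qs (ψ (f t))) with h | h
    · rw [h, add_zero, row_eq_one]; exact fun k => zero_ne_one (h.symm.trans (key.2 k))
    · rw [h, show (1 : ZMod 2) + 1 = 0 by decide, row_eq_zero]; exact key.1 h
  have hqT : ∀ t ∈ T, q (φ₀ t) = 1 := by
    rintro t (rfl | rfl | ht)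
    · rw [hφc, hqdef, big_emb, hz0]; decide
    · rw [hφd, hqdef, big_emb, hz0]; decide
    · rw [hφe t ht, hqdef, big_emb]
      rcases zcases (qs (ψ (f t))) with h | h <;> rw [h] <;> decide
  have hrowd : ∀ t ∈ nbr D d, row d t = 0 := fun t ht => row_eq_zero.2 ht.2.2
  have h0 : ∀ s ∈ T, ∀ t ∈ T, B (n + 1) (φ₀ s) (φ₀ t) = row s t := by
    rintro s (rfl | rfl | hs') t (rfl | rfl | ht)
    · rw [B_self, row_self]
    · rw [hφc, hφd, B_emb, row_eq_one.2 fun k => hdc k.symm]; simp
    · rw [hφc, hφe t ht, B_emb, hrow t ht]; simp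
    · rw [hφc, hφd, B_emb, row_eq_one.2 hdc]; simp
    · rw [B_self, row_self]
    · rw [hφd, hφe t ht, B_emb, hrowd t ht]; simp
    · rw [hφc, hφe s hs', B_emb, row_comm, hrow s hs']; simp
    · rw [hφd, hφe s hs', B_emb, row_comm, hrowd s hs']; simp
    · rw [hφe s hs', hφe t ht, B_emb]
      have h := hE.comm _ (C.bij.mapsTo hs') _ (C.bij.mapsTo ht)
      rw [C.comm s hs' t ht] at h
      rcases zcases (B n (ψ (f s)) (ψ (f t))) with k | k
      · rw [k, row_eq_zero.2 (h.2 k)]; simp
      · rw [k, row_eq_one.2 fun hh => zero_ne_one ((h.1 hh).symm.trans k)]; simp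
  have hspan : ∀ u w, (∀ t ∈ T, B (n + 1) u (φ₀ t) = B (n + 1) w (φ₀ t)) → u = w := by
    intro u w h
    have hd' := h d (Or.inr (Or.inl rfl))
    have hc' := h c (Or.inl rfl)
    rw [← emb_surj u, ← emb_surj w, hφd, B_emb, B_emb] at hd'
    rw [← emb_surj u, ← emb_surj w, hφc, B_emb, B_emb] at hc'
    simp only [map_zero, mul_zero, mul_one, zero_add, add_zero] at hd' hc'
    rw [← emb_surj u, ← emb_surj w, hd', hc']
    congr 1
    refine eq_of_add_eq_zero (hE.sep _ fun z => ?_)
    by_cases hz : z = 0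
    · rw [hz, map_zero]
    obtain ⟨e, he, rfl⟩ := hE.bij.surjOn hz
    obtain ⟨t, ht, rfl⟩ := C.bij.surjOn he
    have := h t (Or.inr (Or.inr ht))
    rw [← emb_surj u, ← emb_surj w, hφe t ht, B_emb, B_emb, hd', hc'] at this
    rw [map_add, LinearMap.add_apply, add_right_cancel this]
    exact zadd _
  obtain ⟨φ, hφ0, hφP, hφB, hφconj, hφinj⟩ := exists_vectors hD hA (T := T)
    (Set.insert_subset hcD (Set.insert_subset hd fun y hy => hy.1)) ⟨c, Or.inl rfl⟩
    (closure_base hG hd hcD hdc) (B (n + 1)) B_comm (fun v => q v = 1)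
    (fun u w hu hw h => by rw [hq.add', hu, hw, h]; decide) φ₀ hqT h0 (fun u w _ _ h => hspan u w h)
  have hconj' : ∀ a ∈ D, ∀ b ∈ D, φ (a * b * a) = φ b + B (n + 1) (φ a) (φ b) • φ a :=
    fun a ha b hb => by rw [hφconj a ha b hb, hφB a ha b hb]
  refine ⟨q, φ, hq, ⟨hφP, hφinj hG.noTwins, ?_⟩, hconj', fun u w h => hspan u w fun t ht => h _ (hqT t ht)⟩
  -- every such vector occurs
  intro v hv
  have hv' : q v = 1 := hv
  have hcv : φ c = emb 0 0 1 := by rw [hφ0 c (Or.inl rfl), hφc]
  have hdv : φ d = emb 0 1 0 := by rw [hφ0 d (Or.inr (Or.inl rfl)), hφd]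
  have hstep : ∀ {a b : G} {va vb : V (n + 1)}, a ∈ D → b ∈ D → φ a = va → φ b = vb →
      B (n + 1) va vb = 1 → vb + va ∈ φ '' D := fun {a b va vb} ha hb e1 e2 h =>
    ⟨a * b * a, conj_mem_left hc ha hb, by rw [hconj' a ha b hb, e1, e2, h, one_smul]⟩
  rw [← emb_surj v, hqdef, big_emb] at hv'
  rw [← emb_surj v]
  generalize proj v = z at hv' ⊢
  generalize v (Sum.inl (Fin.last n)) = x at hv' ⊢
  generalize v (Sum.inr (Fin.last n)) = y at hv' ⊢
  rcases eq_or_ne z 0 with rfl | hz
  · rw [hz0] at hv'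
    rcases zcases x with rfl | rfl <;> rcases zcases y with rfl | rfl
    · exact absurd hv' (by decide)
    · exact ⟨c, hcD, hcv⟩
    · exact ⟨d, hd, hdv⟩
    · have := hstep hd hcD hdv hcv (by rw [B_emb]; simp)
      convert this using 1
      funext j; rcases j with i | i <;> induction i using Fin.lastCases <;> simp [emb]
  obtain ⟨e, he, rfl⟩ := hE.bij.surjOn hz
  obtain ⟨t, ht, rfl⟩ := C.bij.surjOn he
  have htv : φ t = emb (ψ (f t)) (1 + qs (ψ (f t))) 0 := by rw [hφ0 t (Or.inr (Or.inr ht)), hφe t ht]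
  rcases zcases y with rfl | rfl
  · refine ⟨t, ht.1, htv.trans ?_⟩
    congr 1
    rcases zcases x with rfl | rfl <;> rcases zcases (qs (ψ (f t))) with k | k <;> rw [k] at hv' ⊢ <;>
      revert hv' <;> decide
  · have hq0 : qs (ψ (f t)) = 0 := by
      rcases zcases x with rfl | rfl <;> rcases zcases (qs (ψ (f t))) with k | k <;> rw [k] at hv' ⊢ <;>
        revert hv' <;> decide
    rw [hq0, add_zero] at htv
    have h1 := hstep hcD ht.1 hcv htv (by rw [B_emb]; simp)
    rw [show emb (ψ (f t)) 1 0 + emb 0 0 1 = emb (ψ (f t)) 1 1 by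
      funext j; rcases j with i | i <;> induction i using Fin.lastCases <;> simp [emb]] at h1
    rcases zcases x with rfl | rfl
    · obtain ⟨g, hg, hgv⟩ := h1
      have h2 := hstep hd hg hdv hgv (by rw [B_emb]; simp)
      convert h2 using 1
      funext j; rcases j with i | i <;> induction i using Fin.lastCases <;> simp [emb, CharTwo.add_self_eq_zero]
    · exact h1

/-- A symplectic class one level down: the class is orthogonal over two elements. -/
theorem _root_.CfsgLib.ThreeTrans.Classif.from_symp (hG : Good D) {d : G} (C : Chart D d f E)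
    (hn : 2 ≤ n) (hE : SympPts E (B n) ψ) {N k l m : ℕ} (P : Params D N k l m) (hm : 0 < m) :
    KindOPlus D (n + 1) ∧ 2 * D.ncard + 2 ^ (n + 1) = 4 ^ (n + 1) ∨ KindOMinus D n := by
  obtain ⟨q, φ, hq, hbij, hconj, hsep⟩ := exists_points hG C hn hE P hm
  obtain ⟨w, hw⟩ := hq.exists_shift
  -- move the form to a standard one
  have move : ∀ {ι : Type} [Fintype ι] [DecidableEq ι] (Qt : QuadraticForm (ZMod 2) (ι → ZMod 2))
      (g : V (n + 1) ≃ₗ[ZMod 2] (ι → ZMod 2)), Fintype.card ι = 2 * (n + 1) → (∀ v, q v = Qt (g v)) →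
      ∃ e : G ≃* ↥(Cfsg.isometryGroup (ZMod 2) ⇑Qt),
        e '' D = {x : ↥(Cfsg.isometryGroup (ZMod 2) ⇑Qt) |
          (((x : Matrix.GeneralLinearGroup ι (ZMod 2)) : Matrix ι ι (ZMod 2)) - 1).rank = 1} := by
    intro ι _ _ Qt g hcard hg
    have hpol : ∀ u v, QuadraticMap.polar Qt (g u) (g v) = B (n + 1) u v := fun u v => by
      simp only [QuadraticMap.polar, ← map_add g, ← hg, hq.add']; ring
    refine orth_of_points ?_ (by omega) (by omega) hG (fun a => g (φ a)) ⟨?_, ?_, ?_⟩ ?_ ?_
    · have key : ∀ x : ι → ZMod 2, (∀ y, QuadraticMap.polar Qt x y = 0) → x = 0 := by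
        intro x hx
        obtain ⟨u, rfl⟩ := g.surjective x
        rw [B_ext (w := u) (w' := 0) fun v => ?_, map_zero]
        rw [B_comm, ← hpol, map_zero]
        exact hx (g v)
      refine ⟨fun x hx => key x fun y => ?_, fun y hy => key y fun x => ?_⟩
      · have := hx y
        rwa [QuadraticMap.polarBilin_apply_apply] at this
      · have := hy x
        rw [QuadraticMap.polarBilin_apply_apply] at this
        rwa [QuadraticMap.polar_comm]
    · intro a ha
      show Qt (g (φ a)) = 1
      rw [← hg]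
      exact hbij.mapsTo ha
    · exact fun a ha b hb h => hbij.injOn ha hb (g.injective h)
    · intro x hx
      obtain ⟨u, rfl⟩ := g.surjective x
      obtain ⟨a, ha, rfl⟩ := hbij.surjOn (show u ∈ {v | q v = 1} from (hg u).trans hx)
      exact ⟨a, ha, rfl⟩
    · intro a ha b hb
      show g (φ (a * b * a)) = _
      rw [hconj a ha b hb, map_add, map_smul, hpol, B_comm]
    · intro x y h
      obtain ⟨u, rfl⟩ := g.surjective x
      obtain ⟨v, rfl⟩ := g.surjective y
      rw [hsep u v fun z hz => ?_]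
      rw [← hpol, ← hpol]
      exact h (g z) ((hg z).symm.trans hz)
  rcases zcases (Q (n + 1) w) with hw' | hw'
  · left
    have hQ : HasPolar (Q (n + 1)) := fun u v => by rw [polar_eq, Q_add]
    refine ⟨move (toQuad hQ) (transvection w) (by simp [two_mul]) fun v => by
      rw [hw]; exact shift_equiv_of_singular hQ hw' v, ?_⟩
    have h1 := gauss_eq q
    rw [← hbij.image_eq, hbij.injOn.ncard_image, card_V,
      gauss_equiv (q' := Q (n + 1)) (transvection w).toEquiv fun v => by
        rw [hw]; exact shift_equiv_of_singular hQ hw' v, gauss_Q] at h1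
    have h2 : (2 : ℤ) * D.ncard + 2 ^ (n + 1) = 4 ^ (n + 1) := by push_cast at h1; linarith
    exact_mod_cast h2
  · right
    obtain ⟨g, hg⟩ := shift_equiv_of_nonsingular n hw'
    have hfun : ⇑((toQuad hq).comp (g.symm : _ →ₗ[ZMod 2] V (n + 1))) =
        Cfsg.quadFormMinus n (ZMod 2) 1 1 := by
      funext v
      rw [QuadraticMap.comp_apply, toQuad_apply, hw]
      exact (hg _).trans (by rw [LinearEquiv.coe_coe, g.apply_symm_apply])
    have h := move ((toQuad hq).comp (g.symm : _ →ₗ[ZMod 2] V (n + 1))) g (by simp [two_mul]; ring)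
      fun v => by
        rw [QuadraticMap.comp_apply, toQuad_apply, LinearEquiv.coe_coe, g.symm_apply_apply]
    rw [hfun] at h
    exact h

end extend

end Symp

end CfsgLib.ThreeTrans.Classif
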