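import Mathlib
import Cfsg.Agent.Lib.ThreeTrans.Classif.Sporadic
import Cfsg.Agent.Lib.ThreeTrans.Classif.FromSym
import Cfsg.Agent.Lib.ThreeTrans.Classif.FromSymplectic
import Cfsg.Agent.Lib.ThreeTrans.Classif.SmallIso
import Cfsg.Agent.Lib.ThreeTrans.PolarTwins.Main

/-!
The induction: every good class is of one of the listed kinds, from the facts about one step.
-/

set_option autoImplicit false

namespace CfsgLib.ThreeTrans.Classif

open CfsgLib.ThreeTrans
open CfsgLib.ThreeTrans.LocalSymThree (nbr)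
open CfsgLib.KnownSimple.QuadTwo (B)

universe u

/-- The list, with what the sporadic steps pass on. -/
def KnownUp {G : Type u} [Group G] (D : Set G) : Prop :=
  (∃ n, 5 ≤ n ∧ KindSym D n) ∨ (∃ m, 3 ≤ m ∧ KindSp D m) ∨ (∃ n, 4 ≤ n ∧ KindPSU D n) ∨
    ((∃ m, 4 ≤ m ∧ KindOPlus D m) ∨ ∃ m, 2 ≤ m ∧ KindOMinus D m) ∨
    (∃ n, 6 ≤ n ∧ ∃ Q : QuadraticForm (ZMod 3) (Fin n → ZMod 3),
      (QuadraticMap.polarBilin Q).Nondegenerate ∧ ∃ c : ZMod 3, c ≠ 0 ∧ KindRefl D Q c) ∨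
    (LevelTwentyTwo D ∨ LevelTwentyThree D ∨
      (Cfsg.IsOfTypeM24 G D ∧ ∀ n k l m, Params D n k l m → n = 306936 ∧ k = 31671))

theorem KnownUp.known {G : Type u} [Group G] {D : Set G} (h : KnownUp D) : Known D := by
  rcases h with h | h | h | h | h | h | h | h
  exacts [Or.inl h, Or.inr (Or.inl h), Or.inr (Or.inr (Or.inl h)), Or.inr (Or.inr (Or.inr (Or.inl h))),
    Or.inr (Or.inr (Or.inr (Or.inr (Or.inl h)))), Or.inr (Or.inr (Or.inr (Or.inr (Or.inr (Or.inl h.1))))),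
    Or.inr (Or.inr (Or.inr (Or.inr (Or.inr (Or.inr (Or.inl h.1)))))),
    Or.inr (Or.inr (Or.inr (Or.inr (Or.inr (Or.inr (Or.inr h.1))))))]

/-- The facts used at one step of the induction. -/
structure StepFacts : Prop where
  lift : ∀ n, 5 ≤ n → LiftRefl.{u, u} n
  reflPts : ∀ {Y : Type u} [Group Y] {E : Set Y} {n : ℕ} (Q : QuadraticForm (ZMod 3) (Fin n → ZMod 3))
    (c : ZMod 3), 5 ≤ n → (QuadraticMap.polarBilin Q).Nondegenerate → c ≠ 0 → KindRefl E Q c →
    ∃ ψ, ReflPts E Q c ψ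
  spPts : ∀ {Y : Type u} [Group Y] {E : Set Y} {m : ℕ}, 3 ≤ m → KindSp E m → ∃ ψ, SympPts E (B m) ψ
  symSix : ∀ {Y : Type u} [Group Y] {E : Set Y}, KindSym E 6 → ∃ ψ, SympPts E (B 2) ψ
  smallRefl : ∀ {Y : Type u} [Group Y] {E : Set Y}, KindPSU E 4 ∨ KindOMinus E 2 →
    ∃ (Q : QuadraticForm (ZMod 3) (Fin 5 → ZMod 3)) (c : ZMod 3) (ψ : Y → Fin 5 → ZMod 3), ReflPts E Q c ψ
  orthKill : ∀ {G Y : Type u} [Group G] [Finite G] [Group Y] [Finite Y] {D : Set G} {E : Set Y}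
    {d : G} {f : G → Y}, Good D → Chart D d f E →
    (∃ m, 4 ≤ m ∧ KindOPlus E m) ∨ (∃ m, 3 ≤ m ∧ KindOMinus E m) → False
  unitKill : ∀ {G Y : Type u} [Group G] [Finite G] [Group Y] [Finite Y] {D : Set G} {E : Set Y}
    {d : G} {f : G → Y} {n : ℕ}, Good D → Chart D d f E → (n = 5 ∨ 7 ≤ n) → KindPSU E n → False
  uSix : ∀ {Y : Type u} [Group Y] [Finite Y] {E : Set Y}, KindPSU E 6 →
    E.ncard = 693 ∧ (∀ e ∈ E, (nbr E e).ncard = 180) ∧
      MuRefl E 5 45 (fun _ => True) (fun det e => det * (2 * e) = 1)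
  splitKill : ∀ {G Y : Type u} [Group G] [Finite G] [Group Y] [Finite Y] {D : Set G} {E : Set Y}
    {d : G} {f : G → Y}, Good D → Chart D d f E → Semi E → ¬ (Cfsg.commutingGraph E).Connected →
    (∀ (L : Subgroup Y), Split E L → ∀ a ∈ E, Known {y : coverGroup L a | (y : Y) ∈ cosetClass E L a}) →
    False
  splitEight : SplitEight.{u}
  symFive : ∀ {G : Type u} [Group G] [Finite G] {D : Set G}, Good D →
    Nonempty (G ≃* Equiv.Perm (Fin 5)) → KindSym D 5

theorem classify_aux (F : StepFacts.{u}) : ∀ (N : ℕ) (G : Type u) [Group G] [Finite G] (D : Set G),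
    Nat.card G ≤ N → Good D → KnownUp D := by
  intro N
  induction N with
  | zero =>
    intro G _ _ D h _
    exact absurd h (by have := Nat.card_pos (α := G); omega)
  | succ N ih =>
    intro G _ _ D hN hG
    obtain ⟨x, hx, -⟩ := hG.set.hD.two
    rcases local_cases hG hx with h5 | h2 | ⟨π, hπ, hB, hS, C, hlt⟩
    · exact Or.inl ⟨5, le_rfl, F.symFive hG h5⟩
    · rcases PolarTwins.main hG.set hG.triv hx h2 with ⟨m, hm, hK⟩ | ⟨n, hn, hK⟩
      · rcases Nat.lt_or_ge m 3 with hm3 | hm3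
        · obtain rfl : m = 2 := by omega
          exact Or.inl ⟨6, by norm_num, SmallIso.sp4_sym6 hK⟩
        · exact Or.inr (Or.inl ⟨m, hm3, hK⟩)
      · exact Or.inr (Or.inr (Or.inl ⟨n, hn, hK⟩))
    have hdown : ∀ {X : Type u} [Group X] [Finite X] {E : Set X},
        Nat.card X ≤ Nat.card (Hd D x ⧸ Subgroup.center (Hd D x)) → Good E → KnownUp E :=
      fun {X} _ _ {E} hX hE => ih X E (by omega) hE
    by_cases hconn : (Cfsg.commutingGraph (imgSet D x π)).Connected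
    swap
    · exfalso
      exact F.splitKill hG C hS hconn fun L hL a ha =>
        (hdown (Subgroup.card_le_card_group _) (hL.good a ha)).known
    have hgood := hS.good hconn
    obtain ⟨nn, k, l, m, P, hm, hmk⟩ := exists_params hG
    have hrefl : ∀ {n : ℕ} (Q : QuadraticForm (ZMod 3) (Fin n → ZMod 3)) (c : ZMod 3)
        (ψ : _ → Fin n → ZMod 3), 5 ≤ n → ReflPts (imgSet D x π) Q c ψ → KnownUp D := by
      intro n Q c ψ hn hψ
      obtain ⟨Q', ψ', hQ', -, hK, -⟩ := F.lift n hn hG C hψ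
      exact Or.inr (Or.inr (Or.inr (Or.inr (Or.inl ⟨n + 1, by omega, Q', hQ', c, hψ.ne, hK⟩))))
    rcases hdown le_rfl hgood with ⟨n, hn, hK⟩ | ⟨n, hn, hK⟩ | ⟨n, hn, hK⟩ | (⟨n, hn, hK⟩ | ⟨n, hn, hK⟩) |
      ⟨n, hn, Q, hQ, c, hc, hK⟩ | h22 | h23 | ⟨-, hpar⟩
    · obtain ⟨ψ, hψ, -⟩ := sym_points hK
      rcases from_sym hG C hn hψ P hm with h | ⟨rfl, rfl⟩
      · exact Or.inl ⟨n + 2, by omega, h⟩
      obtain ⟨φ, hφ⟩ := F.symSix hK
      rcases from_symp hG C le_rfl hφ P hm with ⟨-, hcard⟩ | h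
      · -- the plus type has the wrong size
        exfalso
        obtain ⟨hk, hl⟩ := P.of_chart hG C (k' := (6 - 2).choose 2) fun e he => hψ.deg he
        rw [hψ.ncard_eq] at hk
        obtain ⟨h1, -, heq⟩ := Params.card_eq hG P hmk
        rw [P.card] at hcard
        subst hk hl
        norm_num [Nat.choose_two_right] at heq hcard h1
        omega
      · exact Or.inr (Or.inr (Or.inr (Or.inl (Or.inr ⟨2, le_rfl, h⟩))))
    · obtain ⟨ψ, hψ⟩ := F.spPts hn hK
      rcases from_symp hG C (by omega) hψ P hm with ⟨h, -⟩ | h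
      · exact Or.inr (Or.inr (Or.inr (Or.inl (Or.inl ⟨n + 1, by omega, h⟩))))
      · exact Or.inr (Or.inr (Or.inr (Or.inl (Or.inr ⟨n, by omega, h⟩))))
    · rcases (show n = 4 ∨ n = 6 ∨ n = 5 ∨ 7 ≤ n by omega) with rfl | rfl | h
      · obtain ⟨Q, c, ψ, hψ⟩ := F.smallRefl (Or.inl hK)
        exact hrefl Q c ψ le_rfl hψ
      · obtain ⟨hcard, hdeg, hmu⟩ := F.uSix hK
        exact Or.inr (Or.inr (Or.inr (Or.inr (Or.inr (Or.inl
          (level_twentyTwo (F.lift 5 le_rfl) hG C hK hcard hdeg hmu))))))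
      · exact (F.unitKill hG C h hK).elim
    · exact (F.orthKill hG C (Or.inl ⟨n, hn, hK⟩)).elim
    · rcases Nat.lt_or_ge n 3 with h3 | h3
      · obtain rfl : n = 2 := by omega
        obtain ⟨Q, c, ψ, hψ⟩ := F.smallRefl (Or.inr hK)
        exact hrefl Q c ψ le_rfl hψ
      · exact (F.orthKill hG C (Or.inr ⟨n, h3, hK⟩)).elim
    · obtain ⟨ψ, hψ⟩ := F.reflPts Q c (by omega) hQ hc hK
      exact hrefl Q c ψ (by omega) hψ
    · exact Or.inr (Or.inr (Or.inr (Or.inr (Or.inr (Or.inr (Or.inl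
        (level_twentyThree (F.lift 6 (by norm_num)) hG hπ C hgood h22)))))))
    · exact Or.inr (Or.inr (Or.inr (Or.inr (Or.inr (Or.inr (Or.inr
        (level_twentyFour (F.lift 7 (by norm_num)) F.splitEight hG hπ C hgood h23)))))))
    · exfalso
      obtain ⟨nE, kE, lE, mE, PE, -, -⟩ := exists_params hgood
      obtain ⟨rfl, rfl⟩ := hpar _ _ _ _ PE
      obtain ⟨hk, hl⟩ := P.of_chart hG C PE.deg
      rw [PE.card] at hk
      subst hk hl
      exact not_threeOhSixNineThreeSix hG hm P hmk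

/-- Every good class is known, given the facts about one step. -/
theorem classify (F : StepFacts.{u}) {G : Type u} [Group G] [Finite G] (D : Set G) (hG : Good D) :
    Known D :=
  (classify_aux F (Nat.card G) G D le_rfl hG).known

end CfsgLib.ThreeTrans.Classif
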