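import Mathlib
import Cfsg.Agent.Lib.QuadFin.Gram
import Cfsg.Agent.Lib.ThreeTrans.Classif.FromRefl.Points

/-!
The numbers of the two eight-dimensional classes of plus type met over a disconnected class: the
non-singular vectors over two elements (120 members, 63 commuting with one, 36 common ones for a
non-commuting pair) and the norm classes over three elements (1080 members, 351 commuting with one).
-/

set_option autoImplicit false

namespace CfsgLib.ThreeTrans.Classif

open QuadraticMap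
open CfsgLib.ThreeTrans.LocalSymThree (nbr)

universe v

/-- The number of solutions of a diagonal equation over three elements. -/
def sphereCount : (n : ℕ) → (Fin n → ZMod 3) → ZMod 3 → ℕ
  | 0, _, c => if c = 0 then 1 else 0
  | n + 1, a, c => ∑ t : ZMod 3, sphereCount n (fun i => a i.succ) (c - a 0 * (t * t))

theorem natCard_sphere : ∀ (n : ℕ) (a : Fin n → ZMod 3) (c : ZMod 3),
    Nat.card {v : Fin n → ZMod 3 // ∑ i, a i * (v i * v i) = c} = sphereCount n a c := by
  intro n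
  induction n with
  | zero =>
    intro a c
    by_cases h : c = 0
    · rw [sphereCount, if_pos h, Nat.card_eq_one_iff_unique]
      exact ⟨inferInstance, ⟨0, by simp [h]⟩⟩
    · rw [sphereCount, if_neg h, Nat.card_eq_zero]
      exact Or.inl ⟨fun v => h (by simpa using v.2.symm)⟩
  | succ n ih =>
    intro a c
    let e : {v : Fin (n + 1) → ZMod 3 // ∑ i, a i * (v i * v i) = c} ≃
        (t : ZMod 3) × {w : Fin n → ZMod 3 // ∑ i, a i.succ * (w i * w i) = c - a 0 * (t * t)} :=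
      { toFun := fun v => ⟨v.1 0, ⟨fun i => v.1 i.succ, by
          have h := v.2
          rw [Fin.sum_univ_succ] at h
          linear_combination h⟩⟩
        invFun := fun p => ⟨Fin.cons p.1 p.2.1, by
          rw [Fin.sum_univ_succ]
          simp only [Fin.cons_zero, Fin.cons_succ, p.2.2]
          ring⟩
        left_inv := fun v => Subtype.ext (Fin.cons_self_tail v.1)
        right_inv := fun ⟨_, _, _⟩ => rfl }
    rw [Nat.card_congr e, Nat.card_sigma, sphereCount]
    exact Finset.sum_congr rfl fun t _ => ih _ _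

/-! ### Norm classes over three elements -/

/-- The sum of eight squares. -/
noncomputable def Q8 : QuadraticForm (ZMod 3) (Fin 8 → ZMod 3) :=
  QuadraticMap.weightedSumSquares (ZMod 3) (1 : Fin 8 → ZMod 3)

theorem Q8_apply (v : Fin 8 → ZMod 3) : Q8 v = ∑ i, (1 : Fin 8 → ZMod 3) i * (v i * v i) := by
  simp [Q8, QuadraticMap.weightedSumSquares_apply]

theorem Q8_polar (u w : Fin 8 → ZMod 3) : polar Q8 u w = 2 * ∑ i, u i * w i := by
  rw [polar, Q8_apply, Q8_apply, Q8_apply, ← Finset.sum_sub_distrib, ← Finset.sum_sub_distrib,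
    Finset.mul_sum]
  refine Finset.sum_congr rfl fun i _ => ?_
  simp only [Pi.add_apply, Pi.one_apply]
  ring

theorem Q8_nondeg : (QuadraticMap.polarBilin Q8).Nondegenerate := by
  have key : ∀ x, (∀ y, polar Q8 x y = 0) → x = 0 := fun x hx => funext fun i => by
    have h := hx (Pi.single i 1)
    rw [Q8_polar, Finset.sum_eq_single i (fun j _ hj => by simp [hj]) (by simp)] at h
    rw [Pi.single_eq_same, mul_one] at h
    exact (mul_eq_zero.1 h).resolve_left (by decide)
  exact ⟨fun x hx => key x hx, fun x hx => key x fun y => by rw [polar_comm]; exact hx y⟩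

theorem Q8_det : (CfsgLib.QuadFin.gram ⇑Q8).det = 1 := by
  have h : (⇑Q8 : (Fin 8 → ZMod 3) → ZMod 3) = fun v => ∑ i, (1 : Fin 8 → ZMod 3) i * v i ^ 2 :=
    funext fun v => by rw [Q8_apply]; simp only [pow_two]
  rw [h, CfsgLib.QuadFin.gram_diag, Matrix.det_diagonal]
  decide +kernel

variable {Y : Type v} [Group Y] {E : Set Y}

section Refl

variable {n : ℕ} {Q : QuadraticForm (ZMod 3) (Fin n → ZMod 3)} {c : ZMod 3} {ψ : Y → Fin n → ZMod 3}

/-- The members with vector in a symmetric set are half of the vectors of norm `c` in it. -/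
theorem ReflPts.two_mul_ncard (hE : ReflPts E Q c ψ) (T : Set (Fin n → ZMod 3))
    (hT : ∀ z ∈ T, -z ∈ T) :
    2 * {e | e ∈ E ∧ ψ e ∈ T}.ncard = Nat.card {z // Q z = c ∧ z ∈ T} := by
  set A := {e | e ∈ E ∧ ψ e ∈ T} with hA
  have hsub : A ⊆ E := fun e he => he.1
  have e1 : {z | Q z = c ∧ z ∈ T} = ψ '' A ∪ (fun e => -ψ e) '' A := by
    ext z
    constructor
    · rintro ⟨hz, hzT⟩
      obtain ⟨e, he, h | h⟩ := hE.surj z hz
      · exact Or.inl ⟨e, ⟨he, h ▸ hzT⟩, h⟩
      · exact Or.inr ⟨e, ⟨he, h ▸ hT z hzT⟩, by simp [h]⟩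
    · rintro (⟨e, he, rfl⟩ | ⟨e, he, rfl⟩)
      · exact ⟨hE.norm e he.1, he.2⟩
      · exact ⟨by simpa using hE.norm e he.1, hT _ he.2⟩
  have hi1 : Set.InjOn ψ A := fun a ha b hb h => hE.inj a (hsub ha) b (hsub hb) (Or.inl h)
  have hi2 : Set.InjOn (fun e => -ψ e) A := fun a ha b hb h => hi1 ha hb (neg_injective h)
  have hfin : A.Finite := (FromRefl.finite_points hE).subset hsub
  have hdisj : Disjoint (ψ '' A) ((fun e => -ψ e) '' A) := by
    refine Set.disjoint_left.2 ?_
    rintro _ ⟨a, ha, rfl⟩ ⟨b, hb, h⟩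
    obtain rfl := hE.inj a (hsub ha) b (hsub hb) (Or.inr h.symm)
    have h0 : ψ a = 0 := funext fun i => (show ∀ x : ZMod 3, -x = x → x = 0 by decide) _ (congrFun h i)
    exact hE.ne (by rw [← hE.norm a (hsub ha), h0, QuadraticMap.map_zero])
  change 2 * A.ncard = Nat.card ↥{z | Q z = c ∧ z ∈ T}
  rw [Nat.card_coe_set_eq, e1, Set.ncard_union_eq hdisj (hfin.image _) (hfin.image _),
    hi1.ncard_image, hi2.ncard_image, two_mul]

end Refl

theorem two_cases_three : ∀ c : ZMod 3, c ≠ 0 → c = 1 ∨ c = 2 := by decide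

/-- The plus class of reflections in eight dimensions over three elements. -/
theorem ReflPts.eight_numbers {Q : QuadraticForm (ZMod 3) (Fin 8 → ZMod 3)} {c : ZMod 3}
    {ψ : Y → Fin 8 → ZMod 3} (hE : ReflPts E Q c ψ) (hdet : Cfsg.polarGramDet (⇑Q) = 1) :
    E.ncard = 1080 ∧ ∃ a ∈ E, (nbr E a).ncard = 351 := by
  obtain ⟨g, hg⟩ := (CfsgLib.QuadFin.equiv_iff_isSquare (by decide) Q Q8 hE.nondeg Q8_nondeg).2
    ⟨1, by rw [show (CfsgLib.QuadFin.gram ⇑Q).det = 1 from hdet, Q8_det]⟩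
  have hgp : ∀ u w, polar Q u w = polar Q8 (g u) (g w) := fun u w => by
    simp only [polar, ← hg, map_add]
  constructor
  · have h := hE.two_mul_ncard Set.univ fun _ _ => trivial
    have e : {z // Q z = c ∧ z ∈ (Set.univ : Set (Fin 8 → ZMod 3))} ≃
        {w : Fin 8 → ZMod 3 // ∑ i, (1 : Fin 8 → ZMod 3) i * (w i * w i) = c} :=
      g.toEquiv.subtypeEquiv fun z => by
        rw [← Q8_apply, LinearEquiv.coe_toEquiv, hg]
        simp
    rw [Nat.card_congr e, natCard_sphere] at h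
    rw [show {e | e ∈ E ∧ ψ e ∈ (Set.univ : Set (Fin 8 → ZMod 3))} = E by simp] at h
    have : ∀ c : ZMod 3, c ≠ 0 → sphereCount 8 1 c = 2160 := by decide +kernel
    rw [this c hE.ne] at h
    omega
  · -- a representative and the hyperplane of vectors orthogonal to it
    obtain ⟨k, r, hr, hperp, hcount⟩ : ∃ (k : ZMod 3) (r : Fin 8 → ZMod 3), Q8 r = c ∧
        (∀ z, polar Q8 r z = 0 ↔ z 0 = k * z 1) ∧
        sphereCount 7 (Fin.cons (1 + k * k) 1) c = 702 := by
      rcases two_cases_three c hE.ne with rfl | rfl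
      · refine ⟨0, ![1, 0, 0, 0, 0, 0, 0, 0], ?_, fun z => ?_, by decide +kernel⟩
        · simp [Q8_apply, Fin.sum_univ_eight]
        · rw [Q8_polar, Fin.sum_univ_eight]
          simp [show (2 : ZMod 3) ≠ 0 by decide]
      · refine ⟨-1, ![1, 1, 0, 0, 0, 0, 0, 0], ?_, fun z => ?_, by decide +kernel⟩
        · simp [Q8_apply, Fin.sum_univ_eight]; decide
        · rw [Q8_polar, Fin.sum_univ_eight]
          simp [show (2 : ZMod 3) ≠ 0 by decide, add_eq_zero_iff_eq_neg]
    obtain ⟨a, ha, -, hw⟩ := FromRefl.exists_point hE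
      (show Q (g.symm r) = c by rw [← hg, g.apply_symm_apply, hr])
    refine ⟨a, ha, ?_⟩
    have h := hE.two_mul_ncard {z | polar Q (ψ a) z = 0} fun z hz => by
      show polar Q (ψ a) (-z) = 0
      rw [polar_neg_right, show polar Q (ψ a) z = 0 from hz, neg_zero]
    have hset : {e | e ∈ E ∧ ψ e ∈ {z | polar Q (ψ a) z = 0}} = nbr E a :=
      Set.ext fun e => (FromRefl.mem_nbr_iff hE ha).symm
    have e₁ : {z // Q z = c ∧ z ∈ {z | polar Q (ψ a) z = 0}} ≃
        {w : Fin 8 → ZMod 3 // Q8 w = c ∧ w 0 = k * w 1} :=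
      g.toEquiv.subtypeEquiv fun z => by
        rw [Set.mem_ofPred_eq, hw, hgp, g.apply_symm_apply, hperp, LinearEquiv.coe_toEquiv, hg]
    have e₂ : {w : Fin 8 → ZMod 3 // Q8 w = c ∧ w 0 = k * w 1} ≃
        {u : Fin 7 → ZMod 3 // ∑ i, (Fin.cons (1 + k * k) 1 : Fin 7 → ZMod 3) i * (u i * u i) = c} :=
      { toFun := fun w => ⟨fun i => w.1 i.succ, by
          have h := w.2.1
          rw [Q8_apply, Fin.sum_univ_succ, Fin.sum_univ_succ, w.2.2] at h
          rw [Fin.sum_univ_succ]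
          simp only [Fin.cons_zero, Fin.cons_succ, Pi.one_apply, Fin.succ_zero_eq_one] at h ⊢
          linear_combination h⟩
        invFun := fun u => ⟨Fin.cons (k * u.1 0) u.1, by
          have h := u.2
          rw [Fin.sum_univ_succ] at h
          rw [Q8_apply, Fin.sum_univ_succ, Fin.sum_univ_succ]
          simp only [Fin.cons_zero, Fin.cons_succ, Pi.one_apply] at h ⊢
          linear_combination h, by simp⟩
        left_inv := fun w => Subtype.ext (by
          funext i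
          refine Fin.cases ?_ (fun j => ?_) i
          · simpa using w.2.2.symm
          · simp)
        right_inv := fun u => Subtype.ext (funext fun i => by simp) }
    rw [hset, Nat.card_congr (e₁.trans e₂), natCard_sphere, hcount] at h
    omega

/-! ### The plus class over two elements -/

/-- The vector with value one at each of the listed indices. -/
def plusVec (l : List (Fin 4 ⊕ Fin 4)) : Fin 4 ⊕ Fin 4 → ZMod 2 :=
  fun i => if l.any (fun j => decide (j = i)) then 1 else 0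

theorem plus_count_all : Fintype.card {z : Fin 4 ⊕ Fin 4 → ZMod 2 //
    Cfsg.quadFormPlus 4 (ZMod 2) z = 1} = 120 := by
  decide +kernel

theorem plus_count_one : Fintype.card {z : Fin 4 ⊕ Fin 4 → ZMod 2 //
    Cfsg.quadFormPlus 4 (ZMod 2) z = 1 ∧ z ≠ plusVec [.inl 0, .inr 0] ∧
      polar (Cfsg.quadFormPlus 4 (ZMod 2)) (plusVec [.inl 0, .inr 0]) z = 0} = 63 := by
  decide +kernel

theorem plus_count_two : Fintype.card {z : Fin 4 ⊕ Fin 4 → ZMod 2 //
    Cfsg.quadFormPlus 4 (ZMod 2) z = 1 ∧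
      polar (Cfsg.quadFormPlus 4 (ZMod 2)) (plusVec [.inl 0, .inr 0]) z = 0 ∧
      polar (Cfsg.quadFormPlus 4 (ZMod 2)) (plusVec [.inl 0, .inl 1, .inr 1]) z = 0} = 36 := by
  decide +kernel

theorem plus_pair :
    Cfsg.quadFormPlus 4 (ZMod 2) (plusVec [.inl 0, .inr 0]) = 1 ∧
      Cfsg.quadFormPlus 4 (ZMod 2) (plusVec [.inl 0, .inl 1, .inr 1]) = 1 ∧
      polar (Cfsg.quadFormPlus 4 (ZMod 2)) (plusVec [.inl 0, .inr 0])
        (plusVec [.inl 0, .inl 1, .inr 1]) = 1 := by
  decide +kernel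

/-- The class of transvections of the plus form in eight dimensions over two elements. -/
theorem OrthPts.eight_numbers {Q : QuadraticForm (ZMod 2) (Fin 4 ⊕ Fin 4 → ZMod 2)}
    {ψ : Y → Fin 4 ⊕ Fin 4 → ZMod 2} (hE : OrthPts E Q ψ)
    (hQ : ∀ z, Q z = Cfsg.quadFormPlus 4 (ZMod 2) z) :
    E.ncard = 120 ∧ ∃ a ∈ E, ∃ p ∈ E, ¬ Commute a p ∧ (nbr E a).ncard = 63 ∧
      (nbr E a ∩ nbr E p).ncard = 36 := by
  have hcoe : (⇑Q : (Fin 4 ⊕ Fin 4 → ZMod 2) → ZMod 2) = Cfsg.quadFormPlus 4 (ZMod 2) := funext hQ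
  have hcount : ∀ (P : (Fin 4 ⊕ Fin 4 → ZMod 2) → Prop),
      {e | e ∈ E ∧ P (ψ e)}.ncard = {z | Q z = 1 ∧ P z}.ncard := by
    intro P
    have himg : ψ '' {e | e ∈ E ∧ P (ψ e)} = {z | Q z = 1 ∧ P z} := by
      ext z
      constructor
      · rintro ⟨e, ⟨he, hP⟩, rfl⟩
        exact ⟨hE.bij.mapsTo he, hP⟩
      · rintro ⟨hz, hP⟩
        obtain ⟨e, he, rfl⟩ := hE.bij.surjOn hz
        exact ⟨e, ⟨he, hP⟩, rfl⟩
    rw [← himg, Set.InjOn.ncard_image (hE.bij.injOn.mono fun e he => he.1)]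
  obtain ⟨hu, hw, huw⟩ := plus_pair
  obtain ⟨a, ha, hau⟩ := hE.bij.surjOn (show _ ∈ {z | Q z = 1} from (hQ _).trans hu)
  obtain ⟨p, hp, hpw⟩ := hE.bij.surjOn (show _ ∈ {z | Q z = 1} from (hQ _).trans hw)
  refine ⟨?_, a, ha, p, hp, fun h => ?_, ?_, ?_⟩
  · rw [show E = {e | e ∈ E ∧ True} by simp, hcount fun _ => True, ← Nat.card_coe_set_eq,
      Nat.card_eq_fintype_card, ← plus_count_all]
    exact Fintype.card_congr (Equiv.subtypeEquivRight fun z => by simp [hcoe])
  · rw [hE.comm a ha p hp, hau, hpw, hcoe, huw] at h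
    exact one_ne_zero h
  · rw [show nbr E a = {e | e ∈ E ∧ (ψ e ≠ ψ a ∧ polar Q (ψ a) (ψ e) = 0)} by
        ext e
        refine ⟨fun ⟨he, hne, hc⟩ => ⟨he, fun h => hne (hE.bij.injOn he ha h), (hE.comm a ha e he).1 hc⟩,
          fun ⟨he, hne, hc⟩ => ⟨he, fun h => hne (h ▸ rfl), (hE.comm a ha e he).2 hc⟩⟩,
      hcount fun z => z ≠ ψ a ∧ polar Q (ψ a) z = 0, ← Nat.card_coe_set_eq,
      Nat.card_eq_fintype_card, ← plus_count_one]
    exact Fintype.card_congr (Equiv.subtypeEquivRight fun z => by simp [hcoe, hau])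
  · rw [show nbr E a ∩ nbr E p =
        {e | e ∈ E ∧ (polar Q (ψ a) (ψ e) = 0 ∧ polar Q (ψ p) (ψ e) = 0)} by
        ext e
        refine ⟨fun ⟨⟨he, _, hc⟩, _, _, hc'⟩ => ⟨he, (hE.comm a ha e he).1 hc, (hE.comm p hp e he).1 hc'⟩,
          fun ⟨he, hc, hc'⟩ => ?_⟩
        have hap : polar Q (ψ a) (ψ p) = 1 := by rw [hau, hpw, hcoe, huw]
        refine ⟨⟨he, fun h => ?_, (hE.comm a ha e he).2 hc⟩, he, fun h => ?_, (hE.comm p hp e he).2 hc'⟩
        · rw [h, polar_comm, hap] at hc'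
          exact one_ne_zero hc'
        · rw [h, hap] at hc
          exact one_ne_zero hc,
      hcount fun z => polar Q (ψ a) z = 0 ∧ polar Q (ψ p) z = 0, ← Nat.card_coe_set_eq,
      Nat.card_eq_fintype_card, ← plus_count_two]
    exact Fintype.card_congr (Equiv.subtypeEquivRight fun z => by simp [hcoe, hau, hpw])

end CfsgLib.ThreeTrans.Classif
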