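import Mathlib
import Cfsg.Agent.Lib.ThreeTrans.Classif.DisconnectedOut
import Cfsg.Agent.Lib.ThreeTrans.Classif.MuSet
import Cfsg.Agent.Lib.ThreeTrans.Classif.SrgTables
import Cfsg.Agent.Lib.ThreeTrans.Classif.SplitCounts

/-!
No good class has, one level down, a disconnected class made of three classes of the plus type in
eight dimensions over two or three elements.
-/

set_option autoImplicit false

namespace CfsgLib.ThreeTrans.Classif

open CfsgLib.ThreeTrans
open CfsgLib.ThreeTrans.LocalSymThree (nbr)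
open CfsgLib.Sporadic

universe u v

section General

variable {H : Type v} [Group H] [Finite H]

/-- The number of pairwise braided involutions closed under conjugation is a power of three. -/
theorem exists_pow_three {S : Set H} (hS : WidthOne.Braided S) (hne : S.Nonempty) :
    ∃ i, S.ncard = 3 ^ i := by
  have : Fact (Nat.Prime 3) := ⟨Nat.prime_three⟩
  obtain ⟨x, hx⟩ := hne
  set P := Subgroup.closure {z | ∃ a ∈ S, ∃ b ∈ S, z = a * b} with hPdef
  have hinv : ∀ a ∈ S, a⁻¹ = a := fun a ha => inv_eq_of_mul_eq_one_right (hS.sq a ha)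
  have hP : ∀ g ∈ P, ∀ y ∈ S, g * y * g⁻¹ ∈ S := by
    intro g hg
    rw [hPdef, ← Subgroup.mem_toSubmonoid, Subgroup.closure_toSubmonoid_of_finite] at hg
    induction hg using Submonoid.closure_induction with
    | mem z hz =>
      obtain ⟨a, ha, b, hb, rfl⟩ := hz
      intro y hy
      have := hS.closed a ha _ (hS.closed b hb y hy)
      simpa [mul_assoc, hinv a ha, hinv b hb] using this
    | one => intro y hy; simpa using hy
    | mul g h _ _ hg hh => intro y hy; simpa [mul_assoc] using hg _ (hh y hy)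
  have horb : {z | ∃ g : P, P.subtype g * x * (P.subtype g)⁻¹ = z} = S := by
    ext z
    constructor
    · rintro ⟨g, rfl⟩
      exact hP g g.2 x hx
    · intro hz
      refine ⟨⟨x * z, Subgroup.subset_closure ⟨x, hx, z, hz, rfl⟩⟩, ?_⟩
      show x * z * x * (x * z)⁻¹ = z
      rw [mul_inv_rev, hinv x hx, hinv z hz, hS.braid x hx z hz, mul_assoc (z * x), ← mul_assoc z z,
        hS.sq z hz, one_mul, mul_assoc z x, hS.sq x hx, mul_one]
  have h := orbit_card P.subtype x
  rw [horb] at h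
  obtain ⟨i, hi⟩ := IsPGroup.iff_card.1 (WidthOne.isPGroup_products hS)
  have hdvd : S.ncard ∣ 3 ^ i := hi ▸ ⟨_, h.symm⟩
  obtain ⟨j, -, hj⟩ := (Nat.dvd_prime_pow Nat.prime_three).1 hdvd
  exact ⟨j, hj⟩

end General

section Split

variable {Y : Type v} [Group Y] {E : Set Y} {L : Subgroup Y}

theorem mk_eq_iff [L.Normal] {a y : Y} : (y : Y ⧸ L) = (a : Y ⧸ L) ↔ a⁻¹ * y ∈ L := by
  rw [eq_comm, QuotientGroup.eq]

theorem Split.same (hL : Split E L) {a y : Y} (ha : a ∈ E) (hy : y ∈ E) (h : Commute a y) :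
    a⁻¹ * y ∈ L :=
  by_contra fun k => hL.far a ha y hy k h

theorem mem_coverGroup {a y : Y} (h : a⁻¹ * y ∈ L) : y ∈ coverGroup L a := by
  rw [show y = a * (a⁻¹ * y) by group]
  exact (coverGroup L a).mul_mem (Subgroup.mem_sup_right (Subgroup.mem_zpowers a))
    (Subgroup.mem_sup_left h)

/-- The members commuting with one lie in its coset class. -/
theorem Split.image_nbr (hL : Split E L) {a : Y} (b : coverGroup L a) (hb : b ∈ coverClass E L a) :
    Subtype.val '' nbr (coverClass E L a) b = nbr E (b : Y) := by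
  ext y
  constructor
  · rintro ⟨z, ⟨hz, hne, hc⟩, rfl⟩
    exact ⟨hz.1, fun h => hne (Subtype.ext h), hc.map (coverGroup L a).subtype⟩
  · rintro ⟨hy, hne, hc⟩
    have h : a⁻¹ * y ∈ L := by
      have := L.mul_mem hb.2 (hL.same hb.1 hy hc)
      rwa [mul_assoc, mul_inv_cancel_left] at this
    exact ⟨⟨y, mem_coverGroup h⟩, ⟨⟨hy, h⟩, fun k => hne (congrArg Subtype.val k), Subtype.ext hc⟩, rfl⟩

variable [Finite Y]

omit [Finite Y] in
theorem Split.ncard_coset_eq (hS : Semi E) (hL : Split E L) {a c : Y} (ha : a ∈ E) (hc : c ∈ E) :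
    (cosetClass E L c).ncard = (cosetClass E L a).ncard := by
  obtain ⟨g, rfl⟩ := hS.hE.class_eq a ha c hc
  have hinj : Function.Injective fun y : Y => g * y * g⁻¹ :=
    fun p q h => mul_left_cancel (mul_right_cancel h)
  rw [← Set.ncard_image_of_injective (cosetClass E L a) hinj]
  congr 1
  ext y
  constructor
  · intro hy
    refine ⟨g⁻¹ * y * g, ⟨hS.hE.closed.conj' g hy.1, ?_⟩, by group⟩
    have := hL.normal.conj_mem _ hy.2 g⁻¹
    simpa [mul_assoc] using this
  · rintro ⟨y, hy, rfl⟩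
    refine ⟨hS.hE.closed.conj g y hy.1, ?_⟩
    have := hL.normal.conj_mem _ hy.2 g
    simpa [mul_assoc] using this

omit [Finite Y] in
theorem Semi.ncard_nbr_eq (hS : Semi E) {a b : Y} (ha : a ∈ E) (hb : b ∈ E) :
    (nbr E b).ncard = (nbr E a).ncard := by
  obtain ⟨g, rfl⟩ := hS.hE.class_eq a ha b hb
  rw [InnerTwins.nbr_conj hS.hE.closed,
    Set.ncard_image_of_injective _ fun p q h => mul_left_cancel (mul_right_cancel h)]

theorem perm_three_involutions : ∀ s : Equiv.Perm (Fin 3), s * s = 1 → s ≠ 1 →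
    ∀ r : Equiv.Perm (Fin 3), r * r = 1 → r ≠ 1 → ∃ g, g * s * g⁻¹ = r := by decide +kernel

theorem perm_three_count :
    Fintype.card {s : Equiv.Perm (Fin 3) // s * s = 1 ∧ s ≠ 1} = 3 := by decide +kernel

/-- With a quotient of degree three there are three coset classes. -/
theorem Split.ncard_eq_three_mul (hS : Semi E) (hL : Split E L) [L.Normal]
    (hQ : Nonempty (Y ⧸ L ≃* Equiv.Perm (Fin 3))) {a : Y} (ha : a ∈ E) :
    E.ncard = 3 * (cosetClass E L a).ncard := by
  classical
  obtain ⟨e⟩ := hQ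
  let φ : Y →* Equiv.Perm (Fin 3) := e.toMonoidHom.comp (QuotientGroup.mk' L)
  have hφ : ∀ {x y : Y}, φ y = φ x ↔ x⁻¹ * y ∈ L := fun {x y} =>
    e.injective.eq_iff.trans mk_eq_iff
  have hsurj : Function.Surjective φ := e.surjective.comp (QuotientGroup.mk'_surjective L)
  have hinv : ∀ x ∈ E, φ x * φ x = 1 ∧ φ x ≠ 1 := fun x hx => by
    refine ⟨by rw [← map_mul, mul_self hS.hE.closed.set hx, map_one], fun h => hL.not_mem x hx ?_⟩
    rw [← map_one φ, hφ] at h
    simpa using h
  have himg : φ '' E = {s | s * s = 1 ∧ s ≠ 1} := by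
    refine Set.Subset.antisymm ?_ fun r hr => ?_
    · rintro _ ⟨x, hx, rfl⟩
      exact hinv x hx
    · obtain ⟨g, hg⟩ := perm_three_involutions _ (hinv a ha).1 (hinv a ha).2 r hr.1 hr.2
      obtain ⟨y, rfl⟩ := hsurj g
      exact ⟨y * a * y⁻¹, hS.hE.closed.conj y a ha, by rw [map_mul, map_mul, map_inv, hg]⟩
  have hthree : (φ '' E).ncard = 3 := by
    rw [himg, ← Nat.card_coe_set_eq, Nat.card_eq_fintype_card, ← perm_three_count]
    exact Fintype.card_congr (Equiv.refl _)
  set sE := (Set.toFinite E).toFinset with hsE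
  have hfib : ∀ t ∈ sE.image φ, (sE.filter fun y => φ y = t).card = (cosetClass E L a).ncard := by
    intro t ht
    obtain ⟨c, hc, rfl⟩ := Finset.mem_image.1 ht
    rw [hsE, Set.Finite.mem_toFinset] at hc
    rw [← hL.ncard_coset_eq hS ha hc, ← Set.ncard_coe_finset]
    congr 1
    ext y
    simp [hsE, cosetClass, hφ]
  rw [Set.ncard_eq_toFinset_card E (Set.toFinite E), ← hsE, Finset.card_eq_sum_card_image φ sE,
    Finset.sum_congr rfl hfib, Finset.sum_const, smul_eq_mul]
  congr 1
  rw [← Set.ncard_coe_finset, Finset.coe_image, hsE, Set.Finite.coe_toFinset, hthree]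

end Split

variable {G : Type u} [Group G] [Finite G] {D : Set G} {Y : Type v} [Group Y] [Finite Y] {E : Set Y}
  {f : G → Y} {d : G}

/-- No class over three plus classes, given by points. -/
theorem not_over_split_points (hG : Good D) (C : Chart D d f E) (hS : Semi E) {L : Subgroup Y}
    (hL : Split E L) [L.Normal] (hQ : Nonempty (Y ⧸ L ≃* Equiv.Perm (Fin 3)))
    (hO : ∀ a ∈ E,
      (∃ (Q : QuadraticForm (ZMod 2) (Fin 4 ⊕ Fin 4 → ZMod 2))
          (ψ : coverGroup L a → Fin 4 ⊕ Fin 4 → ZMod 2),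
          OrthPts (coverClass E L a) Q ψ ∧ ∀ z, Q z = Cfsg.quadFormPlus 4 (ZMod 2) z) ∨
      ∃ (Q : QuadraticForm (ZMod 3) (Fin 8 → ZMod 3)) (c : ZMod 3)
          (ψ : coverGroup L a → Fin 8 → ZMod 3),
          ReflPts (coverClass E L a) Q c ψ ∧ Cfsg.polarGramDet (⇑Q) = 1) : False := by
  obtain ⟨a, ha, -⟩ := hS.pair
  obtain ⟨n, k, l, m, P, hm, hmk⟩ := exists_params hG
  have hinj : ∀ a : Y, Function.Injective (Subtype.val : coverGroup L a → Y) :=
    fun _ => Subtype.val_injective
  have hdeg : ∀ {b : coverGroup L a}, b ∈ coverClass E L a → ∀ {K : ℕ},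
      (nbr (coverClass E L a) b).ncard = K → ∀ e ∈ E, (nbr E e).ncard = K := by
    intro b hb K hK e he
    rw [hS.ncard_nbr_eq hb.1 he, ← hL.image_nbr b hb, Set.ncard_image_of_injective _ (hinj a), hK]
  have hsize : ∀ c ∈ E, (coverClass E L c).ncard = (coverClass E L a).ncard := fun c hc => by
    rw [ncard_coverClass, ncard_coverClass, hL.ncard_coset_eq hS ha hc]
  have hE3 : E.ncard = 3 * (coverClass E L a).ncard := by
    rw [ncard_coverClass, hL.ncard_eq_three_mul hS hQ ha]
  rcases hO a ha with ⟨Q, ψ, hE, hQf⟩ | ⟨Q, c, ψ, hE, hdet⟩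
  swap
  · obtain ⟨h1, b, hb, h2⟩ := hE.eight_numbers hdet
    obtain ⟨hk, hl⟩ := P.of_chart hG C (hdeg hb h2)
    rw [hE3, h1] at hk
    subst hk hl
    exact not_threeTwoForty hG hm P hmk
  obtain ⟨h1, b, hb, -, -, -, h2, -⟩ := hE.eight_numbers hQf
  obtain ⟨hk, hl⟩ := P.of_chart hG C (hdeg hb h2)
  rw [hE3, h1] at hk
  subst hk hl
  have hm36 := mu_threeSixty hG hm P hmk
  subst hm36
  obtain ⟨c, hcD, hdc⟩ :=
    exists_not_commute hG.set.hD.gen hG.set.hD.closed hG.set.hD.class_eq hG.set.hD.two C.mem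
  have M := muData hG P hm C hcD hdc
  set S := f '' (nbr D d ∩ nbr D c)
  have hnone : ∀ e ∈ S, ∀ y ∈ S, y ≠ e → ¬ Commute e y := by
    intro e he y hy hye hcomm
    obtain ⟨p, hp, hep, θ, hθ, -, -, himg⟩ := M.swap e he
    have heE := M.sub he
    have hyn : y ∈ S ∩ nbr E e := ⟨hy, M.sub hy, hye, hcomm⟩
    rw [himg] at hyn
    obtain ⟨z, ⟨hze, hzp⟩, -⟩ := hyn
    by_cases hep' : e⁻¹ * p ∈ L
    · rcases hO e heE with ⟨Q', ψ', hE', hQ'⟩ | ⟨Q', c', ψ', hE', hdet'⟩
      swap
      · have := (hE'.eight_numbers hdet').1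
        rw [hsize e heE, h1] at this
        omega
      obtain ⟨-, u, hu, w, hw, huw, -, h36⟩ := hE'.eight_numbers hQ'
      have hGe : Good (coverClass E L e) := hL.good_cover heE
      obtain ⟨_, _, _, m', P', -, -⟩ := exists_params hGe
      have hm' : m' = 36 := (P'.mu u hu w hw huw).symm.trans h36
      let e' : coverGroup L e := ⟨e, Split.mem_cover L e⟩
      let p' : coverGroup L e := ⟨p, mem_coverGroup hep'⟩
      have he' : e' ∈ coverClass E L e := ⟨heE, by simp [e', L.one_mem]⟩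
      have hp' : p' ∈ coverClass E L e := ⟨hp, hep'⟩
      have hmu := P'.mu e' he' p' hp' fun h => hep (h.map (coverGroup L e).subtype)
      have hcount : (nbr E e ∩ nbr E p).ncard = 36 := by
        rw [show nbr E e = nbr E (e' : Y) from rfl, show nbr E p = nbr E (p' : Y) from rfl,
          ← hL.image_nbr e' he', ← hL.image_nbr p' hp', ← Set.image_inter (hinj e),
          Set.ncard_image_of_injective _ (hinj e), hmu, hm']
      have hlt : (S ∩ nbr E e).ncard < S.ncard := by
        refine Set.ncard_lt_ncard ⟨Set.inter_subset_left, fun h => ?_⟩ (Set.toFinite _)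
        exact (h he).2.2.1 rfl
      rw [himg, Set.InjOn.ncard_image (hθ.injOn.mono Set.inter_subset_left), hcount, M.card] at hlt
      exact lt_irrefl _ hlt
    · refine hep' ?_
      have h1 := hL.same heE hze.1 hze.2.2
      have h2 := hL.same hp hzp.1 hzp.2.2
      have := L.mul_mem h1 (L.inv_mem h2)
      rwa [mul_inv_rev, inv_inv, mul_assoc, mul_inv_cancel_left] at this
  have hs := hS.hE.closed.set
  have hbr : WidthOne.Braided S :=
    ⟨fun x hx => mul_self hs (M.sub hx), fun x hx y hy => by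
      by_cases h : x = y
      · rw [h]
      · exact braid hs (M.sub hx) (M.sub hy) (hnone x hx y hy (Ne.symm h)), M.closed⟩
  obtain ⟨i, hi⟩ := exists_pow_three hbr M.ne
  rw [M.card] at hi
  rcases lt_or_ge i 4 with h | h
  · interval_cases i <;> norm_num at hi
  · have : 3 ^ 4 ≤ 3 ^ i := Nat.pow_le_pow_right (by norm_num) h
    omega

end CfsgLib.ThreeTrans.Classif
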