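import Mathlib
import Cfsg.Agent.Lib.ThreeTrans.Classif.Classify
import Cfsg.Agent.Lib.ThreeTrans.Classif.DisconnectedOrth
import Cfsg.Agent.Lib.ThreeTrans.Classif.KillSplit

/-! No good class lies over a disconnected one. -/

set_option autoImplicit false

namespace CfsgLib.ThreeTrans.Classif

open CfsgLib.ThreeTrans

universe u

/-- No good class lies over a disconnected one, given the point models. -/
theorem split_kill_of
    (hplus : ∀ {X : Type u} [Group X] {E : Set X}, KindOPlus E 4 →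
      ∃ (Q : QuadraticForm (ZMod 2) (Fin 4 ⊕ Fin 4 → ZMod 2)) (ψ : X → Fin 4 ⊕ Fin 4 → ZMod 2),
        OrthPts E Q ψ ∧ ∀ z, Q z = Cfsg.quadFormPlus 4 (ZMod 2) z)
    (hrefl : ∀ {X : Type u} [Group X] {E : Set X} {n : ℕ}
      (Q : QuadraticForm (ZMod 3) (Fin n → ZMod 3)) (c : ZMod 3), 5 ≤ n →
      (QuadraticMap.polarBilin Q).Nondegenerate → c ≠ 0 → KindRefl E Q c → ∃ ψ, ReflPts E Q c ψ)
    {G Y : Type u} [Group G] [Finite G] [Group Y] [Finite Y] {D : Set G} {E : Set Y}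
    {d : G} {f : G → Y} (hG : Good D) (C : Chart D d f E) (hS : Semi E)
    (hdisc : ¬ (Cfsg.commutingGraph E).Connected)
    (hK : ∀ (L : Subgroup Y), Split E L → ∀ a ∈ E,
      Known {y : coverGroup L a | (y : Y) ∈ cosetClass E L a}) : False := by
  obtain ⟨L, hL⟩ := hS.split hdisc
  haveI := hL.normal
  obtain ⟨a₀, ha₀, -⟩ := hS.hE.two
  refine not_over_split_points hG C hS hL (hL.orth_case hS ha₀ (hK L hL a₀ ha₀)).1 fun a ha => ?_
  have h3 := hL.three_dvd_out hS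
  rcases hL.kinds hS ha (hK L hL a ha) with (⟨m, hm, h⟩ | ⟨m, hm, h⟩) | ⟨n, hn, Q, hQ, c, hc, h⟩
  · rcases hL.out_oPlus ha hm h with ⟨rfl, -, -⟩ | h2
    · exact Or.inl (hplus h)
    · rw [h2] at h3; omega
  · rw [hL.out_oMinus ha hm h] at h3; omega
  · rcases hL.out_refl ha hn hQ hc h with ⟨rfl, hdet, -, -⟩ | h2
    · obtain ⟨ψ, hψ⟩ := hrefl Q c (by norm_num) hQ hc h
      exact Or.inr ⟨Q, c, ψ, hψ, hdet⟩
    · exact absurd h3 h2

end CfsgLib.ThreeTrans.Classif
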