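import Mathlib
import Cfsg.Agent.Lib.ThreeTrans.Classif.MuSet

/-!
The image of the members commuting with two non-commuting members is never of the required shape in
the class of non-singular vectors of a quadratic space of dimension at least eight over two elements.
-/

set_option autoImplicit false

namespace CfsgLib.ThreeTrans.Classif

open CfsgLib.ThreeTrans.LocalSymThree (nbr)
open QuadraticMap

universe v w

variable {Y : Type v} [Group Y] {E S : Set Y} {W : Type w} [AddCommGroup W] [Module (ZMod 2) W]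
  {Q : QuadraticForm (ZMod 2) W} {ψ : Y → W}

private theorem two_cases (z : ZMod 2) : z = 0 ∨ z = 1 := by revert z; decide

private theorem vec_self (x : W) : x + x = 0 := by
  rw [← two_smul (ZMod 2) x, show (2 : ZMod 2) = 0 by decide, zero_smul]

private theorem polar_self_two (x : W) : polar Q x x = 0 := by
  rw [QuadraticMap.polar_self, two_nsmul]; rcases two_cases (Q x) with h | h <;> rw [h] <;> decide

/-- For `x` orthogonal to `a`, the one of `x` and `x + a` with value one. -/
private def rep (Q : QuadraticForm (ZMod 2) W) (a x : W) : W := x + (1 + Q x) • a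

/-- Additive on the vectors orthogonal to `a`. -/
private def AddAt (Q : QuadraticForm (ZMod 2) W) (a : W) (L : W → ZMod 2) : Prop :=
  ∀ u v, polar Q a u = 0 → polar Q a v = 0 → L (u + v) = L u + L v

private theorem polar_rep {a x : W} (ha : polar Q a x = 0) : polar Q a (rep Q a x) = 0 := by
  rw [rep, polar_add_right, polar_smul_right, polar_self_two, ha, smul_zero, add_zero]

private theorem Q_rep {a x : W} (hQ : Q a = 1) (ha : polar Q a x = 0) : Q (rep Q a x) = 1 := by
  rcases two_cases (Q x) with h | h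
  · rw [rep, h, add_zero, one_smul, QuadraticMap.map_add (⇑Q), polar_comm, ha, h, hQ]
    decide
  · rw [rep, h, show (1 : ZMod 2) + 1 = 0 by decide, zero_smul, add_zero, h]

private theorem rep_ne {a x : W} (h0 : x ≠ 0) (h1 : x ≠ a) : rep Q a x ≠ a := by
  rcases two_cases (Q x) with h | h
  · rw [rep, h, add_zero, one_smul]
    exact fun e => h0 (by simpa using e)
  · rw [rep, h, show (1 : ZMod 2) + 1 = 0 by decide, zero_smul, add_zero]
    exact h1

private theorem apply_rep {a x : W} {L : W → ZMod 2} (hL : AddAt Q a L) (hLa : L a = 1)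
    (ha : polar Q a x = 0) : L (rep Q a x) = L x + (1 + Q x) := by
  rcases two_cases (Q x) with h | h
  · rw [rep, h, add_zero, one_smul, hL x a ha (polar_self_two a), hLa]
  · rw [rep, h, show (1 : ZMod 2) + 1 = 0 by decide, zero_smul, add_zero, add_zero]

/-- The shape of the set at one of its members. -/
private theorem functional [Finite W] (hE : OrthPts E Q ψ) {m : ℕ} (hS : MuData E S m)
    {a : Y} (ha : a ∈ S) : ∃ L : W → ZMod 2, AddAt Q (ψ a) L ∧ L (ψ a) = 1 ∧
      ∀ y ∈ E, y ≠ a → Commute a y → (y ∈ S ↔ L (ψ y) = 0) := by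
  classical
  obtain ⟨p, hp, hap, θ, hθ, hθc, -, himg⟩ := hS.swap a ha
  have haE : a ∈ E := hS.sub ha
  set α := ψ a with hα
  have hQa : Q α = 1 := hE.bij.mapsTo haE
  have hBap : polar Q α (ψ p) = 1 :=
    (two_cases _).resolve_left fun h => hap ((hE.comm a haE p hp).2 h)
  -- the vertices over a vector orthogonal to `α`
  have hvert : ∀ x, polar Q α x = 0 → x ≠ 0 → x ≠ α → ∃ y ∈ nbr E a, ψ y = rep Q α x := by
    intro x hx h0 h1
    obtain ⟨y, hy, hyx⟩ := hE.bij.surjOn (show rep Q α x ∈ {z | Q z = 1} from Q_rep hQa hx)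
    exact ⟨y, ⟨hy, fun e => rep_ne h0 h1 (by rw [← hyx, e]),
      (hE.comm a haE y hy).2 (by rw [hyx, polar_rep hx])⟩, hyx⟩
  -- the inverse of `θ` as a map of the hyperplane
  let inv := Function.invFunOn θ (nbr E a)
  have hinv : ∀ y ∈ nbr E a, inv y ∈ nbr E a ∧ θ (inv y) = y := fun y hy =>
    ⟨Function.invFunOn_mem (hθ.surjOn hy), Function.invFunOn_eq (hθ.surjOn hy)⟩
  let η : W → Y := Function.invFunOn ψ E
  let Θ : W → W := fun x =>
    if x = 0 ∨ x = α then x else ψ (inv (η (rep Q α x))) + (1 + Q x) • α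
  have hη : ∀ y ∈ E, η (ψ y) = y := fun y hy => hE.bij.injOn.leftInvOn_invFunOn hy
  have hΘ : ∀ x, polar Q α x = 0 → x ≠ 0 → x ≠ α → ∃ y ∈ nbr E a, ψ y = rep Q α x ∧
      Θ x = ψ (inv y) + (1 + Q x) • α := by
    intro x hx h0 h1
    obtain ⟨y, hy, hyx⟩ := hvert x hx h0 h1
    refine ⟨y, hy, hyx, ?_⟩
    simp only [Θ, h0, h1, or_self, if_false]
    rw [← hyx, hη y hy.1]
  have hΘ0 : Θ 0 = 0 := by simp [Θ]
  have hΘα : Θ α = α := by simp [Θ]
  have hperp : ∀ x, polar Q α x = 0 → polar Q α (Θ x) = 0 := by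
    intro x hx
    by_cases h0 : x = 0
    · rw [h0, hΘ0, polar_zero_right]
    by_cases h1 : x = α
    · rw [h1, hΘα, polar_self_two]
    obtain ⟨y, hy, -, e⟩ := hΘ x hx h0 h1
    rw [e, polar_add_right, polar_smul_right, polar_self_two, smul_zero, add_zero]
    exact (hE.comm a haE _ (hinv y hy).1.1).1 (hinv y hy).1.2.2
  have hQΘ : ∀ x, polar Q α x = 0 → Q (Θ x) = Q x := by
    intro x hx
    by_cases h0 : x = 0
    · rw [h0, hΘ0]
    by_cases h1 : x = α
    · rw [h1, hΘα]
    obtain ⟨y, hy, -, e⟩ := hΘ x hx h0 h1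
    have hQi : Q (ψ (inv y)) = 1 := hE.bij.mapsTo (hinv y hy).1.1
    have hBi : polar Q (ψ (inv y)) α = 0 := by
      rw [polar_comm]; exact (hE.comm a haE _ (hinv y hy).1.1).1 (hinv y hy).1.2.2
    rcases two_cases (Q x) with h | h
    · rw [e, h, add_zero, one_smul, QuadraticMap.map_add (⇑Q), hQi, hQa, hBi]; decide
    · rw [e, h, show (1 : ZMod 2) + 1 = 0 by decide, zero_smul, add_zero, hQi]
  have hinj : ∀ x z, polar Q α x = 0 → polar Q α z = 0 → Θ x = Θ z → x = z := by
    intro x z hx hz h
    have hout : ∀ u, polar Q α u = 0 → u ≠ 0 → u ≠ α → Θ u ≠ 0 ∧ Θ u ≠ α := by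
      intro u hu h0 h1
      obtain ⟨y, hy, -, e⟩ := hΘ u hu h0 h1
      have hne : ψ (inv y) ≠ α := fun k => (hinv y hy).1.2.1 (hE.bij.injOn (hinv y hy).1.1 haE k)
      have hne0 : ψ (inv y) ≠ 0 := fun k => one_ne_zero
        ((hE.bij.mapsTo (hinv y hy).1.1 : Q (ψ (inv y)) = 1).symm.trans (by rw [k, map_zero]))
      rw [e]
      rcases two_cases (Q u) with k | k
      · rw [k, add_zero, one_smul]
        refine ⟨fun k => hne ?_, fun k => hne0 (by simpa using k)⟩
        rw [← add_zero (ψ (inv y)), ← vec_self α, ← add_assoc, k, zero_add]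
      · rw [k, show (1 : ZMod 2) + 1 = 0 by decide, zero_smul, add_zero]
        exact ⟨hne0, hne⟩
    have hQx : Q x = Q z := by rw [← hQΘ x hx, h, hQΘ z hz]
    by_cases hx0 : x = 0 ∨ x = α
    · by_cases hz0 : z = 0 ∨ z = α
      · rcases hx0 with rfl | rfl <;> rcases hz0 with rfl | rfl <;> simp_all
      · push Not at hz0
        have := hout z hz hz0.1 hz0.2
        rw [← h] at this
        rcases hx0 with rfl | rfl
        · exact absurd hΘ0 this.1
        · exact absurd hΘα this.2
    push Not at hx0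
    by_cases hz0 : z = 0 ∨ z = α
    · have := hout x hx hx0.1 hx0.2
      rw [h] at this
      rcases hz0 with rfl | rfl
      · exact absurd hΘ0 this.1
      · exact absurd hΘα this.2
    push Not at hz0
    obtain ⟨y, hy, hyx, e⟩ := hΘ x hx hx0.1 hx0.2
    obtain ⟨y', hy', hyz, e'⟩ := hΘ z hz hz0.1 hz0.2
    rw [e, e', hQx, add_left_inj] at h
    have k := hE.bij.injOn (hinv y hy).1.1 (hinv y' hy').1.1 h
    have k' : y = y' := by rw [← (hinv y hy).2, k, (hinv y' hy').2]
    rw [k', hyz, rep, rep, hQx] at hyx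
    exact (add_right_cancel hyx).symm
  have hBΘ : ∀ x z, polar Q α x = 0 → polar Q α z = 0 →
      polar Q (Θ x) (Θ z) = polar Q x z := by
    intro x z hx hz
    by_cases hx0 : x = 0
    · rw [hx0, hΘ0, polar_zero_left, polar_zero_left]
    by_cases hx1 : x = α
    · rw [hx1, hΘα, hperp z hz, hz]
    by_cases hz0 : z = 0
    · rw [hz0, hΘ0, polar_zero_right, polar_zero_right]
    by_cases hz1 : z = α
    · rw [hz1, hΘα, polar_comm _ x α, polar_comm _ (Θ x) α, hperp x hx, hx]
    obtain ⟨y, hy, hyx, e⟩ := hΘ x hx hx0 hx1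
    obtain ⟨y', hy', hyz, e'⟩ := hΘ z hz hz0 hz1
    have hxz : polar Q (ψ y) (ψ y') = polar Q x z := by
      rw [hyx, hyz, rep, rep]
      simp only [polar_add_left, polar_add_right, polar_smul_left, polar_smul_right, polar_self_two,
        polar_comm _ x α, hx, hz, smul_zero, add_zero]
    have hi : polar Q (ψ (inv y)) (ψ (inv y')) = polar Q (ψ y) (ψ y') := by
      have h1 := hθc _ (hinv y hy).1 _ (hinv y' hy').1
      rw [(hinv y hy).2, (hinv y' hy').2, hE.comm y hy.1 y' hy'.1,
        hE.comm _ (hinv y hy).1.1 _ (hinv y' hy').1.1] at h1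
      rcases two_cases (polar Q (ψ y) (ψ y')) with k | k
      · rw [k]; exact h1.1 k
      · rw [k]
        refine (two_cases _).resolve_left fun k' => ?_
        rw [h1.2 k'] at k
        exact zero_ne_one k
    have ha1 : polar Q α (ψ (inv y)) = 0 := (hE.comm a haE _ (hinv y hy).1.1).1 (hinv y hy).1.2.2
    have ha2 : polar Q α (ψ (inv y')) = 0 := (hE.comm a haE _ (hinv y' hy').1.1).1 (hinv y' hy').1.2.2
    rw [e, e', ← hxz, ← hi]
    simp only [polar_add_left, polar_add_right, polar_smul_left, polar_smul_right, polar_self_two,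
      polar_comm _ (ψ (inv y)) α, ha1, ha2, smul_zero, add_zero]
  have hsurj : ∀ z, polar Q α z = 0 → ∃ x, polar Q α x = 0 ∧ Θ x = z := by
    have hm : ∀ x ∈ {x : W | polar Q α x = 0}, Θ x ∈ {x : W | polar Q α x = 0} := hperp
    have := ((Set.toFinite {x : W | polar Q α x = 0}).injOn_iff_bijOn_of_mapsTo hm).1
      (fun x hx z hz h => hinj x z hx hz h) |>.surjOn
    exact fun z hz => this hz
  -- the radical of the hyperplane
  have hrad : ∀ d, (∀ z, polar Q α z = 0 → polar Q d z = 0) → d = 0 ∨ d = α := by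
    intro d hd
    by_cases h : ∀ z, polar Q d z = 0
    · exact Or.inl (hE.sep d h)
    push Not at h
    obtain ⟨z₀, hz₀⟩ := h
    have hz1 : polar Q α z₀ = 1 := (two_cases _).resolve_left fun k => hz₀ (hd z₀ k)
    refine Or.inr ?_
    have h0 : d + α = 0 := by
      refine hE.sep _ fun z => ?_
      rw [polar_add_left]
      rcases two_cases (polar Q α z) with k | k
      · rw [hd z k, k, add_zero]
      · have := hd (z + z₀) (by rw [polar_add_right, k, hz1]; decide)
        rw [polar_add_right, (two_cases _).resolve_left hz₀] at this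
        rw [k]; exact this
    rw [← add_zero d, ← vec_self α, ← add_assoc, h0, zero_add]
  have hadd : ∀ u z, polar Q α u = 0 → polar Q α z = 0 → Θ (u + z) = Θ u + Θ z := by
    intro u z hu hz
    have huz : polar Q α (u + z) = 0 := by rw [polar_add_right, hu, hz, add_zero]
    have hd : Θ (u + z) + (Θ u + Θ z) = 0 ∨ Θ (u + z) + (Θ u + Θ z) = α := by
      refine hrad _ fun t ht => ?_
      obtain ⟨x, hx, rfl⟩ := hsurj t ht
      rw [polar_add_left, polar_add_left, hBΘ _ x huz hx, hBΘ u x hu hx, hBΘ z x hz hx,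
        polar_add_left]
      exact CharTwo.add_self_eq_zero _
    have hq : Q (Θ u + Θ z) = Q (u + z) := by
      rw [QuadraticMap.map_add (⇑Q), QuadraticMap.map_add (⇑Q) u, hQΘ u hu, hQΘ z hz, hBΘ u z hu hz]
    rcases hd with hd | hd
    · rw [← add_zero (Θ (u + z)), ← vec_self (Θ u + Θ z), ← add_assoc, hd, zero_add]
    · have e : Θ (u + z) = Θ u + Θ z + α := by
        rw [← hd, add_comm (Θ (u + z)), ← add_assoc, vec_self, zero_add]
      have h1 := hQΘ _ huz
      rw [e, QuadraticMap.map_add (⇑Q) _ α, hQa, hq, polar_add_left, polar_comm _ (Θ u),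
        polar_comm _ (Θ z), hperp u hu, hperp z hz, add_zero, add_zero] at h1
      exact absurd (add_eq_left.1 h1) one_ne_zero
  refine ⟨fun x => polar Q (Θ x) (ψ p), fun u z hu hz => ?_, ?_, fun y hy hne hya => ?_⟩
  · show polar Q (Θ (u + z)) (ψ p) = polar Q (Θ u) (ψ p) + polar Q (Θ z) (ψ p)
    rw [hadd u z hu hz, polar_add_left]
  · show polar Q (Θ α) (ψ p) = 1
    rw [hΘα, hBap]
  · have hyN : y ∈ nbr E a := ⟨hy, hne, hya⟩
    have hQy : Q (ψ y) = 1 := hE.bij.mapsTo hy
    have hy0 : polar Q α (ψ y) = 0 := (hE.comm a haE y hy).1 hya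
    have hyα : ψ y ≠ α := fun e => hne (hE.bij.injOn hy haE e)
    have hyz : ψ y ≠ 0 := fun e => one_ne_zero (hQy.symm.trans (by rw [e, map_zero]))
    obtain ⟨y', hy', hyy, e⟩ := hΘ (ψ y) hy0 hyz hyα
    rw [rep, hQy, show (1 : ZMod 2) + 1 = 0 by decide, zero_smul, add_zero] at hyy
    rw [hE.bij.injOn hy'.1 hy hyy, hQy, show (1 : ZMod 2) + 1 = 0 by decide, zero_smul, add_zero] at e
    show y ∈ S ↔ polar Q (Θ (ψ y)) (ψ p) = 0
    rw [e, ← hE.comm _ (hinv y hyN).1.1 p hp]
    constructor
    · intro hyS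
      have h : y ∈ θ '' (nbr E a ∩ nbr E p) := himg ▸ ⟨hyS, hyN⟩
      obtain ⟨u, hu, rfl⟩ := h
      rw [show inv (θ u) = u from hθ.injOn (hinv _ hyN).1 hu.1 (hinv _ hyN).2]
      exact hu.2.2.2.symm
    · intro hc
      refine (himg.symm ▸ ⟨inv y, ⟨(hinv y hyN).1, (hinv y hyN).1.1, fun k => ?_, hc.symm⟩,
        (hinv y hyN).2⟩ : y ∈ S ∩ nbr E a).1
      exact hap (k ▸ (hinv y hyN).1.2.2)

theorem not_orth [Finite W] (hE : OrthPts E Q ψ) (hdim : 8 ≤ Module.finrank (ZMod 2) W) {m : ℕ}
    (hS : MuData E S m) : False := by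
  classical
  haveI : Fintype W := Fintype.ofFinite W
  obtain ⟨a, ha⟩ := hS.ne
  have haE := hS.sub ha
  set α := ψ a with hα
  have hQa : Q α = 1 := hE.bij.mapsTo haE
  obtain ⟨L, hL, hLa, hLS⟩ := functional hE hS ha
  -- a member of the set commuting with `a`
  obtain ⟨b, hb, hba, hab⟩ : ∃ b ∈ S, b ≠ a ∧ Commute a b := by
    by_contra! hno
    have key : ∀ x, polar Q α x = 0 → x ≠ 0 → x ≠ α → L x = Q x + 0 := by
      intro x hx h0 h1
      obtain ⟨y, hy, hyx⟩ := hE.bij.surjOn (show rep Q α x ∈ {z | Q z = 1} from Q_rep hQa hx)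
      have hne : y ≠ a := fun e => rep_ne h0 h1 (by rw [← hyx, e])
      have hc : Commute a y := (hE.comm a haE y hy).2 (by rw [hyx, polar_rep hx])
      have h2 : L (rep Q α x) ≠ 0 := fun k => hno y ((hLS y hy hne hc).2 (hyx ▸ k)) hne hc
      rw [apply_rep hL hLa hx] at h2
      have := (two_cases _).resolve_left h2
      rcases two_cases (Q x) with k | k <;> rcases two_cases (L x) with k' | k' <;>
        simp_all <;> (revert this; decide)
    have hB : ∀ x z, polar Q α x = 0 → polar Q α z = 0 → x ≠ 0 → x ≠ α → z ≠ 0 → z ≠ α →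
        x + z ≠ 0 → x + z ≠ α → polar Q x z = 0 := by
      intro x z hx hz h1 h2 h3 h4 h5 h6
      have := key (x + z) (by rw [polar_add_right, hx, hz, add_zero]) h5 h6
      rw [hL x z hx hz, key x hx h1 h2, key z hz h3 h4, QuadraticMap.map_add (⇑Q), add_zero,
        add_zero, add_zero] at this
      exact add_eq_left.1 this.symm
    let f : W →ₗ[ZMod 2] ZMod 2 := Q.polarBilin α
    have hker : Module.finrank (ZMod 2) W ≤ Module.finrank (ZMod 2) (LinearMap.ker f) + 1 := by
      have := f.finrank_range_add_finrank_ker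
      have h1 : Module.finrank (ZMod 2) (LinearMap.range f) ≤ 1 := by
        simpa using Submodule.finrank_le (LinearMap.range f)
      omega
    obtain ⟨x, hx, hxn⟩ : ∃ x ∈ LinearMap.ker f, x ∉ Submodule.span (ZMod 2) {α} := by
      by_contra! h
      have := (Submodule.finrank_mono h).trans (finrank_span_le_card ({α} : Set W))
      simp at this
      omega
    have hx' : polar Q α x = 0 := hx
    have h0 : x ≠ 0 := fun e => hxn (e ▸ Submodule.zero_mem _)
    have h1 : x ≠ α := fun e => hxn (e ▸ Submodule.subset_span rfl)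
    -- some vector of the hyperplane is not orthogonal to it
    obtain ⟨z, hz, hxz⟩ : ∃ z, polar Q α z = 0 ∧ polar Q x z = 1 := by
      by_contra! h
      have h' : ∀ z, polar Q α z = 0 → polar Q x z = 0 := fun z hz =>
        (two_cases _).resolve_right (h z hz)
      obtain ⟨z₀, hz₀⟩ : ∃ z, polar Q α z ≠ 0 := by
        by_contra! k
        exact one_ne_zero (hQa.symm.trans (by rw [hE.sep α k, map_zero]))
      have hz1 := (two_cases _).resolve_left hz₀
      rcases two_cases (polar Q x z₀) with k | k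
      · refine h0 (hE.sep x fun z => ?_)
        rcases two_cases (polar Q α z) with k' | k'
        · exact h' z k'
        · have := h' (z + z₀) (by rw [polar_add_right, k', hz1]; decide)
          rwa [polar_add_right, k, add_zero] at this
      · refine h1 ?_
        have : x + α = 0 := hE.sep _ fun z => by
          rw [polar_add_left]
          rcases two_cases (polar Q α z) with k' | k'
          · rw [h' z k', k', add_zero]
          · have := h' (z + z₀) (by rw [polar_add_right, k', hz1]; decide)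
            rw [polar_add_right, k] at this
            rw [k']; exact this
        rw [← add_zero x, ← vec_self α, ← add_assoc, this, zero_add]
    refine zero_ne_one ((hB x z hx' hz h0 h1 ?_ ?_ ?_ ?_).symm.trans hxz)
    · rintro rfl; rw [polar_zero_right] at hxz; exact zero_ne_one hxz
    · rintro rfl; rw [polar_comm, hx'] at hxz; exact zero_ne_one hxz
    · intro e
      have e' : x = z := by rw [← add_zero x, ← vec_self z, ← add_assoc, e, zero_add]
      rw [e', polar_self_two] at hxz; exact zero_ne_one hxz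
    · intro e
      have e' : z = x + α := by rw [← e, ← add_assoc, vec_self, zero_add]
      rw [e', polar_add_right, polar_self_two, zero_add, polar_comm, hx'] at hxz
      exact zero_ne_one hxz
  -- compare with the shape at `b`
  have hbE := hS.sub hb
  set β := ψ b with hβ
  obtain ⟨M, hM, hMb, hMS⟩ := functional hE hS hb
  have hMa : M α = 0 := (hMS a haE (Ne.symm hba) hab.symm).1 ha
  have hαβ : polar Q α β = 0 := (hE.comm a haE b hbE).1 hab
  let fb : W →ₗ[ZMod 2] ZMod 2 := Q.polarBilin β
  let Mh : LinearMap.ker fb →ₗ[ZMod 2] ZMod 2 :=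
    (AddMonoidHom.mk' (fun x => M x.1) (fun x z => hM x.1 z.1 x.2 z.2)).toZModLinearMap 2
  obtain ⟨g, hg⟩ := LinearMap.exists_extend Mh
  let Φ : W →ₗ[ZMod 2] (Fin 3 → ZMod 2) := LinearMap.pi ![Q.polarBilin α, fb, g]
  have hΦ : Module.finrank (ZMod 2) W ≤ Module.finrank (ZMod 2) (LinearMap.ker Φ) + 3 := by
    have := Φ.finrank_range_add_finrank_ker
    have h1 : Module.finrank (ZMod 2) (LinearMap.range Φ) ≤ 3 := by
      simpa using Submodule.finrank_le (LinearMap.range Φ)
    omega
  have hU : ∀ x ∈ LinearMap.ker Φ, polar Q α x = 0 ∧ polar Q β x = 0 ∧ M x = 0 := by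
    intro x hx
    rw [LinearMap.mem_ker] at hx
    have h0 : polar Q α x = 0 := by simpa [Φ] using congrFun hx 0
    have h1 : polar Q β x = 0 := by simpa [Φ, fb] using congrFun hx 1
    have h2 : g x = 0 := by simpa [Φ] using congrFun hx 2
    refine ⟨h0, h1, ?_⟩
    have := LinearMap.congr_fun hg ⟨x, h1⟩
    exact this.symm.trans h2
  have key : ∀ x ∈ LinearMap.ker Φ, x ≠ 0 → x ≠ α → L x = Q x + 1 := by
    intro x hx h0 h1
    obtain ⟨hxa, hxb, hxM⟩ := hU x hx
    obtain ⟨y, hy, hyx⟩ := hE.bij.surjOn (show rep Q α x ∈ {z | Q z = 1} from Q_rep hQa hxa)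
    have hne : y ≠ a := fun e => rep_ne h0 h1 (by rw [← hyx, e])
    have hc : Commute a y := (hE.comm a haE y hy).2 (by rw [hyx, polar_rep hxa])
    have hyb : polar Q β (rep Q α x) = 0 := by
      rw [rep, polar_add_right, polar_smul_right, hxb, polar_comm, hαβ, smul_zero, add_zero]
    have hyM : M (rep Q α x) = 0 := by
      have hβα : polar Q β α = 0 := by rw [polar_comm]; exact hαβ
      rcases two_cases (Q x) with k | k
      · rw [rep, k, add_zero, one_smul, hM x α hxb hβα, hxM, hMa, add_zero]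
      · rw [rep, k, show (1 : ZMod 2) + 1 = 0 by decide, zero_smul, add_zero, hxM]
    have hneb : y ≠ b := fun e => by
      rw [← hyx, e, hMb] at hyM; exact one_ne_zero hyM
    have hyS : y ∈ S := (hMS y hy hneb ((hE.comm b hbE y hy).2 (hyx ▸ hyb))).2 (hyx ▸ hyM)
    have h2 := (hLS y hy hne hc).1 hyS
    rw [hyx, apply_rep hL hLa hxa] at h2
    rcases two_cases (Q x) with k | k <;> rcases two_cases (L x) with k' | k' <;>
      simp_all <;> (revert h2; decide)
  have hB : ∀ x z, x ∈ LinearMap.ker Φ → z ∈ LinearMap.ker Φ → x ∉ Submodule.span (ZMod 2) {α} →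
      z ∉ Submodule.span (ZMod 2) {α} → x + z ∉ Submodule.span (ZMod 2) {α} → polar Q x z = 1 := by
    intro x z hx hz h1 h2 h3
    have hne : ∀ u, u ∉ Submodule.span (ZMod 2) {α} → u ≠ 0 ∧ u ≠ α := fun u hu =>
      ⟨fun e => hu (e ▸ Submodule.zero_mem _), fun e => hu (e ▸ Submodule.subset_span rfl)⟩
    have := key (x + z) (add_mem hx hz) (hne _ h3).1 (hne _ h3).2
    rw [hL x z (hU x hx).1 (hU z hz).1, key x hx (hne _ h1).1 (hne _ h1).2,
      key z hz (hne _ h2).1 (hne _ h2).2, QuadraticMap.map_add (⇑Q)] at this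
    rcases two_cases (Q x) with k | k <;> rcases two_cases (Q z) with k' | k' <;>
      rcases two_cases (polar Q x z) with k'' | k'' <;> simp_all <;> (revert this; decide)
  have pick : ∀ l : Finset W, l.card ≤ 4 → ∃ x ∈ LinearMap.ker Φ,
      x ∉ Submodule.span (ZMod 2) (l : Set W) := by
    intro l hl
    by_contra! h
    have := (Submodule.finrank_mono h).trans (finrank_span_finset_le_card l)
    omega
  obtain ⟨x, hx, hxn⟩ := pick {α} (by simp)
  obtain ⟨z, hz, hzn⟩ := pick {α, x} (Finset.card_le_two.trans (by norm_num))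
  obtain ⟨t, ht, htn⟩ := pick {α, x, z} (Finset.card_le_three.trans (by norm_num))
  simp only [Finset.coe_insert, Finset.coe_singleton] at hxn hzn htn
  have m1 : ∀ {u : W} {s : Set W}, u ∈ s → u ∈ Submodule.span (ZMod 2) s :=
    fun h => Submodule.subset_span h
  have hsub : ∀ {u : W}, u ∈ Submodule.span (ZMod 2) {α} → ∀ {s : Set W}, α ∈ s →
      u ∈ Submodule.span (ZMod 2) s := fun hu _ hs =>
    Submodule.span_mono (Set.singleton_subset_iff.2 hs) hu
  have hcancel : ∀ u v : W, u = u + v + v := fun u v => by rw [add_assoc, vec_self, add_zero]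
  have hzα : z ∉ Submodule.span (ZMod 2) {α} := fun h => hzn (hsub h (by simp))
  have htα : t ∉ Submodule.span (ZMod 2) {α} := fun h => htn (hsub h (by simp))
  have hztα : z + t ∉ Submodule.span (ZMod 2) {α} := fun h => htn (by
    rw [hcancel t z]; exact add_mem (add_comm z t ▸ hsub h (by simp)) (m1 (by simp)))
  have hxzα : x + z ∉ Submodule.span (ZMod 2) {α} := fun h => hzn (by
    rw [hcancel z x]; exact add_mem (add_comm x z ▸ hsub h (by simp)) (m1 (by simp)))
  have hxtα : x + t ∉ Submodule.span (ZMod 2) {α} := fun h => htn (by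
    rw [hcancel t x]; exact add_mem (add_comm x t ▸ hsub h (by simp)) (m1 (by simp)))
  have hxztα : x + (z + t) ∉ Submodule.span (ZMod 2) {α} := fun h => htn (by
    rw [hcancel t (x + z)]
    refine add_mem ?_ (add_mem (m1 (by simp)) (m1 (by simp)))
    rw [show t + (x + z) = x + (z + t) by abel]
    exact hsub h (by simp))
  have h1 := hB x (z + t) hx (add_mem hz ht) hxn hztα hxztα
  rw [polar_add_right, hB x z hx hz hxn hzα hxzα, hB x t hx ht hxn htα hxtα] at h1
  exact absurd h1 (by decide)

end CfsgLib.ThreeTrans.Classif
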