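import Cfsg.Agent.Lib.ThreeTrans.Classif.UFiveData
import Cfsg.Agent.Lib.ThreeTrans.Classif.MuSet
import Cfsg.Agent.Lib.ThreeTrans.Classif.Counting

/-!
The class of transvections of `PSU(5,2)` is not the class one level down of a good class.

Two commuting members `A`, `B` of the neighbourhood of `d` have at most thirty-two common partners
far from `d`, in pairs with the same common partners with `d`. Products of transvections fixing the
three give at least seventeen different such sets of common partners: at `A` and at `B` such a set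
meets every line once, and the quotient of two products moves some line completely.
-/

set_option autoImplicit false
set_option linter.unusedSectionVars false

namespace CfsgLib.ThreeTrans.Classif

open CfsgLib.ThreeTrans
open CfsgLib.ThreeTrans.LocalSymThree (nbr nbr_symm)

universe u v

namespace UFive

/-- The common partners of a fixed point and one not commuting with it meet every line at it. -/
theorem mu_meets {s : Bool} {p x : ℕ} (hp : p ∈ pts) (hsp : hf (side s) p ≠ 0) (hx : x ∈ sideNbr s) :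
    ∃ t ∈ sideNbr s, hf p t = 0 ∧ (t = x ∨ hf t x = 0) := by
  obtain ⟨L, hL, hxL⟩ := (lines_spec s).1 x hx
  obtain ⟨t, ht⟩ := List.length_eq_one_iff.1 (mu_lines s p hp hsp L hL)
  have hm : t ∈ L.filter fun t => hf p t = 0 := ht ▸ List.mem_singleton_self t
  rw [List.mem_filter, decide_eq_true_eq] at hm
  obtain ⟨h1, h2⟩ := (lines_spec s).2 L hL t hm.1
  exact ⟨t, h1, hm.2, h2 x hxL⟩

/-- Two of these partners which commute are equal. -/
theorem mu_anti {s : Bool} {p t t' : ℕ} (hp : p ∈ pts) (hsp : hf (side s) p ≠ 0) (ht : t ∈ sideNbr s)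
    (hpt : hf p t = 0) (ht' : t' ∈ sideNbr s) (hpt' : hf p t' = 0) (h : hf t t' = 0) : t = t' := by
  obtain ⟨L, hL, hxL⟩ := (lines_spec s).1 t' ht'
  have hmem := lines_closed s L hL t' hxL t ht (Or.inr h)
  obtain ⟨z, hz⟩ := List.length_eq_one_iff.1 (mu_lines s p hp hsp L hL)
  have h1 : t ∈ L.filter fun t => hf p t = 0 := List.mem_filter.2 ⟨hmem, decide_eq_true hpt⟩
  have h2 : t' ∈ L.filter fun t => hf p t = 0 := List.mem_filter.2 ⟨hxL, decide_eq_true hpt'⟩
  rw [hz, List.mem_singleton] at h1 h2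
  rw [h1, h2]

variable {G : Type u} [Group G] [Finite G] {D : Set G} {d : G} {Y : Type v} [Group Y] {E : Set Y}
  {f : G → Y} (hG : Good D) (C : Chart D d f E) {κ : Y → ℕ}
  (hκ : Set.BijOn κ E {n | n ∈ pts}) (hcm : ∀ a ∈ E, ∀ b ∈ E, (Commute a b ↔ hf (κ a) (κ b) = 0))
  (hcj : ∀ a ∈ E, ∀ b ∈ E, κ (a * b * a) = tr (κ a) (κ b))

/-- The member of a code. -/
noncomputable def pre (D : Set G) (d : G) (f : G → Y) (κ : Y → ℕ) (n : ℕ) : G :=
  Function.invFunOn (fun a => κ (f a)) (nbr D d) n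

/-- The product of the members of a list of codes. -/
noncomputable def elt (D : Set G) (d : G) (f : G → Y) (κ : Y → ℕ) (w : List ℕ) : G :=
  (w.map (pre D d f κ)).prod

/-- The members commuting with `d`, `a` and `c`. -/
def common (D : Set G) (d a c : G) : Set G := nbr D d ∩ (nbr D a ∩ nbr D c)

omit [Finite G] in
theorem common_conj (hc : ConjClosed D) {g a c : G} (hd : g * d * g⁻¹ = d) (ha : g * a * g⁻¹ = a) :
    common D d a (g * c * g⁻¹) = (fun y => g * y * g⁻¹) '' common D d a c := by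
  have hinj : Function.Injective fun y : G => g * y * g⁻¹ :=
    fun x y h => mul_left_cancel (mul_right_cancel h)
  have e1 := InnerTwins.nbr_conj hc g d
  rw [hd] at e1
  have e2 := InnerTwins.nbr_conj hc g a
  rw [ha] at e2
  rw [common, common, Set.image_inter hinj, Set.image_inter hinj, ← e1, ← e2,
    InnerTwins.nbr_conj hc g c]

/-- `g` fixes `d` and both points, and the common partners of `c` at both. -/
def Keeps (D : Set G) (d : G) (f : G → Y) (κ : Y → ℕ) (c g : G) : Prop :=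
  g * d * g⁻¹ = d ∧ ∀ s : Bool, g * pre D d f κ (side s) * g⁻¹ = pre D d f κ (side s) ∧
    (fun y => g * y * g⁻¹) '' common D d (pre D d f κ (side s)) c =
      common D d (pre D d f κ (side s)) c

omit [Finite G] in
theorem Keeps.mul {c g h : G} (hg : Keeps D d f κ c g) (hh : Keeps D d f κ c h) :
    Keeps D d f κ c (g * h) := by
  have e : ∀ y : G, g * h * y * (g * h)⁻¹ = g * (h * y * h⁻¹) * g⁻¹ := fun y => by group
  refine ⟨by rw [e, hh.1, hg.1], fun s => ⟨by rw [e, (hh.2 s).1, (hg.2 s).1], ?_⟩⟩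
  rw [show (fun y => g * h * y * (g * h)⁻¹) = (fun y => g * y * g⁻¹) ∘ fun y => h * y * h⁻¹ from
    funext e, Set.image_comp, (hh.2 s).2, (hg.2 s).2]

include C hκ

theorem pre_spec {n : ℕ} (hn : n ∈ pts) :
    pre D d f κ n ∈ nbr D d ∧ κ (f (pre D d f κ n)) = n := by
  obtain ⟨a, ha, h⟩ := (hκ.comp C.bij).surjOn hn
  exact ⟨Function.invFunOn_mem (f := fun a => κ (f a)) ⟨a, ha, h⟩,
    Function.invFunOn_eq (f := fun a => κ (f a)) ⟨a, ha, h⟩⟩

omit [Finite G] in
theorem code_inj {a b : G} (ha : a ∈ nbr D d) (hb : b ∈ nbr D d) (h : κ (f a) = κ (f b)) : a = b :=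
  (hκ.comp C.bij).injOn ha hb h

include hcm in
theorem commute_code {a b : G} (ha : a ∈ nbr D d) (hb : b ∈ nbr D d) :
    Commute a b ↔ hf (κ (f a)) (κ (f b)) = 0 :=
  (C.comm a ha b hb).symm.trans (hcm _ (C.bij.mapsTo ha) _ (C.bij.mapsTo hb))

include hcm in
/-- The members commuting with a fixed one, on codes. -/
theorem side_nbr (s : Bool) {y : G} (hy : y ∈ nbr D d) :
    y ∈ nbr D (pre D d f κ (side s)) ↔ κ (f y) ∈ sideNbr s := by
  obtain ⟨hp, hpc⟩ := pre_spec C hκ (sideNbr_spec s).2.2.1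
  rw [(sideNbr_spec s).2.2.2.2 _ (hκ.mapsTo (C.bij.mapsTo hy))]
  constructor
  · rintro ⟨-, hne, hc⟩
    refine ⟨fun h => hne (code_inj C hκ hy hp (h.trans hpc.symm)), ?_⟩
    rw [← hpc]
    exact (commute_code C hκ hcm hp hy).1 hc
  · rintro ⟨hne, hh⟩
    rw [← hpc] at hh
    exact ⟨hy.1, fun h => hne (by rw [h, hpc]), (commute_code C hκ hcm hp hy).2 hh⟩

include hG in
theorem elt_fix {w : List ℕ} (hw : ∀ e ∈ w, e ∈ pts) :
    elt D d f κ w * d * (elt D d f κ w)⁻¹ = d := by
  have h : Commute (elt D d f κ w) d := by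
    refine Commute.list_prod_left _ _ fun x hx => ?_
    obtain ⟨e, he, rfl⟩ := List.mem_map.1 hx
    exact (pre_spec C hκ (hw e he)).1.2.2.symm
  rw [h.eq, mul_inv_cancel_right]

include hG hcj in
theorem elt_act {w : List ℕ} (hw : ∀ e ∈ w, e ∈ pts) {y : G} (hy : y ∈ nbr D d) :
    elt D d f κ w * y * (elt D d f κ w)⁻¹ ∈ nbr D d ∧
      κ (f (elt D d f κ w * y * (elt D d f κ w)⁻¹)) = act w (κ (f y)) := by
  induction w with
  | nil => simpa [elt, act] using hy
  | cons e w ih =>
    obtain ⟨h1, h2⟩ := ih fun x hx => hw x (List.mem_cons_of_mem e hx)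
    obtain ⟨hp, hpc⟩ := pre_spec C hκ (hw e List.mem_cons_self)
    have hc := hG.set.hD.closed
    have e1 : elt D d f κ (e :: w) * y * (elt D d f κ (e :: w))⁻¹ =
        pre D d f κ e * (elt D d f κ w * y * (elt D d f κ w)⁻¹) * pre D d f κ e := by
      conv_rhs => arg 2; rw [← inv_eq hc.set hp.1]
      simp only [elt, List.map_cons, List.prod_cons]
      group
    rw [e1]
    refine ⟨nbr_closed hc hp h1, ?_⟩
    rw [C.conj _ hp _ h1, hcj _ (C.bij.mapsTo hp) _ (C.bij.mapsTo h1), hpc, h2]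
    rfl

include hG in
theorem elt_reverse {w : List ℕ} (hw : ∀ e ∈ w, e ∈ pts) :
    elt D d f κ w.reverse = (elt D d f κ w)⁻¹ := by
  rw [elt, elt, List.prod_inv_reverse, List.map_reverse, List.map_map]
  congr 2
  refine List.map_congr_left fun e he => ?_
  exact (inv_eq hG.set.hD.closed.set (pre_spec C hκ (hw e he)).1.1).symm

include hG hcm hcj in
theorem elt_side {w : List ℕ} (hw : ∀ e ∈ w, e ∈ pts) (s : Bool) (h : act w (side s) = side s) :
    elt D d f κ w * pre D d f κ (side s) * (elt D d f κ w)⁻¹ = pre D d f κ (side s) := by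
  obtain ⟨hp, hpc⟩ := pre_spec C hκ (sideNbr_spec s).2.2.1
  obtain ⟨h1, h2⟩ := elt_act hG C hκ hcj hw hp
  exact code_inj C hκ h1 hp (by rw [h2, hpc, h])

include hG hcm in
theorem keeps_letter {c : G} (hc : c ∈ nbr D (pre D d f κ 5) ∧ c ∈ nbr D (pre D d f κ 80)) (s : Bool) :
    Keeps D d f κ c (pre D d f κ (side s)) := by
  have hcl := hG.set.hD.closed
  have hfix : ∀ {g y : G}, Commute g y → g * y * g⁻¹ = y := fun h => by
    rw [h.eq, mul_inv_cancel_right]
  have hside : ∀ t, pre D d f κ (side t) ∈ nbr D d := fun t => (pre_spec C hκ (sideNbr_spec t).2.2.1).1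
  have hd := hfix (hside s).2.2.symm
  have hcs : Commute (pre D d f κ (side s)) c := by
    cases s
    exacts [hc.1.2.2, hc.2.2.2]
  have hab : ∀ t, pre D d f κ (side s) * pre D d f κ (side t) * (pre D d f κ (side s))⁻¹ =
      pre D d f κ (side t) := fun t => hfix (by
    rw [commute_code C hκ hcm (hside s) (hside t), (pre_spec C hκ (sideNbr_spec s).2.2.1).2,
      (pre_spec C hκ (sideNbr_spec t).2.2.1).2]
    cases s <;> cases t <;> decide +kernel)
  refine ⟨hd, fun t => ⟨hab t, ?_⟩⟩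
  rw [← common_conj hcl hd (hab t), hfix hcs]

include hG hcm in
theorem keeps_extra {c : G} (hc : c ∈ nbr D (pre D d f κ 5) ∧ c ∈ nbr D (pre D d f κ 80)) (e : ℕ) :
    Keeps D d f κ c (elt D d f κ (extra e)) := by
  have ha : Keeps D d f κ c (pre D d f κ 5) := keeps_letter hG C hκ hcm hc false
  have hb : Keeps D d f κ c (pre D d f κ 80) := keeps_letter hG C hκ hcm hc true
  unfold extra elt
  split_ifs
  · simpa using ha
  · simpa using hb
  · simpa using ha.mul hb
  · simp [Keeps]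

variable {n k l m : ℕ} (P : Params D n k l m) (hm : 0 < m)
include hG hcm P hm

/-- The common partners at a fixed point meet every line once. -/
theorem common_lines {c : G} (hcD : c ∈ D) (hdc : ¬ Commute d c) (s : Bool)
    (hcs : c ∈ nbr D (pre D d f κ (side s))) :
    (∀ x ∈ sideNbr s, ∃ y ∈ common D d (pre D d f κ (side s)) c,
      κ (f y) ∈ sideNbr s ∧ (κ (f y) = x ∨ hf (κ (f y)) x = 0)) ∧
    ∀ y ∈ common D d (pre D d f κ (side s)) c, ∀ z ∈ common D d (pre D d f κ (side s)) c,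
      Commute y z → y = z := by
  obtain ⟨hp, hpc⟩ := pre_spec C hκ (sideNbr_spec s).2.2.1
  set a := pre D d f κ (side s) with ha
  have hM := muData hG P hm C hcD hdc
  obtain ⟨p, hpE, hap, θ, hθ, hθc, -, heq⟩ :=
    hM.swap (f a) ⟨a, ⟨hp, nbr_symm hp.1 hcs⟩, rfl⟩
  have himg := C.image_nbr hp
  have heq' : f '' common D d a c = θ '' (nbr E (f a) ∩ nbr E p) := by
    rw [← heq, ← himg, ← C.bij.injOn.image_inter Set.inter_subset_left Set.inter_subset_left]
    congr 1
    ext y
    simp only [common, Set.mem_inter_iff]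
    tauto
  have hpp : κ p ∈ pts := hκ.mapsTo hpE
  have hfp : hf (side s) (κ p) ≠ 0 := fun h => hap <| (hcm _ (C.bij.mapsTo hp) _ hpE).2 (by rwa [hpc])
  have hcode : ∀ e ∈ nbr E (f a), κ e ∈ sideNbr s := by
    intro e he
    rw [← himg] at he
    obtain ⟨y, hy, rfl⟩ := he
    exact (side_nbr C hκ hcm s hy.1).1 hy.2
  have hdec : ∀ x ∈ sideNbr s, ∃ e ∈ nbr E (f a), κ e = x := by
    intro x hx
    obtain ⟨hy, hyc⟩ := pre_spec C hκ ((sideNbr_spec s).2.2.2.1 x hx)
    refine ⟨f (pre D d f κ x), ?_, hyc⟩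
    rw [← himg]
    exact ⟨_, ⟨hy, (side_nbr C hκ hcm s hy).2 (by rwa [hyc])⟩, rfl⟩
  constructor
  · intro x hx
    obtain ⟨e, he, rfl⟩ := hdec x hx
    obtain ⟨e', he', rfl⟩ := hθ.surjOn he
    obtain ⟨t, ht, hpt, htx⟩ := mu_meets hpp hfp (hcode e' he')
    obtain ⟨t', ht', rfl⟩ := hdec t ht
    have hmem : θ t' ∈ f '' common D d a c := by
      rw [heq']
      exact ⟨t', ⟨ht', ht'.1, fun h => hap (h ▸ ht'.2.2), (hcm _ hpE _ ht'.1).2 hpt⟩, rfl⟩
    obtain ⟨y, hy, hye⟩ := hmem
    have htn := hθ.mapsTo ht'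
    refine ⟨y, hy, by rw [hye]; exact hcode _ htn, ?_⟩
    rw [hye]
    rcases htx with h | h
    · exact Or.inl (by rw [hκ.injOn ht'.1 he'.1 h])
    · exact Or.inr <| (hcm _ htn.1 _ (hθ.mapsTo he').1).1 <|
        (hθc _ ht' _ he').2 ((hcm _ ht'.1 _ he'.1).2 h)
  · intro y hy z hz hyz
    obtain ⟨y', hy', hye⟩ := heq' ▸ Set.mem_image_of_mem f hy
    obtain ⟨z', hz', hze⟩ := heq' ▸ Set.mem_image_of_mem f hz
    have h := (C.comm y hy.1 z hz.1).2 hyz
    rw [← hye, ← hze, hθc _ hy'.1 _ hz'.1, hcm _ hy'.1.1 _ hz'.1.1] at h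
    have hq : ∀ {e : Y}, e ∈ nbr E p → hf (κ p) (κ e) = 0 := fun he => (hcm _ hpE _ he.1).1 he.2.2
    have e := mu_anti hpp hfp (hcode _ hy'.1) (hq hy'.2) (hcode _ hz'.1) (hq hz'.2) h
    have e' := hκ.injOn hy'.1.1 hz'.1.1 e
    rw [e', hze] at hye
    exact ((C.inj hz.1 hy.1).1 hye).symm

include hcj in
/-- Two of the products give different common partners. -/
theorem tells_apart {c : G} (hcD : c ∈ D) (hdc : ¬ Commute d c)
    (hcs : ∀ s, c ∈ nbr D (pre D d f κ (side s))) {i j : ℕ} (hi : i < 17) (hj : j < 17) (hij : i < j)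
    (h : ∀ s, common D d (pre D d f κ (side s))
        (elt D d f κ (wordAt i) * c * (elt D d f κ (wordAt i))⁻¹) =
      common D d (pre D d f κ (side s))
        (elt D d f κ (wordAt j) * c * (elt D d f κ (wordAt j))⁻¹)) : False := by
  have hcl := hG.set.hD.closed
  obtain ⟨hwi, hi5, hi80⟩ := word_spec i hi
  obtain ⟨hwj, hj5, hj80⟩ := word_spec j hj
  have hside : ∀ {w : List ℕ}, (∀ e ∈ w, e ∈ pts) → act w 5 = 5 → act w 80 = 80 → ∀ s,
      elt D d f κ w * pre D d f κ (side s) * (elt D d f κ w)⁻¹ = pre D d f κ (side s) := by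
    intro w hw h5 h80 s
    refine elt_side hG C hκ hcm hcj hw s ?_
    cases s
    exacts [h5, h80]
  set gi := elt D d f κ (wordAt i) with hgi
  set gj := elt D d f κ (wordAt j) with hgj
  have hq : elt D d f κ ((wordAt i).reverse ++ wordAt j) = gi⁻¹ * gj := by
    rw [elt, List.map_append, List.prod_append]
    exact congrArg (· * gj) (elt_reverse hG C hκ hwi)
  have hgid := elt_fix hG C hκ hwi
  have hgjd := elt_fix hG C hκ hwj
  have hkeep : Keeps D d f κ c (gi⁻¹ * gj) := by
    have hinv : ∀ {y : G}, gi * y * gi⁻¹ = y → gi⁻¹ * y * gi⁻¹⁻¹ = y := fun {y} e => by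
      rw [inv_inv]; nth_rewrite 1 [← e]; group
    have e : ∀ y : G, gi⁻¹ * gj * y * (gi⁻¹ * gj)⁻¹ = gi⁻¹ * (gj * y * gj⁻¹) * gi⁻¹⁻¹ :=
      fun y => by group
    have hbd : gi⁻¹ * gj * d * (gi⁻¹ * gj)⁻¹ = d := by rw [e, hgjd]; exact hinv hgid
    refine ⟨hbd, fun s => ?_⟩
    have hbs : gi⁻¹ * gj * pre D d f κ (side s) * (gi⁻¹ * gj)⁻¹ = pre D d f κ (side s) := by
      rw [e, hside hwj hj5 hj80 s]; exact hinv (hside hwi hi5 hi80 s)
    refine ⟨hbs, ?_⟩
    have hback : gi⁻¹ * (gi * c * gi⁻¹) * gi⁻¹⁻¹ = c := by group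
    rw [← common_conj hcl hbd hbs, e, common_conj hcl (hinv hgid) (hinv (hside hwi hi5 hi80 s)),
      ← h s, ← common_conj hcl (hinv hgid) (hinv (hside hwi hi5 hi80 s)), hback]
  have hwt : ∀ e ∈ testWord i j, e ∈ pts := by
    have hx : ∀ e' : ℕ, ∀ e ∈ extra e', e ∈ pts := by
      intro e'
      unfold extra
      split_ifs <;> decide +kernel
    have hr : ∀ e ∈ (wordAt i).reverse ++ wordAt j, e ∈ pts := fun e he => by
      rcases List.mem_append.1 he with he | he
      exacts [hwi e (List.mem_reverse.1 he), hwj e he]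
    intro e he
    simp only [testWord] at he
    rcases List.mem_append.1 he with he | he
    · split_ifs at he
      · rcases List.mem_append.1 he with he | he <;> exact hr e he
      · exact hr e he
    · exact hx _ e he
  have hkt : Keeps D d f κ c (elt D d f κ (testWord i j)) := by
    have hx := keeps_extra hG C hκ hcm ⟨hcs false, hcs true⟩ (certAt i j).2.2.2
    have happ : ∀ u w : List ℕ, elt D d f κ (u ++ w) = elt D d f κ u * elt D d f κ w := fun u w => by
      rw [elt, elt, elt, List.map_append, List.prod_append]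
    simp only [testWord]
    rw [happ]
    refine Keeps.mul ?_ hx
    split_ifs
    · rw [happ, hq]; exact hkeep.mul hkeep
    · rw [hq]; exact hkeep
  obtain ⟨hx0, htest⟩ := test_spec i hi j hj hij
  set s := (certAt i j).2.1
  obtain ⟨hmeet, hanti⟩ := common_lines hG C hκ hcm P hm hcD hdc s (hcs s)
  obtain ⟨t, ht, htm, htx⟩ := hmeet _ hx0
  obtain ⟨hz1, hz2⟩ := elt_act hG C hκ hcj hwt ht.1
  obtain ⟨L, hL, hxL⟩ := (lines_spec s).1 _ hx0
  obtain ⟨hline, hmove⟩ := htest L hL hxL _ (lines_closed s L hL _ hxL _ htm htx)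
  have hz : _ ∈ common D d (pre D d f κ (side s)) c := (hkt.2 s).2 ▸ Set.mem_image_of_mem _ ht
  have he := hanti _ hz _ ht ((commute_code C hκ hcm hz1 ht.1).2 (by rw [hz2]; exact hline))
  exact hmove (hz2.symm.trans (congrArg (fun y => κ (f y)) he))

omit hG hm in
/-- At most thirty-two members far from `d` commute with both fixed points, and there is one. -/
theorem far_pair :
    let F := {c | c ∈ nbr D (pre D d f κ 5) ∩ nbr D (pre D d f κ 80) ∧ ¬ Commute d c}
    F.Nonempty ∧ F.ncard ≤ 32 := by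
  intro F
  obtain ⟨hA, hAc⟩ := pre_spec C hκ (sideNbr_spec false).2.2.1
  obtain ⟨hB, hBc⟩ := pre_spec C hκ (sideNbr_spec true).2.2.1
  set A := pre D d f κ 5 with hA'
  set B := pre D d f κ 80 with hB'
  have hinj : Set.InjOn (fun y => κ (f y)) (nbr D d) := (hκ.comp C.bij).injOn
  have hl : l = 36 := by
    rw [← P.lam d C.mem A hA, ← (hinj.mono Set.inter_subset_left).ncard_image]
    have e : (fun y => κ (f y)) '' (nbr D d ∩ nbr D A) = ↑(sideNbr false).toFinset := by
      ext x
      simp only [Set.mem_image, Finset.mem_coe, List.mem_toFinset]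
      refine ⟨fun ⟨y, hy, e⟩ => e ▸ (side_nbr C hκ hcm false hy.1).1 hy.2, fun hx => ?_⟩
      obtain ⟨hy, hyc⟩ := pre_spec C hκ ((sideNbr_spec false).2.2.2.1 x hx)
      exact ⟨_, ⟨hy, (side_nbr C hκ hcm false hy).2 (by rwa [hyc])⟩, hyc⟩
    rw [e, Set.ncard_coe_finset, List.toFinset_card_of_nodup (sideNbr_spec false).1,
      (sideNbr_spec false).2.1]
  set M := nbr D d ∩ (nbr D A ∩ nbr D B) with hMdef
  have hM : M.ncard = 3 := by
    rw [← (hinj.mono Set.inter_subset_left).ncard_image]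
    have e : (fun y => κ (f y)) '' M = ↑([85, 165, 245].toFinset : Finset ℕ) := by
      ext x
      simp only [Set.mem_image, Finset.mem_coe, List.mem_toFinset, ← fixed_pair.2.2 x]
      refine ⟨fun ⟨y, hy, e⟩ => e ▸ ⟨(side_nbr C hκ hcm false hy.1).1 hy.2.1,
        (side_nbr C hκ hcm true hy.1).1 hy.2.2⟩, fun hx => ?_⟩
      obtain ⟨hy, hyc⟩ := pre_spec C hκ ((sideNbr_spec false).2.2.2.1 x hx.1)
      exact ⟨_, ⟨hy, (side_nbr C hκ hcm false hy).2 (by rw [hyc]; exact hx.1),
        (side_nbr C hκ hcm true hy).2 (by rw [hyc]; exact hx.2)⟩, hyc⟩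
    rw [e, Set.ncard_coe_finset]
    rfl
  have hab : B ∈ nbr D A := by
    have hne : B ≠ A := fun h => by
      have : (80 : ℕ) = 5 := hBc.symm.trans ((congrArg (fun y => κ (f y)) h).trans hAc)
      omega
    refine ⟨hB.1, hne, (commute_code C hκ hcm hA hB).2 ?_⟩
    exact (congrArg₂ hf hAc hBc).trans fixed_pair.1
  have htot := P.lam A hA.1 B hab
  have hsplit : nbr D A ∩ nbr D B = (insert d M) ∪ F := by
    ext c
    constructor
    · intro hc
      by_cases h : Commute d c
      · by_cases e : c = d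
        · exact Or.inl (Or.inl e)
        · exact Or.inl (Or.inr ⟨⟨hc.1.1, e, h⟩, hc⟩)
      · exact Or.inr ⟨hc, h⟩
    · rintro ((rfl | h) | h)
      exacts [⟨nbr_symm C.mem hA, nbr_symm C.mem hB⟩, h.2, h.1]
  have hcount : F.ncard + 4 = 36 := by
    rw [hsplit, Set.ncard_union_eq, Set.ncard_insert_of_notMem, hM, hl] at htot
    · omega
    · exact fun h => h.1.2.1 rfl
    · refine Set.disjoint_left.2 fun c hc hc' => hc'.2 ?_
      rcases hc with rfl | hc
      exacts [Commute.refl _, hc.1.2.2]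
  exact ⟨(Set.ncard_pos (Set.toFinite _)).1 (by omega), by omega⟩

end UFive

open UFive in
/-- The class one level down is not that of the transvections of `PSU(5,2)`. -/
theorem not_uFive {G : Type u} [Group G] [Finite G] {D : Set G} (hG : Good D) {d : G} {Y : Type v}
    [Group Y] {E : Set Y} {f : G → Y} (C : Chart D d f E) (hE : KindPSU (G := Y) E 5) {N k l m : ℕ}
    (P : Params D N k l m) (hm : 0 < m) : False := by
  classical
  obtain ⟨κ, hκ, hcm, hcj⟩ := exists_code hE
  have hcl := hG.set.hD.closed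
  obtain ⟨⟨c, hc, hdc⟩, hF⟩ := far_pair C hκ hcm P
  set F := {c | c ∈ nbr D (pre D d f κ 5) ∩ nbr D (pre D d f κ 80) ∧ ¬ Commute d c} with hFdef
  have hcs : ∀ s, c ∈ nbr D (pre D d f κ (side s)) := fun s => by
    cases s
    exacts [hc.1, hc.2]
  have hside : ∀ i < 17, ∀ s, elt D d f κ (wordAt i) * pre D d f κ (side s) *
      (elt D d f κ (wordAt i))⁻¹ = pre D d f κ (side s) := fun i hi s => by
    refine elt_side hG C hκ hcm hcj (word_spec i hi).1 s ?_
    cases s
    exacts [(word_spec i hi).2.1, (word_spec i hi).2.2]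
  have hd2 : ∀ s, d * pre D d f κ (side s) * d⁻¹ = pre D d f κ (side s) := fun s => by
    rw [(pre_spec C hκ (sideNbr_spec s).2.2.1).1.2.2.eq, mul_inv_cancel_right]
  let φ : Fin 17 → G := fun i => elt D d f κ (wordAt i) * c * (elt D d f κ (wordAt i))⁻¹
  let ψ : Fin 17 × Bool → G := fun x => if x.2 then d * φ x.1 * d⁻¹ else φ x.1
  have hdd : d * d * d⁻¹ = d := by group
  have hmem : ∀ {g : G}, g * d * g⁻¹ = d →
      (∀ s, g * pre D d f κ (side s) * g⁻¹ = pre D d f κ (side s)) →
      ∀ {y}, y ∈ F → g * y * g⁻¹ ∈ F := by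
    intro g hgd hgs y hy
    refine ⟨⟨?_, ?_⟩, fun h => hy.2 ?_⟩
    · have e : g * pre D d f κ 5 * g⁻¹ = pre D d f κ 5 := hgs false
      rw [← e, InnerTwins.nbr_conj hcl]
      exact Set.mem_image_of_mem _ hy.1.1
    · have e : g * pre D d f κ 80 * g⁻¹ = pre D d f κ 80 := hgs true
      rw [← e, InnerTwins.nbr_conj hcl]
      exact Set.mem_image_of_mem _ hy.1.2
    · rw [← hgd, commute_conj_iff] at h
      exact h
  have hφ : ∀ i, φ i ∈ F := fun i =>
    hmem (elt_fix hG C hκ (word_spec i i.2).1) (hside i i.2) ⟨hc, hdc⟩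
  have hsame : ∀ (i : Fin 17) (s : Bool), common D d (pre D d f κ (side s)) (d * φ i * d⁻¹) =
      common D d (pre D d f κ (side s)) (φ i) := fun i s => by
    rw [common_conj hcl hdd (hd2 s)]
    refine (Set.image_congr fun y hy => ?_).trans (Set.image_id _)
    rw [hy.1.2.2.eq, mul_inv_cancel_right]
    rfl
  have hψs : ∀ (x : Fin 17 × Bool) (s : Bool), common D d (pre D d f κ (side s)) (ψ x) =
      common D d (pre D d f κ (side s)) (φ x.1) := fun x s => by
    simp only [ψ]
    split_ifs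
    exacts [hsame _ s, rfl]
  have hmove : ∀ y ∈ F, d * y * d⁻¹ ≠ y := fun y hy h => hy.2 (mul_inv_eq_iff_eq_mul.1 h)
  have hinj : Function.Injective ψ := by
    intro x x' h
    have h1 : x.1 = x'.1 := by
      by_contra hne
      rcases lt_or_gt_of_ne hne with hlt | hlt
      · exact tells_apart hG C hκ hcm hcj P hm hc.1.1 hdc hcs x.1.2 x'.1.2 hlt
          fun s => (hψs x s).symm.trans ((congrArg _ h).trans (hψs x' s))
      · exact tells_apart hG C hκ hcm hcj P hm hc.1.1 hdc hcs x'.1.2 x.1.2 hlt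
          fun s => (hψs x' s).symm.trans ((congrArg _ h.symm).trans (hψs x s))
    refine Prod.ext h1 ?_
    simp only [ψ, h1] at h
    cases hx : x.2 <;> cases hx' : x'.2 <;> simp only [hx, hx', if_true, Bool.false_eq_true, if_false] at h ⊢
    · exact absurd h.symm (hmove _ (hφ _))
    · exact absurd h (hmove _ (hφ _))
  have hsub : Set.range ψ ⊆ F := by
    rintro _ ⟨x, rfl⟩
    simp only [ψ]
    split_ifs
    exacts [hmem hdd hd2 (hφ _), hφ _]
  have h34 := Set.ncard_le_ncard hsub (Set.toFinite _)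
  rw [← Set.image_univ, Set.ncard_image_of_injective _ hinj, Set.ncard_univ, Nat.card_eq_fintype_card,
    Fintype.card_prod, Fintype.card_fin, Fintype.card_bool] at h34
  omega

end CfsgLib.ThreeTrans.Classif
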