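import Mathlib
import Cfsg.Agent.Lib.ThreeTrans.Classif.KillOrth
import Cfsg.Agent.Lib.ThreeTrans.Classif.KillUFive
import Cfsg.Agent.Lib.ThreeTrans.Classif.UnitNumbers
import Cfsg.Agent.Lib.ThreeTrans.TransvecTwo
import Cfsg.Agent.Lib.POmega.Forms

/-!
Small facts for one step of the classification: the degree five symmetric group, and no good class
lies over an orthogonal one over two elements or over a large unitary one.
-/

set_option autoImplicit false

namespace CfsgLib.ThreeTrans.Classif.SmallCases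

open CfsgLib.ThreeTrans CfsgLib.Orth QuadraticMap
open CfsgLib.ThreeTrans.LocalSymThree (nbr)

universe u v w

theorem swap_of_odd : ∀ σ : Equiv.Perm (Fin 5), σ * σ = 1 → Equiv.Perm.sign σ = -1 →
    ∃ i j, i ≠ j ∧ σ = Equiv.swap i j := by
  decide +kernel

/-- A good class of the symmetric group of degree five consists of the transpositions. -/
theorem symFive {G : Type u} [Group G] [Finite G] {D : Set G} (hG : Good D)
    (h : Nonempty (G ≃* Equiv.Perm (Fin 5))) : KindSym D 5 := by
  obtain ⟨e⟩ := h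
  have hD := hG.set.hD
  obtain ⟨d, hd, hodd⟩ : ∃ d ∈ D, Equiv.Perm.sign (e d) = -1 := by
    by_contra! hall
    have htop : (Equiv.Perm.sign.comp e.toMonoidHom).ker = ⊤ := by
      rw [eq_top_iff, ← hD.gen, Subgroup.closure_le]
      intro x hx
      exact MonoidHom.mem_ker.2 ((Int.units_eq_one_or _).resolve_right (hall x hx))
    obtain ⟨σ, hσ⟩ := Equiv.Perm.sign_surjective (Fin 5) (-1)
    have h1 := MonoidHom.mem_ker.1 (htop.symm ▸ Subgroup.mem_top (e.symm σ) :
      e.symm σ ∈ (Equiv.Perm.sign.comp e.toMonoidHom).ker)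
    simp [hσ] at h1
  have hswap : ∀ x ∈ D, (e x).IsSwap := by
    intro x hx
    obtain ⟨g, rfl⟩ := hD.class_eq d hd x hx
    refine swap_of_odd _ ?_ ?_
    · rw [← map_mul, mul_self hD.closed.set (hD.closed.conj g d hd), map_one]
    · rw [map_mul, map_mul, map_inv, map_mul, map_mul, map_inv, hodd,
        mul_right_comm, mul_inv_cancel, one_mul]
  refine ⟨e, Set.Subset.antisymm ?_ fun τ hτ => ?_⟩
  · rintro _ ⟨x, hx, rfl⟩
    exact hswap x hx
  · obtain ⟨a, b, hab, hab'⟩ := hswap d hd
    obtain ⟨i, j, hij, rfl⟩ := hτ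
    obtain ⟨π, hπ⟩ := isConj_iff.1 (Equiv.Perm.isConj_swap hab hij)
    refine ⟨e.symm π * d * (e.symm π)⁻¹, hD.closed.conj _ d hd, ?_⟩
    rw [map_mul, map_mul, map_inv, e.apply_symm_apply, hab', hπ]

/-- A class of orthogonal transvections over two elements has the non-singular vectors as model. -/
theorem orth_points {X : Type u} [Group X] {E : Set X} {ι : Type} [Fintype ι] [DecidableEq ι]
    {Q : QuadraticForm (ZMod 2) (ι → ZMod 2)} (hQ : Q.polarBilin.Nondegenerate) (e : X ≃* O Q)
    (he : e '' E = {g : O Q |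
      (((g : Matrix.GeneralLinearGroup ι (ZMod 2)) : Matrix ι ι (ZMod 2)) - 1).rank = 1}) :
    ∃ ψ : X → ι → ZMod 2, OrthPts E Q ψ := by
  classical
  have hrep : ∀ a : E, ∃ v, Q v ≠ 0 ∧ e a.1 = refl Q v := fun a =>
    (TransvecTwo.rank_one_iff hQ _).1 (show e a.1 ∈ {g : O Q |
      (((g : Matrix.GeneralLinearGroup ι (ZMod 2)) : Matrix ι ι (ZMod 2)) - 1).rank = 1} from
        he ▸ Set.mem_image_of_mem e a.2)
  choose v hv0 hv using hrep
  let ψ : X → ι → ZMod 2 := fun a => if h : a ∈ E then v ⟨a, h⟩ else 0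
  have hψ : ∀ a (h : a ∈ E), Q (ψ a) ≠ 0 ∧ e a = refl Q (ψ a) := fun a h => by
    simp only [ψ, dif_pos h]; exact ⟨hv0 ⟨a, h⟩, hv ⟨a, h⟩⟩
  have hinj : ∀ u w : ι → ZMod 2, Q u ≠ 0 → Q w ≠ 0 → refl Q u = refl Q w → u = w := by
    intro u w hu hw h
    obtain ⟨y, hy⟩ := exists_polar_eq_one hQ (v := u) fun k => hu (by rw [k, QuadraticMap.map_zero])
    have h2 := congrArg (fun t : O Q => app t y) h
    simp only [TransvecTwo.app_refl_add hu, TransvecTwo.app_refl_add hw, add_right_inj] at h2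
    rw [polar_comm (⇑Q) y u, hy, one_smul] at h2
    rcases (show ∀ z : ZMod 2, z = 0 ∨ z = 1 by decide) (polar Q y w) with k | k
    · rw [k, zero_smul] at h2
      exact absurd (by rw [h2, QuadraticMap.map_zero]) hu
    · rwa [k, one_smul] at h2
  have hsurj : ∀ w, Q w ≠ 0 → ∃ a ∈ E, ψ a = w := fun w hw => by
    obtain ⟨a, ha, hae⟩ := he.symm ▸ (show refl Q w ∈ {g : O Q |
      (((g : Matrix.GeneralLinearGroup ι (ZMod 2)) : Matrix ι ι (ZMod 2)) - 1).rank = 1} from
        (TransvecTwo.rank_one_iff hQ _).2 ⟨w, hw, rfl⟩)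
    exact ⟨a, ha, hinj _ _ (hψ a ha).1 hw ((hψ a ha).2.symm.trans hae)⟩
  have hcj : ∀ u w, Q u ≠ 0 → refl Q u * refl Q w * refl Q u = refl Q (w + polar Q u w • u) :=
    fun u w hu => by
    have h := refl_conj (refl Q u) w
    rwa [refl_inv, TransvecTwo.app_refl_add hu, polar_comm (⇑Q) w u] at h
  refine ⟨ψ, fun u h => eq_zero_of_polar hQ h, ⟨fun a ha => TransvecTwo.eq_one_of_ne (hψ a ha).1,
    fun a ha b hb h => e.injective (by rw [(hψ a ha).2, (hψ b hb).2, h]), fun w hw => ?_⟩, ?_, ?_⟩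
  · obtain ⟨a, ha, h⟩ := hsurj w (by rw [show Q w = 1 from hw]; exact one_ne_zero)
    exact ⟨a, ha, h⟩
  · intro a ha b hb
    rw [← commute_map_iff e.injective, (hψ a ha).2, (hψ b hb).2]
    constructor
    · intro h
      have h1 := hcj _ (ψ b) (hψ a ha).1
      rw [h.eq, mul_assoc, refl_mul_self, mul_one] at h1
      have hne : Q (ψ b + polar Q (ψ a) (ψ b) • ψ a) ≠ 0 := by
        have h2 := Q_app (refl Q (ψ a)) (ψ b)
        rw [TransvecTwo.app_refl_add (hψ a ha).1, polar_comm] at h2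
        rw [h2]; exact (hψ b hb).1
      have h3 := hinj _ _ (hψ b hb).1 hne h1
      rcases smul_eq_zero.1 (left_eq_add.1 h3) with h4 | h4
      · exact h4
      · exact absurd (by rw [h4, QuadraticMap.map_zero]) (hψ a ha).1
    · intro h
      have h1 := hcj _ (ψ b) (hψ a ha).1
      rw [h, zero_smul, add_zero] at h1
      calc refl Q (ψ a) * refl Q (ψ b)
          = refl Q (ψ a) * refl Q (ψ b) * (refl Q (ψ a) * refl Q (ψ a)) := by
            rw [refl_mul_self, mul_one]
        _ = refl Q (ψ b) * refl Q (ψ a) := by rw [← mul_assoc, h1]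
  · intro a ha b hb
    have him : e (a * b * a) = refl Q (ψ b + polar Q (ψ a) (ψ b) • ψ a) := by
      rw [map_mul, map_mul, (hψ a ha).2, (hψ b hb).2, hcj _ _ (hψ a ha).1]
    have hne : Q (ψ b + polar Q (ψ a) (ψ b) • ψ a) ≠ 0 := by
      have h2 := Q_app (refl Q (ψ a)) (ψ b)
      rw [TransvecTwo.app_refl_add (hψ a ha).1, polar_comm] at h2
      rw [h2]; exact (hψ b hb).1
    obtain ⟨x, hx, hxe⟩ := hsurj _ hne
    have : a * b * a = x := e.injective (by rw [him, (hψ x hx).2, hxe])
    rw [this, hxe]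

variable {G Y : Type u} [Group G] [Finite G] [Group Y] [Finite Y] {D : Set G} {E : Set Y}
  {d : G} {f : G → Y}

/-- A pair of members of a good class which do not commute. -/
theorem exists_far (hG : Good D) (C : Chart D d f E) : ∃ c ∈ D, ¬ Commute d c :=
  exists_not_commute hG.set.hD.gen hG.set.hD.closed hG.set.hD.class_eq hG.set.hD.two C.mem

/-- No good class lies over the non-singular vectors of a large quadratic space over two elements. -/
theorem orth_kill_of_points (hG : Good D) (C : Chart D d f E) {W : Type w} [AddCommGroup W]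
    [Module (ZMod 2) W] [Finite W] {Q : QuadraticForm (ZMod 2) W} {ψ : Y → W} (hE : OrthPts E Q ψ)
    (hdim : 8 ≤ Module.finrank (ZMod 2) W) : False := by
  obtain ⟨n, k, l, m, P, hm, -⟩ := exists_params hG
  obtain ⟨c, hc, hdc⟩ := exists_far hG C
  exact not_orth hE hdim (muData hG P hm C hc hdc)

/-- No good class lies over the transvections of a large orthogonal group over two elements. -/
theorem orthKill (hG : Good D) (C : Chart D d f E)
    (h : (∃ m, 4 ≤ m ∧ KindOPlus E m) ∨ ∃ m, 3 ≤ m ∧ KindOMinus E m) : False := by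
  rcases h with ⟨m, hm, hK⟩ | ⟨m, hm, hK⟩
  · rw [KindOPlus, ← plusQ_coe (F := ZMod 2) m] at hK
    obtain ⟨e, he⟩ := hK
    obtain ⟨ψ, hψ⟩ := orth_points (plusQ_nondegenerate (F := ZMod 2) m) e he
    exact orth_kill_of_points hG C hψ (by
      rw [Module.finrank_fintype_fun_eq_card, Fintype.card_sum, Fintype.card_fin]; omega)
  · rw [KindOMinus, ← minusQ_coe (F := ZMod 2) m 1 1] at hK
    obtain ⟨e, he⟩ := hK
    obtain ⟨ψ, hψ⟩ := orth_points (CfsgLib.POmega.minusQ_nondegenerate_any (F := ZMod 2) (m := m)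
      (a := 1) (b := 1) (by decide)) e he
    exact orth_kill_of_points hG C hψ (by
      rw [Module.finrank_fintype_fun_eq_card, Fintype.card_sum, Fintype.card_sum, Fintype.card_fin,
        Fintype.card_fin]; omega)

/-- No good class lies over a unitary one of dimension five or at least seven. -/
theorem unitKill {n : ℕ} (hG : Good D) (C : Chart D d f E) (hn : n = 5 ∨ 7 ≤ n)
    (hK : KindPSU E n) : False := by
  obtain ⟨N, k, l, m, P, hm, hmk⟩ := exists_params hG
  rcases (show n = 5 ∨ n = 7 ∨ 8 ≤ n by omega) with rfl | rfl | h8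
  · exact not_uFive hG C hK P hm
  · obtain ⟨hcard, hdeg, -⟩ := psuSeven_numbers hK
    obtain ⟨rfl, rfl⟩ := P.of_chart hG C hdeg
    rw [hcard] at P hmk
    exact not_params_uSeven hG P hm hmk
  · obtain ⟨F, _, _, ψ, hψ⟩ := psu_points (by omega) hK
    obtain ⟨c, hc, hdc⟩ := exists_far hG C
    classical
    exact not_unitary hψ (by rw [Module.finrank_fin_fun]; exact h8) (muData hG P hm C hc hdc)

end CfsgLib.ThreeTrans.Classif.SmallCases
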