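import Mathlib
import Cfsg.Agent.Lib.ThreeTrans.Classif.Classify
import Cfsg.Agent.Lib.ThreeTrans.Classif.FactsA
import Cfsg.Agent.Lib.ThreeTrans.Classif.FactsSplit
import Cfsg.Agent.Lib.ThreeTrans.Classif.SmallCases

/-! The facts about one step, gathered. -/

set_option autoImplicit false

namespace CfsgLib.ThreeTrans.Classif

open CfsgLib.ThreeTrans
open CfsgLib.KnownSimple.QuadTwo (B)

universe u

open CfsgLib.Orth in
/-- The points of the eight-dimensional orthogonal group of plus type. -/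
theorem oPlusFour_points {X : Type u} [Group X] {E : Set X} (hK : KindOPlus E 4) :
    ∃ (Q : QuadraticForm (ZMod 2) (Fin 4 ⊕ Fin 4 → ZMod 2)) (ψ : X → Fin 4 ⊕ Fin 4 → ZMod 2),
      OrthPts E Q ψ ∧ ∀ z, Q z = Cfsg.quadFormPlus 4 (ZMod 2) z := by
  rw [KindOPlus, ← plusQ_coe (F := ZMod 2) 4] at hK
  obtain ⟨e, he⟩ := hK
  obtain ⟨ψ, hψ⟩ := SmallCases.orth_points (plusQ_nondegenerate (F := ZMod 2) 4) e he
  exact ⟨plusQ 4 (ZMod 2), ψ, hψ, fun z => congrFun (plusQ_coe (F := ZMod 2) 4) z⟩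

/-- The step facts, given the point models and the lifting of reflection points. -/
theorem stepFacts_of (hlift : ∀ n, 5 ≤ n → LiftRefl.{u, u} n)
    (hrefl : ∀ {Y : Type u} [Group Y] {E : Set Y} {n : ℕ} (Q : QuadraticForm (ZMod 3) (Fin n → ZMod 3))
      (c : ZMod 3), 5 ≤ n → (QuadraticMap.polarBilin Q).Nondegenerate → c ≠ 0 → KindRefl E Q c →
      ∃ ψ, ReflPts E Q c ψ)
    (hsp : ∀ {Y : Type u} [Group Y] {E : Set Y} {m : ℕ}, 3 ≤ m → KindSp E m → ∃ ψ, SympPts E (B m) ψ)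
    (hsix : ∀ {Y : Type u} [Group Y] {E : Set Y}, KindSym E 6 → ∃ ψ, SympPts E (B 2) ψ)
    (hsmall : ∀ {Y : Type u} [Group Y] {E : Set Y}, KindPSU E 4 ∨ KindOMinus E 2 →
      ∃ (Q : QuadraticForm (ZMod 3) (Fin 5 → ZMod 3)) (c : ZMod 3) (ψ : Y → Fin 5 → ZMod 3),
        ReflPts E Q c ψ)
    (huSix : ∀ {Y : Type u} [Group Y] [Finite Y] {E : Set Y}, KindPSU E 6 →
      E.ncard = 693 ∧ (∀ e ∈ E, (LocalSymThree.nbr E e).ncard = 180) ∧
        MuRefl E 5 45 (fun _ => True) (fun det e => det * (2 * e) = 1))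
    : StepFacts.{u} where
  lift := hlift
  reflPts := hrefl
  spPts := hsp
  symSix := hsix
  smallRefl := hsmall
  orthKill := fun hG C h => SmallCases.orthKill hG C h
  unitKill := fun hG C hn h => SmallCases.unitKill hG C hn h
  uSix := huSix
  splitKill := fun hG C hS hd hK => split_kill_of oPlusFour_points hrefl hG C hS hd hK
  splitEight := splitEight
  symFive := fun hG h => SmallCases.symFive hG h

end CfsgLib.ThreeTrans.Classif
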