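import Mathlib
import Cfsg.Agent.Lib.ThreeTrans.Classif.Main
import Cfsg.Agent.Lib.ThreeTrans.Classif.KindPts
import Cfsg.Agent.Lib.ThreeTrans.Classif.StepUSix
import Cfsg.Agent.Lib.ThreeTrans.Classif.FromRefl.Main

/-! Fischer's list of good classes. -/

set_option autoImplicit false

namespace CfsgLib.ThreeTrans.Classif

universe u

/-- Every good class of 3-transpositions is on Fischer's list. -/
theorem classify_all {G : Type u} [Group G] [Finite G] (D : Set G) (hG : Good D) : Known D :=
  classify (stepFacts_of (fun n hn => FromRefl.lift_refl hn)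
    (fun Q c h1 h2 h3 h4 => KindPts.refl_points Q c h1 h2 h3 h4)
    (fun _ h => KindPts.sp_points h)
    (fun h => KindPts.sym_six_points h)
    (fun h => KindPts.small_points h)
    (fun h => uSix_step h)) D hG

end CfsgLib.ThreeTrans.Classif
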