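import Mathlib
import Cfsg.Agent.Lib.ThreeTrans.Classif.Local
import Cfsg.Agent.Lib.ThreeTrans.Classif.FromSym
import Cfsg.Agent.Lib.ThreeTrans.Classif.UnitKindPoints
import Cfsg.Agent.Lib.ThreeTrans.PolarTwins.Models
import Cfsg.Agent.Lib.ThreeTrans.Primitive
import Cfsg.Agent.Lib.ThreeTrans.WidthOne

/-!
The list for good classes gives the two classification statements: classes whose neighbourhood group
has central cores, and classes of a group with simple derived subgroup.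
-/

set_option autoImplicit false
set_option linter.unusedSectionVars false

namespace CfsgLib.ThreeTrans.Classif.FinalCases

open CfsgLib.ThreeTrans
open CfsgLib.ThreeTrans.LocalSymThree (nbr)
open scoped MatrixGroups

universe u

variable {G : Type u} [Group G] [Finite G] {D : Set G}

/-- Members below `x` whose product lies in the centre of their group are equal. -/
theorem eq_of_mem_center (hG : Good D) {x : G} (hx : x ∈ D) {a b : Hd D x} (ha : (a : G) ∈ nbr D x)
    (hb : (b : G) ∈ nbr D x) (h : a * b ∈ Subgroup.center (Hd D x)) : (a : G) = b := by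
  have hB : IsBase D x (QuotientGroup.mk' (Subgroup.center (Hd D x))) :=
    ⟨hG.group, hx, QuotientGroup.mk'_surjective _, fun y => by
      rw [QuotientGroup.mk'_apply, QuotientGroup.eq_one_iff]⟩
  refine congrArg Subtype.val (hB.img_injective hG.set.prim.1 hG.noTwins ha hb ?_)
  rw [QuotientGroup.mk'_apply, QuotientGroup.mk'_apply, QuotientGroup.eq]
  have : (a : Hd D x)⁻¹ = a := Subtype.ext (inv_eq hG.set.hD.closed.set ha.1)
  rwa [this]

theorem closed_nbr (hG : Good D) (x : G) :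
    ConjClosed {e : Hd D x | (e : G) ∈ nbr D x} := by
  have hc := hG.set.hD.closed
  refine ⟨⟨fun e he => ?_, fun d hd e he => ?_⟩, fun g e he => ?_⟩
  · rw [← Subgroup.orderOf_coe]; exact hc.set.1 _ he.1
  · exact (hc.set.2 _ hd.1 _ he.1).imp (fun k => Subtype.ext k) (fun k => Subtype.ext k)
  · exact InnerTwins.conj_mem_nbr hc (commute_of_mem_Hd g.2) he

/-- No two members below `x` commute with the same members, the two-core being central. -/
theorem no_vTwins (hG : Good D) {x : G} (hx : x ∈ D)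
    (h2 : Cfsg.pCore 2 (Hd D x) ≤ Subgroup.center (Hd D x)) {a b : G} (ha : a ∈ nbr D x)
    (hb : b ∈ nbr D x) (h : ∀ e ∈ nbr D x, (Commute b e ↔ Commute a e)) : a = b :=
  eq_of_mem_center hG hx (a := ⟨a, Subgroup.subset_closure ha⟩) (b := ⟨b, Subgroup.subset_closure hb⟩)
    ha hb <| h2 <| VRel.mul_mem_pCore (closed_nbr hG x) ⟨ha, hb, fun e he =>
      ⟨fun k => Subtype.ext ((h _ he).1 (k.map (Hd D x).subtype)),
        fun k => Subtype.ext ((h _ he).2 (k.map (Hd D x).subtype))⟩⟩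

/-- No two members below `x` have the same other commuting members, the three-core being central. -/
theorem no_wTwins (hG : Good D) {x : G} (hx : x ∈ D)
    (h3 : Cfsg.pCore 3 (Hd D x) ≤ Subgroup.center (Hd D x)) {a b : G} (h : WRel (nbr D x) a b) :
    a = b :=
  eq_of_mem_center hG hx (a := ⟨a, Subgroup.subset_closure h.1⟩)
    (b := ⟨b, Subgroup.subset_closure h.2.1⟩) h.1 h.2.1 <| h3 <|
    WRel.mul_mem_pCore (closed_nbr hG x)
      ((InnerTwins.wRel_coe_iff (E := nbr D x) (fun _ he => Subgroup.subset_closure he) _ _).2 h)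

omit [Finite G] in
/-- Every member commutes with another one. -/
theorem exists_nbr (hG : Good D) {x : G} (hx : x ∈ D) : ∃ a, a ∈ nbr D x := by
  obtain ⟨a, ha, b, hb, hne, hab⟩ := hG.set.pair
  obtain ⟨g, rfl⟩ := hG.set.hD.class_eq a ha x hx
  exact ⟨g * b * g⁻¹, hG.set.hD.closed.conj g b hb, fun k => hne (mul_left_cancel (mul_right_cancel k)).symm,
    (commute_conj_iff g a b).2 hab⟩

theorem not_five (hG : Good D) {x : G} (hx : x ∈ D)
    (h3 : Cfsg.pCore 3 (Hd D x) ≤ Subgroup.center (Hd D x)) : ¬ KindSym D 5 := by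
  classical
  intro hS
  obtain ⟨ψ, hP, -, hdeg⟩ := sym_points hS
  have hno : ∀ a ∈ nbr D x, ∀ b ∈ nbr D x, a ≠ b → ¬ Commute a b := by
    intro a ha b hb hne hab
    have d1 := ((hP.comm x hx a ha.1).1 ha.2.2).resolve_left fun k => ha.2.1 k.symm
    have d2 := ((hP.comm x hx b hb.1).1 hb.2.2).resolve_left fun k => hb.2.1 k.symm
    have d3 := ((hP.comm a ha.1 b hb.1).1 hab).resolve_left hne
    have h1 := Finset.card_union_of_disjoint (Finset.disjoint_union_left.2 ⟨d2, d3⟩)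
    rw [Finset.card_union_of_disjoint d1, hP.bij.mapsTo hx, hP.bij.mapsTo ha.1, hP.bij.mapsTo hb.1] at h1
    have h2 := Finset.card_le_univ (ψ x ∪ ψ a ∪ ψ b)
    rw [h1, Fintype.card_fin] at h2
    omega
  have hcard : 1 < (nbr D x).ncard := by rw [hdeg x hx]; decide
  obtain ⟨a, ha, b, hb, hne⟩ := (Set.one_lt_ncard (Set.toFinite _)).1 hcard
  refine hne (no_wTwins hG hx h3 ⟨ha, hb, ?_⟩)
  ext y
  exact ⟨fun ⟨hy, h1, h2⟩ => absurd h2 (hno a ha y hy (Ne.symm h1)),
    fun ⟨hy, h1, h2⟩ => absurd h2 (hno b hb y hy (Ne.symm h1))⟩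

theorem not_six (hG : Good D) {x : G} (hx : x ∈ D)
    (h2 : Cfsg.pCore 2 (Hd D x) ≤ Subgroup.center (Hd D x)) : ¬ KindSym D 6 := by
  classical
  intro hS
  obtain ⟨ψ, hP, -, -⟩ := sym_points hS
  obtain ⟨a, ha⟩ := exists_nbr hG hx
  have dxa := ((hP.comm x hx a ha.1).1 ha.2.2).resolve_left fun k => ha.2.1 k.symm
  have cx : (ψ x).card = 2 := hP.bij.mapsTo hx
  have ca : (ψ a).card = 2 := hP.bij.mapsTo ha.1
  set s : Finset (Fin 6) := (ψ x ∪ ψ a)ᶜ with hs
  have cs : s.card = 2 := by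
    rw [hs, Finset.card_compl, Fintype.card_fin, Finset.card_union_of_disjoint dxa, cx, ca]
  obtain ⟨b, hb, hbs⟩ := hP.bij.surjOn (show s ∈ {s : Finset (Fin 6) | s.card = 2} from cs)
  have dxb : Disjoint (ψ x) (ψ b) := by
    rw [hbs]; exact disjoint_compl_right.mono_left le_sup_left
  have dab : Disjoint (ψ a) (ψ b) := by
    rw [hbs]; exact disjoint_compl_right.mono_left le_sup_right
  have nab : a ≠ b := fun k => by
    subst k; rw [disjoint_self, Finset.bot_eq_empty] at dab; simp [dab] at ca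
  have nxb : b ≠ x := fun k => by
    subst k; rw [disjoint_self, Finset.bot_eq_empty] at dxb; simp [dxb] at cx
  have hbn : b ∈ nbr D x := ⟨hb, nxb, (hP.comm x hx b hb).2 (Or.inr dxb)⟩
  -- the four points away from `x`
  have key : ∀ c ∈ nbr D x, ∀ d ∈ nbr D x, ∀ e ∈ nbr D x, c ≠ d → Commute c d →
      Commute c e → e = c ∨ e = d := by
    intro c hc d hd e he hne hcd hce
    by_cases hec : e = c
    · exact Or.inl hec
    right
    have eq : ∀ t ∈ nbr D x, t ≠ c → Commute c t → ψ t = (ψ x ∪ ψ c)ᶜ := by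
      intro t ht htc hct
      have e1 := ((hP.comm x hx t ht.1).1 ht.2.2).resolve_left fun k => ht.2.1 k.symm
      have e2 := ((hP.comm c hc.1 t ht.1).1 hct).resolve_left fun k => htc k.symm
      have e3 := ((hP.comm x hx c hc.1).1 hc.2.2).resolve_left fun k => hc.2.1 k.symm
      refine Finset.eq_of_subset_of_card_le (fun z hz => ?_) ?_
      · rw [Finset.mem_compl, Finset.mem_union]
        exact not_or.2 ⟨fun k => Finset.disjoint_left.1 e1 k hz, fun k => Finset.disjoint_left.1 e2 k hz⟩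
      · rw [Finset.card_compl, Fintype.card_fin, Finset.card_union_of_disjoint e3,
          hP.bij.mapsTo hx, hP.bij.mapsTo hc.1, hP.bij.mapsTo ht.1]
    exact hP.bij.injOn he.1 hd.1 ((eq e he hec hce).trans (eq d hd hne.symm hcd).symm)
  have cab : Commute a b := (hP.comm a ha.1 b hb).2 (Or.inr dab)
  refine nab (no_vTwins hG hx h2 ha hbn fun e he => ⟨fun k => ?_, fun k => ?_⟩)
  · rcases key b hbn a ha e he nab.symm cab.symm k with rfl | rfl
    · exact cab
    · exact Commute.refl _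
  · rcases key a ha b hbn e he nab cab k with rfl | rfl
    · exact cab.symm
    · exact Commute.refl _

theorem not_sp (hG : Good D) {x : G} (hx : x ∈ D)
    (h2 : Cfsg.pCore 2 (Hd D x) ≤ Subgroup.center (Hd D x)) {m : ℕ} : ¬ KindSp D m := by
  rintro ⟨e, he⟩
  have hrep : ∀ a ∈ D, ∃ v : Fin m ⊕ Fin m → ZMod 2, v ≠ 0 ∧ e a = CfsgLib.Sp.tmat v 1 := fun a ha =>
    (Cfsg.Agent.S0440.mem_D_iff _).1 (by have := Set.mem_image_of_mem e ha; rw [he] at this; exact this)
  have hcomm : ∀ a b : G, ∀ v w : Fin m ⊕ Fin m → ZMod 2, v ≠ 0 → w ≠ 0 →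
      e a = CfsgLib.Sp.tmat v 1 → e b = CfsgLib.Sp.tmat w 1 →
      (Commute a b ↔ Cfsg.sympForm m (ZMod 2) v w = 0) := by
    intro a b v w hv hw hea heb
    rw [← commute_map_iff e.injective, hea, heb, PolarTwins.Models.sp_commute_iff hv hw]
  obtain ⟨a, ha⟩ := exists_nbr hG hx
  obtain ⟨u, hu, hxu⟩ := hrep x hx
  obtain ⟨v, hv, hav⟩ := hrep a ha.1
  have huv : v ≠ u := fun k => ha.2.1 (e.injective (by rw [hav, hxu, k]))
  have hw : v + u ≠ 0 := fun k => huv (by
    have := congrArg (· + u) k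
    simpa [add_assoc, ZModModule.add_self] using this)
  obtain ⟨b, hb, hbw⟩ : CfsgLib.Sp.tmat (v + u) 1 ∈ e '' D := by
    rw [he]; exact (Cfsg.Agent.S0440.mem_D_iff _).2 ⟨v + u, hw, rfl⟩
  have lin : ∀ p q r : Fin m ⊕ Fin m → ZMod 2, Cfsg.sympForm m (ZMod 2) (p + q) r =
      Cfsg.sympForm m (ZMod 2) p r + Cfsg.sympForm m (ZMod 2) q r := fun p q r => by
    rw [← CfsgLib.Sp.sympBilin_apply, map_add, LinearMap.add_apply, CfsgLib.Sp.sympBilin_apply,
      CfsgLib.Sp.sympBilin_apply]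
  have hxa := (hcomm x a u v hu hv hxu hav).1 ha.2.2
  have hax := (hcomm a x v u hv hu hav hxu).1 ha.2.2.symm
  have hbx : Commute b x := (hcomm b x _ u hw hu hbw hxu).2 (by
    rw [lin, hax, CfsgLib.Sp.sympForm_self, add_zero])
  have nbx : b ≠ x := fun k => hv (by
    have h1 := PolarTwins.Models.sp_tmat_injective hw ((hbw.symm.trans (congrArg e k)).trans hxu)
    exact add_eq_right.1 h1)
  have nab : a ≠ b := fun k => hu (by
    have h1 := PolarTwins.Models.sp_tmat_injective hw ((hbw.symm.trans (congrArg e k.symm)).trans hav)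
    exact add_eq_left.1 h1)
  refine nab (no_vTwins hG hx h2 ha ⟨hb, nbx, hbx.symm⟩ fun f hf => ?_)
  obtain ⟨w, hw', hfw⟩ := hrep f hf.1
  rw [hcomm b f _ w hw hw' hbw hfw, hcomm a f v w hv hw' hav hfw, lin,
    (hcomm x f u w hu hw' hxu hfw).1 hf.2.2, add_zero]

theorem not_psu (hG : Good D) {x : G} (hx : x ∈ D)
    (h2 : Cfsg.pCore 2 (Hd D x) ≤ Subgroup.center (Hd D x)) {n : ℕ} (hn : 4 ≤ n) :
    ¬ KindPSU D n := by
  intro hK
  obtain ⟨F, _, _, ψ, hE⟩ := psu_points hn hK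
  obtain ⟨a, ha⟩ := exists_nbr hG hx
  have hxa := (hE.comm x hx a ha.1).1 ha.2.2
  have hax := (hE.comm a ha.1 x hx).1 ha.2.2.symm
  set w := ψ a + ψ x with hw
  have hiso : Cfsg.hermForm n F 2 w w = 0 := by
    rw [hw, hE.add_left, UKill.add_right hE, UKill.add_right hE, hE.iso a ha.1,
      hE.iso x hx, hax, hxa]
    simp
  have hw0 : w ≠ 0 := fun k => ha.2.1 (hE.inj a ha.1 x hx ⟨-1, by
    rw [neg_one_smul]; exact eq_neg_of_add_eq_zero_left (by rw [add_comm]; exact k)⟩)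
  obtain ⟨b, hb, c, hc⟩ := hE.surj w hw0 hiso
  have hc0 : c ≠ 0 := fun k => hw0 (by rw [hc, k, zero_smul])
  have hbv : ∀ r, c * Cfsg.hermForm n F 2 (ψ b) r =
      Cfsg.hermForm n F 2 (ψ a) r + Cfsg.hermForm n F 2 (ψ x) r := fun r => by
    rw [← hE.smul_left, ← hc, hw, hE.add_left]
  have nbx : b ≠ x := fun k => ha.2.1 (hE.inj x hx a ha.1 ⟨c - 1, by
    rw [sub_smul, one_smul, eq_sub_iff_add_eq, ← hw, hc, k]⟩).symm
  have nab : a ≠ b := fun k => ha.2.1 (hE.inj a ha.1 x hx ⟨c - 1, by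
    rw [sub_smul, one_smul, eq_sub_iff_add_eq, add_comm, ← hw, hc, k]⟩)
  have hbx : Cfsg.hermForm n F 2 (ψ b) (ψ x) = 0 := by
    have := hbv (ψ x)
    rw [hax, hE.iso x hx, add_zero, mul_eq_zero] at this
    exact this.resolve_left hc0
  refine nab (no_vTwins hG hx h2 ha ⟨hb, nbx, ((hE.comm b hb x hx).2 hbx).symm⟩ fun f hf => ?_)
  rw [hE.comm b hb f hf.1, hE.comm a ha.1 f hf.1]
  have := hbv (ψ f)
  rw [(hE.comm x hx f hf.1).1 hf.2.2, add_zero] at this
  rw [← this, mul_eq_zero, or_iff_right hc0]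

/-- Classes of a primitive group whose neighbourhood groups have central cores. -/
theorem primitive_case (hD : Cfsg.IsThreeTranspositionGroup D) (hprim : Cfsg.IsPrimitiveUnderConj D)
    (hZ : Subgroup.center G = ⊥) (d : G) (hd : d ∈ D) (hw : ∃ b ∈ D, b ≠ d ∧ Commute d b)
    (h3 : Cfsg.pCore 3 ↥(Subgroup.closure {y : G | y ∈ D ∧ y ≠ d ∧ Commute d y}) ≤
      Subgroup.center ↥(Subgroup.closure {y : G | y ∈ D ∧ y ≠ d ∧ Commute d y}))
    (h2 : Cfsg.pCore 2 ↥(Subgroup.closure {y : G | y ∈ D ∧ y ≠ d ∧ Commute d y}) ≤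
      Subgroup.center ↥(Subgroup.closure {y : G | y ∈ D ∧ y ≠ d ∧ Commute d y}))
    (hcl : ∀ D' : Set G, Good D' → Known D') :
    (∃ n : ℕ, 7 ≤ n ∧ ∃ e : G ≃* Equiv.Perm (Fin n), e '' D = {σ : Equiv.Perm (Fin n) | σ.IsSwap}) ∨
    ((∃ m : ℕ, 3 ≤ m ∧ ∃ e : G ≃* ↥(Cfsg.isometryGroup (ZMod 2) (Cfsg.quadFormPlus m (ZMod 2))),
        e '' D = {g : ↥(Cfsg.isometryGroup (ZMod 2) (Cfsg.quadFormPlus m (ZMod 2))) |
          (((g : GL (Fin m ⊕ Fin m) (ZMod 2)) : Matrix (Fin m ⊕ Fin m) (Fin m ⊕ Fin m) (ZMod 2)) - 1).rank = 1}) ∨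
      (∃ m : ℕ, 2 ≤ m ∧ ∃ e : G ≃* ↥(Cfsg.isometryGroup (ZMod 2) (Cfsg.quadFormMinus m (ZMod 2) 1 1)),
        e '' D = {g : ↥(Cfsg.isometryGroup (ZMod 2) (Cfsg.quadFormMinus m (ZMod 2) 1 1)) |
          (((g : GL ((Fin m ⊕ Fin m) ⊕ Fin 2) (ZMod 2)) :
            Matrix ((Fin m ⊕ Fin m) ⊕ Fin 2) ((Fin m ⊕ Fin m) ⊕ Fin 2) (ZMod 2)) - 1).rank = 1})) ∨
    (∃ n : ℕ, 5 ≤ n ∧ ∃ Q : QuadraticForm (ZMod 3) (Fin n → ZMod 3),
      (QuadraticMap.polarBilin Q).Nondegenerate ∧ ∃ c : ZMod 3, c ≠ 0 ∧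
      ∃ e : G ≃* ↥(Cfsg.reflectionSubgroup (⇑Q) c) ⧸ Subgroup.center ↥(Cfsg.reflectionSubgroup (⇑Q) c),
        e '' D = (QuotientGroup.mk : ↥(Cfsg.reflectionSubgroup (⇑Q) c) → _) ''
          {g : ↥(Cfsg.reflectionSubgroup (⇑Q) c) |
            (g : ↥(Cfsg.isometryGroup (ZMod 3) (⇑Q))) ∈ Cfsg.reflectionsOfNorm (⇑Q) c}) ∨
    (Cfsg.IsOfTypeM22 G D ∨ Cfsg.IsOfTypeM23 G D ∨ Cfsg.IsOfTypeM24 G D) := by
  obtain ⟨b, hb, hbd, hdb⟩ := hw
  have hG : Good D := ⟨⟨classTwo_of_primitive hD hprim, hprim, ⟨d, hd, b, hb, Ne.symm hbd, hdb⟩⟩, hZ⟩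
  rcases hcl D hG with ⟨n, hn, hk⟩ | ⟨m, -, hk⟩ | ⟨n, hn, hk⟩ | (⟨m, hm, hk⟩ | ⟨m, hm, hk⟩) |
    ⟨n, hn, Q, hQ, c, hc, hk⟩ | hk
  · by_cases h7 : 7 ≤ n
    · exact Or.inl ⟨n, h7, hk⟩
    rcases (show n = 5 ∨ n = 6 by omega) with rfl | rfl
    · exact absurd hk (not_five hG hd h3)
    · exact absurd hk (not_six hG hd h2)
  · exact absurd hk (not_sp hG hd h2)
  · exact absurd hk (not_psu hG hd h2 hn)
  · exact Or.inr (Or.inl (Or.inl ⟨m, by omega, hk⟩))
  · exact Or.inr (Or.inl (Or.inr ⟨m, hm, hk⟩))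
  · exact Or.inr (Or.inr (Or.inl ⟨n, by omega, Q, hQ, c, hc, hk⟩))
  · exact Or.inr (Or.inr (Or.inr hk))

/-- A centreless group with simple derived group whose members commute only with themselves is the
symmetric group of degree three. -/
theorem sym_three (hD : Cfsg.IsThreeTranspositionClass D) (hZ : Subgroup.center G = ⊥)
    (hsimple : IsSimpleGroup (commutator G))
    (hno : ∀ a ∈ D, ∀ b ∈ D, Commute a b → a = b) :
    ∃ e : G ≃* Equiv.Perm (Fin 3), e '' D = {σ : Equiv.Perm (Fin 3) | σ.IsSwap} := by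
  classical
  have := hsimple
  have hc := conjClosed_of_class hD
  have hs := hc.set
  have hgen := hD.2.2
  -- the members are not all equal
  have htwo : ∃ a ∈ D, ∃ b ∈ D, a ≠ b := by
    obtain ⟨d, hd, -⟩ := hD.2.1
    by_contra! h
    exact ne_one hs hd (Subgroup.mem_bot.1 (hZ ▸ mem_center_of_commute hgen fun e he => by
      rw [h d hd e he]))
  have hC : ClassTwo D := classTwo_of hD htwo
  have : Fact (Nat.Prime 3) := ⟨Nat.prime_three⟩
  set P := Subgroup.closure {z | ∃ x ∈ D, ∃ y ∈ D, z = x * y} with hP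
  have hp3 : IsPGroup 3 P := WidthOne.isPGroup_products
    ⟨fun x hx => mul_self hs hx, fun x hx y hy => by
      rcases eq_or_ne x y with rfl | hne
      · rfl
      · exact braid hs hx hy fun k => hne (hno x hx y hy k),
      fun x hx y hy => conj_mem_left hc hx hy⟩
  have hPn : P.Normal := by
    refine ⟨fun z hz g => ?_⟩
    induction hz using Subgroup.closure_induction with
    | mem z hz =>
      obtain ⟨x, hx, y, hy, rfl⟩ := hz
      exact Subgroup.subset_closure ⟨g * x * g⁻¹, hc.conj g x hx, g * y * g⁻¹, hc.conj g y hy, by group⟩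
    | one => simp
    | mul u v _ _ iu iv => simpa [mul_assoc] using P.mul_mem iu iv
    | inv u _ iu => simpa [mul_assoc] using P.inv_mem iu
  have hle : commutator G ≤ P := by
    obtain ⟨a, ha, -⟩ := htwo
    have hall : ∀ g : G, g ∈ P ∨ g * a ∈ P := by
      intro g
      have hg : g ∈ Subgroup.closure D := hgen ▸ Subgroup.mem_top g
      induction hg using Subgroup.closure_induction with
      | mem z hz => exact Or.inr (Subgroup.subset_closure ⟨z, hz, a, ha, rfl⟩)
      | one => exact Or.inl (one_mem _)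
      | mul u v _ _ iu iv =>
        rcases iv with iv | iv
        · rcases iu with iu | iu
          · exact Or.inl (mul_mem iu iv)
          · refine Or.inr ?_
            have := mul_mem iu (hPn.conj_mem v iv a⁻¹)
            simpa [mul_assoc] using this
        · rcases iu with iu | iu
          · exact Or.inr (by simpa [mul_assoc] using mul_mem iu iv)
          · refine Or.inl ?_
            have := mul_mem iu (hPn.conj_mem _ iv a⁻¹)
            simpa [mul_assoc, mul_self hs ha] using this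
      | inv u _ iu =>
        rcases iu with iu | iu
        · exact Or.inl (inv_mem iu)
        · refine Or.inr ?_
          have := hPn.conj_mem _ (inv_mem iu) a
          simpa [mul_assoc, inv_eq hs ha, mul_self hs ha, mul_self_mul hs ha] using this
    have hab : Std.Commutative (· * · : G ⧸ P → G ⧸ P → G ⧸ P) := ⟨fun p q => by
      have h2 : ∀ p : G ⧸ P, p = 1 ∨ p = QuotientGroup.mk a := fun p => by
        obtain ⟨g, rfl⟩ := QuotientGroup.mk_surjective p
        rcases hall g with h | h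
        · exact Or.inl ((QuotientGroup.eq_one_iff g).2 h)
        · refine Or.inr (QuotientGroup.eq.2 ?_)
          have := hPn.conj_mem _ (inv_mem h) a
          simpa [mul_assoc, inv_eq hs ha, mul_self hs ha, mul_self_mul hs ha] using this
      rcases h2 p with rfl | rfl <;> rcases h2 q with rfl | rfl <;> simp⟩
    rw [commutator_def, Subgroup.commutator_le]
    intro g _ k _
    rw [← QuotientGroup.eq_one_iff, commutatorElement_def]
    simp only [QuotientGroup.mk_mul, QuotientGroup.mk_inv]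
    rw [hab.comm (QuotientGroup.mk g : G ⧸ P) (QuotientGroup.mk k : G ⧸ P)]
    simp
  have h3 : ∀ g ∈ commutator G, ∀ k ∈ commutator G, g * k = k * g := by
    have hp : IsPGroup 3 (commutator G) := hp3.to_le hle
    have : Group.IsNilpotent (commutator G) := hp.isNilpotent
    intro g hg k hk
    exact congrArg Subtype.val (IsSimpleGroup.comm_iff_isSolvable.2
      (inferInstanceAs (Group.IsSolvable (commutator G))) ⟨g, hg⟩ ⟨k, hk⟩)
  obtain ⟨a, ha, b, hb, hne⟩ := htwo
  have hnc : ¬ Commute a b := fun k => hne (hno a ha b hb k)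
  have hcoset : ∀ y ∈ D, a * y ∈ commutator G := by
    intro y hy
    obtain ⟨g, rfl⟩ := hC.class_eq a ha y hy
    have h := Subgroup.commutator_mem_commutator (Subgroup.mem_top a⁻¹) (Subgroup.mem_top g)
    rw [commutatorElement_def, inv_inv, inv_eq hs ha] at h
    simpa [commutator_def, mul_assoc] using h
  -- the three members
  have hpow : ∀ y ∈ D, y = a ∨ y = b ∨ y = a * b * a := by
    intro y hy
    let t : commutator G := ⟨a * b, hcoset b hb⟩
    have hn : (Subgroup.zpowers t).Normal := ⟨fun n hn g => by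
      have : g * n = n * g := Subtype.ext (h3 _ g.2 _ n.2)
      rwa [this, mul_inv_cancel_right]⟩
    have htop : Subgroup.zpowers t = ⊤ := hn.eq_bot_or_eq_top.resolve_left fun h => by
      rw [Subgroup.zpowers_eq_bot] at h
      exact hne ((mul_eq_one_iff_eq' hs hb).1 (congrArg Subtype.val h))
    obtain ⟨k, hk⟩ := Subgroup.mem_zpowers_iff.1 (htop ▸ Subgroup.mem_top (⟨a * y, hcoset y hy⟩ : commutator G))
    have hk' : (a * b) ^ k = a * y := congrArg Subtype.val hk
    have hy' : y = a * (a * b) ^ k := by rw [hk', mul_self_mul hs ha]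
    have ht3 := pow_three_of_not_commute hs ha hb hnc
    have hk3 : (a * b) ^ k = (a * b) ^ (k % 3) := by
      conv_lhs => rw [← Int.mul_ediv_add_emod k 3, zpow_add, zpow_mul, zpow_ofNat, ht3, one_zpow, one_mul]
    rw [hk3] at hy'
    rcases (show k % 3 = 0 ∨ k % 3 = 1 ∨ k % 3 = 2 by omega) with e | e | e <;> rw [e] at hy'
    · exact Or.inl (by simpa using hy')
    · exact Or.inr (Or.inl (by simpa [mul_self_mul hs ha] using hy'))
    · refine Or.inr (Or.inr ?_)
      rw [hy', zpow_ofNat, pow_two, braid hs ha hb hnc]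
      simp only [mul_assoc, mul_self_mul hs ha]
  have hcD : a * b * a ∈ D := conj_mem_left hc ha hb
  have hca : a * b * a ≠ a := fun k => hne ((mul_eq_one_iff_eq' hs hb).1 (by
    have := congrArg (· * a) k
    simpa [mul_assoc, mul_self hs ha] using this))
  have hcb : a * b * a ≠ b := fun k => hnc (by
    have := congrArg (· * a) k
    show a * b = b * a
    simpa [mul_assoc, mul_self hs ha] using this)
  have hDeq : D = {a, b, a * b * a} := Set.ext fun y =>
    ⟨fun h => by rcases hpow y h with h | h | h <;> simp [h], by rintro (rfl | rfl | rfl) <;> assumption⟩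
  have h3D : Nat.card D = 3 := by
    rw [Nat.card_coe_set_eq, hDeq, Set.ncard_eq_three]
    exact ⟨a, b, a * b * a, hne, hca.symm, hcb.symm, rfl⟩
  let _ : Fintype D := Fintype.ofFinite _
  let i : D ≃ Fin 3 := (Fintype.equivFinOfCardEq (by rw [← Nat.card_eq_fintype_card, h3D]))
  let act : G →* Equiv.Perm (Fin 3) :=
    { toFun := fun g => i.permCongr
        { toFun := fun y => ⟨g * y * g⁻¹, hc.conj g _ y.2⟩
          invFun := fun y => ⟨g⁻¹ * y * g, hc.conj' g y.2⟩
          left_inv := fun y => Subtype.ext (by group)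
          right_inv := fun y => Subtype.ext (by group) }
      map_one' := Equiv.ext fun z => by simp [Equiv.permCongr_apply]
      map_mul' := fun g h => Equiv.ext fun z => by
        simp [Equiv.permCongr_apply, mul_assoc] }
  have hact : ∀ g (y : D), act g (i y) = i ⟨g * y * g⁻¹, hc.conj g _ y.2⟩ := fun g y => by
    simp [act, Equiv.permCongr_apply]
  have hinj : Function.Injective act := by
    rw [← MonoidHom.ker_eq_bot_iff, Subgroup.eq_bot_iff_forall]
    intro g hg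
    refine Subgroup.mem_bot.1 (hZ ▸ mem_center_of_commute hgen fun y hy => ?_)
    have := hact g ⟨y, hy⟩
    rw [MonoidHom.mem_ker.1 hg, Equiv.Perm.one_apply, i.injective.eq_iff] at this
    exact mul_inv_eq_iff_eq_mul.1 (congrArg Subtype.val this).symm
  have hswap : ∀ y (hy : y ∈ D), ∀ u (hu : u ∈ D), u ≠ y → act y = Equiv.swap (i ⟨u, hu⟩)
      (i ⟨y * u * y⁻¹, hc.conj y _ hu⟩) ∧ u ≠ y * u * y⁻¹ := by
    intro y hy u hu huy
    have hne' : u ≠ y * u * y⁻¹ := fun k => huy (hno u hu y hy (Commute.symm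
      (mul_inv_eq_iff_eq_mul.1 k.symm)))
    refine ⟨Equiv.ext fun z => ?_, hne'⟩
    obtain ⟨w, rfl⟩ := i.surjective z
    have hy3 : (w : G) = u ∨ (w : G) = y * u * y⁻¹ ∨ (w : G) = y := by
      by_contra! h
      have h4 : ({(w : G), u, y * u * y⁻¹, y} : Set G) ⊆ D := by
        rintro _ (rfl | rfl | rfl | rfl) <;> first | exact w.2 | exact hu | exact hc.conj y _ hu | exact hy
      have h5 := Set.ncard_le_ncard h4 (Set.toFinite D)
      have h6 : y * u * y⁻¹ ≠ y := fun k => huy (by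
        have := congrArg (fun t => y⁻¹ * t * y) k
        simpa [mul_assoc] using this)
      rw [Set.ncard_insert_of_notMem (by simp [h.1, h.2.1, h.2.2]),
        Set.ncard_eq_three.2 ⟨u, y * u * y⁻¹, y, hne', huy, h6, rfl⟩, ← Nat.card_coe_set_eq D, h3D] at h5
      omega
    rw [hact]
    rcases hy3 with h | h | h
    · rw [show w = ⟨u, hu⟩ from Subtype.ext h, Equiv.swap_apply_left]
    · rw [show w = ⟨y * u * y⁻¹, hc.conj y _ hu⟩ from Subtype.ext h, Equiv.swap_apply_right]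
      refine congrArg i (Subtype.ext ?_)
      show y * (y * u * y⁻¹) * y⁻¹ = u
      rw [inv_eq hs hy]; simp [mul_assoc, mul_self hs hy, mul_self_mul hs hy]
    · rw [show w = ⟨y, hy⟩ from Subtype.ext h, Equiv.swap_apply_of_ne_of_ne
        (fun k => huy (congrArg Subtype.val (i.injective k)).symm) fun k => huy (by
          have h7 : y = y * u * y⁻¹ := congrArg Subtype.val (i.injective k)
          have := congrArg (fun t => y⁻¹ * t * y) h7
          simpa [mul_assoc] using this.symm)]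
      exact congrArg i (Subtype.ext (mul_inv_cancel_right y y))
  have himg : act '' D = {σ : Equiv.Perm (Fin 3) | σ.IsSwap} := by
    refine Set.eq_of_subset_of_ncard_le ?_ ?_ (Set.toFinite _)
    · rintro _ ⟨y, hy, rfl⟩
      obtain ⟨u, hu, huy⟩ : ∃ u ∈ D, u ≠ y := by
        by_cases h : a = y
        · exact ⟨b, hb, fun k => hne (h.trans k.symm)⟩
        · exact ⟨a, ha, h⟩
      obtain ⟨e, hne'⟩ := hswap y hy u hu huy
      exact ⟨_, _, fun k => hne' (congrArg Subtype.val (i.injective k)), e⟩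
    · rw [Set.ncard_image_of_injective _ hinj, ← Nat.card_coe_set_eq D, h3D]
      refine le_trans (Set.ncard_le_ncard
        (t := {Equiv.swap (0 : Fin 3) 1, Equiv.swap 0 2, Equiv.swap 1 2}) ?_ (Set.toFinite _)) ?_
      · rintro σ ⟨v, w, hvw, rfl⟩
        have key : ∀ v w : Fin 3, v ≠ w → Equiv.swap v w = Equiv.swap 0 1 ∨
            Equiv.swap v w = Equiv.swap 0 2 ∨ Equiv.swap v w = Equiv.swap 1 2 := by decide
        simpa using key v w hvw
      · exact le_trans (Set.ncard_insert_le _ _) (Nat.add_le_add_right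
          (le_trans (Set.ncard_insert_le _ _) (by rw [Set.ncard_singleton])) 1)
  have hsurj : Function.Surjective act := by
    rw [← MonoidHom.range_eq_top, eq_top_iff, ← Equiv.Perm.closure_isSwap, Subgroup.closure_le, ← himg]
    rintro _ ⟨y, -, rfl⟩
    exact ⟨y, rfl⟩
  exact ⟨MulEquiv.ofBijective act ⟨hinj, hsurj⟩, himg⟩

/-- Classes of a centreless group with simple derived group. -/
theorem theorem_case (hD : Cfsg.IsThreeTranspositionClass D) (hZ : Subgroup.center G = ⊥)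
    (hsimple : IsSimpleGroup (commutator G)) (hcl : ∀ D' : Set G, Good D' → Known D') :
    (∃ n : ℕ, ∃ e : G ≃* Equiv.Perm (Fin n), e '' D = {σ : Equiv.Perm (Fin n) | σ.IsSwap}) ∨
    (∃ m : ℕ, ∃ e : G ≃* Matrix.symplecticGroup (Fin m) (ZMod 2),
      e '' D = {g : Matrix.symplecticGroup (Fin m) (ZMod 2) |
        ((g : Matrix (Fin m ⊕ Fin m) (Fin m ⊕ Fin m) (ZMod 2)) - 1).rank = 1}) ∨
    (∃ (n : ℕ) (F : Type) (_ : Field F) (_ : Fintype F), Fintype.card F = 4 ∧
      ∃ e : G ≃* Cfsg.PSU n F 2, e '' D = (QuotientGroup.mk : ↥(Cfsg.SU n F 2) → Cfsg.PSU n F 2) ''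
        {g : ↥(Cfsg.SU n F 2) | (((g : Matrix.SpecialLinearGroup (Fin n) F) : Matrix (Fin n) (Fin n) F) - 1).rank = 1}) ∨
    ((∃ m : ℕ, ∃ e : G ≃* ↥(Cfsg.isometryGroup (ZMod 2) (Cfsg.quadFormPlus m (ZMod 2))),
        e '' D = {g : ↥(Cfsg.isometryGroup (ZMod 2) (Cfsg.quadFormPlus m (ZMod 2))) |
          (((g : GL (Fin m ⊕ Fin m) (ZMod 2)) : Matrix (Fin m ⊕ Fin m) (Fin m ⊕ Fin m) (ZMod 2)) - 1).rank = 1}) ∨
      (∃ m : ℕ, ∃ e : G ≃* ↥(Cfsg.isometryGroup (ZMod 2) (Cfsg.quadFormMinus m (ZMod 2) 1 1)),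
        e '' D = {g : ↥(Cfsg.isometryGroup (ZMod 2) (Cfsg.quadFormMinus m (ZMod 2) 1 1)) |
          (((g : GL ((Fin m ⊕ Fin m) ⊕ Fin 2) (ZMod 2)) :
            Matrix ((Fin m ⊕ Fin m) ⊕ Fin 2) ((Fin m ⊕ Fin m) ⊕ Fin 2) (ZMod 2)) - 1).rank = 1})) ∨
    (∃ n : ℕ, ∃ Q : QuadraticForm (ZMod 3) (Fin n → ZMod 3),
      (QuadraticMap.polarBilin Q).Nondegenerate ∧ ∃ c : ZMod 3, c ≠ 0 ∧
      ∃ e : G ≃* ↥(Cfsg.reflectionSubgroup (⇑Q) c) ⧸ Subgroup.center ↥(Cfsg.reflectionSubgroup (⇑Q) c),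
        e '' D = (QuotientGroup.mk : ↥(Cfsg.reflectionSubgroup (⇑Q) c) → _) ''
          {g : ↥(Cfsg.reflectionSubgroup (⇑Q) c) |
            (g : ↥(Cfsg.isometryGroup (ZMod 3) (⇑Q))) ∈ Cfsg.reflectionsOfNorm (⇑Q) c}) ∨
    (Cfsg.IsOfTypeM22 G D ∨ Cfsg.IsOfTypeM23 G D ∨ Cfsg.IsOfTypeM24 G D) := by
  by_cases hpair : ∃ a ∈ D, ∃ b ∈ D, a ≠ b ∧ Commute a b
  · obtain ⟨a, ha, b, hb, hne, -⟩ := id hpair
    have hC : ClassTwo D := classTwo_of hD ⟨a, ha, b, hb, hne⟩
    have hG : Good D := ⟨⟨hC, hC.primitive_of_simple_derived hpair hZ hsimple, hpair⟩, hZ⟩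
    rcases hcl D hG with ⟨n, -, hk⟩ | ⟨m, -, hk⟩ | ⟨n, -, hk⟩ | (⟨m, -, hk⟩ | ⟨m, -, hk⟩) |
      ⟨n, -, Q, hQ, c, hc, hk⟩ | hk
    · exact Or.inl ⟨n, hk⟩
    · exact Or.inr (Or.inl ⟨m, hk⟩)
    · exact Or.inr (Or.inr (Or.inl ⟨n, hk⟩))
    · exact Or.inr (Or.inr (Or.inr (Or.inl (Or.inl ⟨m, hk⟩))))
    · exact Or.inr (Or.inr (Or.inr (Or.inl (Or.inr ⟨m, hk⟩))))
    · exact Or.inr (Or.inr (Or.inr (Or.inr (Or.inl ⟨n, Q, hQ, c, hc, hk⟩))))
    · exact Or.inr (Or.inr (Or.inr (Or.inr (Or.inr hk))))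
  · push Not at hpair
    exact Or.inl ⟨3, sym_three hD hZ hsimple fun a ha b hb h => by_contra fun hne => hpair a ha b hb hne h⟩

end CfsgLib.ThreeTrans.Classif.FinalCases
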