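import Cfsg.Agent.Lib.ThreeTrans.Classif.Points
import Cfsg.Agent.Lib.ThreeTrans.Classif.SmallIso
import Cfsg.Agent.Lib.KnownSimple.QuadTwo

/-!
# The point models of the kinds of classes

Each kind of class gives a bijection with the points of its classical space under which commuting and
conjugation are the visible ones.
-/

set_option autoImplicit false
set_option linter.unusedSectionVars false

namespace CfsgLib.ThreeTrans.Classif.KindPoints

open Cfsg CfsgLib.ThreeTrans
open QuadraticMap CfsgLib.Orth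

universe v

variable {Y : Type v} [Group Y] {E : Set Y}

/-- Coordinates of the members from a parametrisation of the image class. -/
theorem exists_chart {M W : Type*} [Group M] [Zero W] {T : Set M} (e : Y ≃* M) (he : e '' E = T)
    (S : Set W) (f : W → M) (hT : T = f '' S) :
    ∃ ψ : Y → W, (∀ a ∈ E, ψ a ∈ S ∧ e a = f (ψ a)) ∧ ∀ z ∈ S, ∃ a ∈ E, e a = f z := by
  classical
  have h : ∀ a ∈ E, ∃ z ∈ S, e a = f z := fun a ha => by
    obtain ⟨z, hz, hze⟩ := hT ▸ he ▸ Set.mem_image_of_mem e ha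
    exact ⟨z, hz, hze.symm⟩
  refine ⟨fun a => if h' : ∃ z ∈ S, e a = f z then h'.choose else 0,
    fun a ha => by simp only [dif_pos (h a ha)]; exact (h a ha).choose_spec, fun z hz => ?_⟩
  obtain ⟨a, ha, hae⟩ : f z ∈ e '' E := he.symm ▸ hT.symm ▸ Set.mem_image_of_mem f hz
  exact ⟨a, ha, hae⟩

/-! ### Symplectic groups -/

theorem sympForm_eq_B {m : ℕ} (u w : Fin m ⊕ Fin m → ZMod 2) :
    sympForm m (ZMod 2) u w = CfsgLib.KnownSimple.QuadTwo.B m u w := by
  simp [sympForm, CfsgLib.KnownSimple.QuadTwo.B_apply, Matrix.J,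
    dotProduct, Fintype.sum_sum_type, Finset.sum_add_distrib, CharTwo.neg_eq,
    Matrix.mulVec, Matrix.one_apply]

/-- A class of the symplectic kind has the non-zero vectors as model. -/
theorem sp_points {m : ℕ} (hE : KindSp E m) :
    ∃ ψ, SympPts E (CfsgLib.KnownSimple.QuadTwo.B m) ψ := by
  obtain ⟨e, he⟩ := hE
  obtain ⟨ψ, hψ, hsurj⟩ := exists_chart e he {z : Fin m ⊕ Fin m → ZMod 2 | z ≠ 0}
    (fun z => CfsgLib.Sp.tmat z (1 : ZMod 2)) (by
      ext g
      exact (Cfsg.Agent.S0440.mem_D_iff g).trans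
        ⟨fun ⟨z, hz, e⟩ => ⟨z, hz, e.symm⟩, fun ⟨z, hz, e⟩ => ⟨z, hz, e.symm⟩⟩)
  refine ⟨ψ, fun u => CfsgLib.KnownSimple.QuadTwo.B_self u, fun u hu => ?_, ⟨fun a ha => (hψ a ha).1,
    fun a ha b hb h => e.injective (by rw [(hψ a ha).2, (hψ b hb).2, h]), fun z hz => ?_⟩,
    fun a ha b hb => ?_, fun a ha b hb => ?_⟩
  · exact CfsgLib.KnownSimple.QuadTwo.B_ext fun w => by
      rw [CfsgLib.KnownSimple.QuadTwo.B_comm, hu, map_zero]
  · obtain ⟨a, ha, hae⟩ := hsurj z hz
    exact ⟨a, ha, PolarTwins.Models.sp_tmat_injective (hψ a ha).1 ((hψ a ha).2.symm.trans hae)⟩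
  · rw [← sympForm_eq_B, ← PolarTwins.Models.sp_commute_iff (hψ a ha).1 (hψ b hb).1, ← (hψ a ha).2,
      ← (hψ b hb).2, commute_map_iff e.injective]
  · have hinv : (CfsgLib.Sp.tmat (ψ a) (1 : ZMod 2))⁻¹ = CfsgLib.Sp.tmat (ψ a) 1 := by
      rw [CfsgLib.Sp.tmat_inv]; rfl
    have h := Cfsg.Agent.S0440.conj_cases (ψ a) (ψ b)
    rw [hinv, ← (hψ a ha).2, ← (hψ b hb).2, ← map_mul, ← map_mul] at h
    set z := ψ b + sympForm m (ZMod 2) (ψ b) (ψ a) • ψ a with hz
    have hz0 : z ≠ 0 := fun h0 => by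
      have hne := Cfsg.Agent.S0440.tmat_ne_one (hψ b hb).1
      rw [← (hψ b hb).2] at hne
      have haa : (a * b * a = 1) → b = 1 := fun k => by
        have ha2 : a * a = 1 := e.injective (by
          rw [map_mul, map_one, (hψ a ha).2]; exact mul_eq_one_iff_inv_eq.2 hinv)
        calc b = a * (a * b * a) * a := by simp only [← mul_assoc, ha2, one_mul]; rw [mul_assoc, ha2, mul_one]
          _ = 1 := by rw [k, mul_one, ha2]
      refine hne ?_
      rw [haa (e.injective (h.trans (by rw [h0, map_one]; exact Subtype.ext (by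
        simp [CfsgLib.Sp.tmat, Cfsg.sympTransvection])))), map_one]
    obtain ⟨x, hx, hxe⟩ := hsurj z hz0
    obtain rfl : x = a * b * a := e.injective (hxe.trans h.symm)
    rw [← sympForm_eq_B, PolarTwins.Models.sp_tmat_injective (hψ _ hx).1 ((hψ _ hx).2.symm.trans hxe), hz,
      CfsgLib.Sp.sympForm_flip, CharTwo.neg_eq]

/-- The symmetric group of degree six as a symplectic class. -/
theorem sym_six_points (hE : KindSym E 6) : ∃ ψ, SympPts E (CfsgLib.KnownSimple.QuadTwo.B 2) ψ :=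
  sp_points (SmallIso.sym6_sp4 hE)

/-! ### Orthogonal groups over two elements -/

section OrthTwo

variable {ι : Type} [Fintype ι] [DecidableEq ι] {Q : QuadraticForm (ZMod 2) (ι → ZMod 2)}

/-- A class of orthogonal transvections has the non-singular vectors as model. -/
theorem orth_points (hQ : Q.polarBilin.Nondegenerate) (e : Y ≃* ↥(Cfsg.isometryGroup (ZMod 2) ⇑Q))
    (he : e '' E = {g : ↥(Cfsg.isometryGroup (ZMod 2) ⇑Q) |
      (((g : Matrix.GeneralLinearGroup ι (ZMod 2)) : Matrix ι ι (ZMod 2)) - 1).rank = 1}) :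
    ∃ ψ, OrthPts E Q ψ := by
  obtain ⟨ψ, hψ, hsurj⟩ := exists_chart e he {z : ι → ZMod 2 | Q z = 1} (refl Q) (by
    ext g
    exact (TransvecTwo.rank_one_iff hQ g).trans
      ⟨fun ⟨z, hz, e⟩ => ⟨z, TransvecTwo.eq_one_of_ne hz, e.symm⟩,
        fun ⟨z, hz, e⟩ => ⟨z, by rw [show Q z = 1 from hz]; exact one_ne_zero, e.symm⟩⟩)
  have hne : ∀ a ∈ E, Q (ψ a) ≠ 0 := fun a ha => by
    rw [show Q (ψ a) = 1 from (hψ a ha).1]; exact one_ne_zero
  have hkey : ∀ a ∈ E, ∀ b ∈ E,
      e (a * b * a) = refl Q (ψ b + polar Q (ψ a) (ψ b) • ψ a) ∧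
        Q (ψ b + polar Q (ψ a) (ψ b) • ψ a) = 1 := fun a ha b hb => by
    have h := refl_conj (refl Q (ψ a)) (ψ b)
    have hQz : Q (app (refl Q (ψ a)) (ψ b)) = 1 := by rw [Q_app]; exact (hψ b hb).1
    rw [refl_inv, ← (hψ a ha).2, ← (hψ b hb).2, ← map_mul, ← map_mul, (hψ a ha).2,
      TransvecTwo.app_refl_add (hne a ha), polar_comm (⇑Q) (ψ b)] at h
    rw [TransvecTwo.app_refl_add (hne a ha), polar_comm (⇑Q) (ψ b)] at hQz
    exact ⟨h, hQz⟩
  refine ⟨ψ, fun u hu => hQ.1 u hu, ⟨fun a ha => (hψ a ha).1,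
    fun a ha b hb h => e.injective (by rw [(hψ a ha).2, (hψ b hb).2, h]), fun z hz => ?_⟩,
    fun a ha b hb => ?_, fun a ha b hb => ?_⟩
  · obtain ⟨a, ha, hae⟩ := hsurj z hz
    exact ⟨a, ha, SmallIso.refl_injective_two hQ (hne a ha)
      (by rw [show Q z = 1 from hz]; exact one_ne_zero) ((hψ a ha).2.symm.trans hae)⟩
  · obtain ⟨h, hz⟩ := hkey a ha b hb
    have haa : a * a = 1 := e.injective (by rw [map_mul, map_one, (hψ a ha).2, refl_mul_self])
    constructor
    · intro hc
      rw [hc.eq, mul_assoc, haa, mul_one, (hψ b hb).2] at h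
      have e' := SmallIso.refl_injective_two hQ (hne b hb) (by rw [hz]; exact one_ne_zero) h
      rw [left_eq_add, smul_eq_zero] at e'
      exact e'.resolve_right fun k => hne a ha (by rw [k, QuadraticMap.map_zero])
    · intro hp
      rw [hp, zero_smul, add_zero, ← (hψ b hb).2] at h
      have h' := e.injective h
      calc a * b = a * b * (a * a) := by rw [haa, mul_one]
        _ = b * a := by rw [← mul_assoc, h']
  · obtain ⟨h, hz⟩ := hkey a ha b hb
    obtain ⟨x, hx, hxe⟩ := hsurj _ hz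
    obtain rfl : x = a * b * a := e.injective (hxe.trans h.symm)
    exact SmallIso.refl_injective_two hQ (hne _ hx) (by rw [hz]; exact one_ne_zero)
      ((hψ _ hx).2.symm.trans hxe)

end OrthTwo

/-- A class of the plus kind has the non-singular vectors of the hyperbolic space as model. -/
theorem oPlus_points {m : ℕ} (hE : KindOPlus E m) : ∃ ψ, OrthPts E (plusQ m (ZMod 2)) ψ := by
  rw [KindOPlus, ← plusQ_coe] at hE
  obtain ⟨e, he⟩ := hE
  exact orth_points (plusQ_nondegenerate m) e he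

/-- A class of the minus kind has the non-singular vectors of the elliptic space as model. -/
theorem oMinus_points {m : ℕ} (hE : KindOMinus E m) : ∃ ψ, OrthPts E (minusQ m (ZMod 2) 1 1) ψ := by
  rw [KindOMinus, ← minusQ_coe] at hE
  obtain ⟨e, he⟩ := hE
  exact orth_points (CfsgLib.POmega.minusQ_nondegenerate_any MinusSix.aniso) e he

theorem card_plus_index (m : ℕ) : Fintype.card (Fin m ⊕ Fin m) = 2 * m := by simp; omega

theorem card_minus_index (m : ℕ) : Fintype.card ((Fin m ⊕ Fin m) ⊕ Fin 2) = 2 * m + 2 := by simp; omega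

/-! ### Reflection groups -/

section Refl

variable {n : ℕ} {Q : QuadraticForm (ZMod 3) (Fin n → ZMod 3)} {c : ZMod 3}

theorem exists_perp_ne (hn : 4 ≤ n) (u v w : Fin n → ZMod 3) :
    ∃ x, x ≠ 0 ∧ polar Q u x = 0 ∧ polar Q v x = 0 ∧ polar Q w x = 0 := by
  obtain ⟨x, hx, hx0⟩ := Submodule.exists_mem_ne_zero_of_ne_bot
    (LinearMap.ker_ne_bot_of_finrank_lt
      (f := ((Q.polarBilin u).prod ((Q.polarBilin v).prod (Q.polarBilin w))))
      (by simp only [Module.finrank_prod, Module.finrank_self, Module.finrank_fin_fun]; omega))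
  simp only [LinearMap.mem_ker, LinearMap.prod_apply, Function.prod_apply, Prod.mk_eq_zero] at hx
  exact ⟨x, hx0, hx.1, hx.2.1, hx.2.2⟩

/-- Reflections of norm `c` agreeing modulo the centre are equal. -/
theorem rc_mk_injective (hn : 4 ≤ n) (hc : c ≠ 0) {u v : Fin n → ZMod 3} (hu : Q u = c) (hv : Q v = c)
    (h : (QuotientGroup.mk (ReflClass.rc u hu) :
        ↥(Cfsg.reflectionSubgroup (⇑Q) c) ⧸ Subgroup.center ↥(Cfsg.reflectionSubgroup (⇑Q) c)) =
      QuotientGroup.mk (ReflClass.rc v hv)) : v = u ∨ v = -u := by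
  have hs := ReflClass.isThreeTranspositionSet (Q := Q) hc
  rw [QuotientGroup.eq, inv_eq hs (ReflClass.rc_mem hu)] at h
  have hcz := Subgroup.mem_center_iff.1 h
  have hcom : Commute (ReflClass.rc u hu) (ReflClass.rc v hv) := by
    have := hcz (ReflClass.rc u hu)
    rw [← mul_assoc, mul_self hs (ReflClass.rc_mem hu), one_mul] at this
    show _ * _ = _ * _
    calc ReflClass.rc u hu * ReflClass.rc v hv
        = ReflClass.rc u hu * ReflClass.rc v hv * (ReflClass.rc u hu * ReflClass.rc u hu) := by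
          rw [mul_self hs (ReflClass.rc_mem hu), mul_one]
      _ = ReflClass.rc v hv * ReflClass.rc u hu := by rw [← mul_assoc, ← this]
  refine ((ReflClass.rc_commute_iff hc hu hv).1 hcom).resolve_left fun hp => ?_
  have hu0 : Q u ≠ 0 := by rwa [hu]
  have hv0 : Q v ≠ 0 := by rwa [hv]
  have hp' : polar Q v u = 0 := by rwa [polar_comm]
  obtain ⟨w, hw0, huw, hvw, hQw⟩ : ∃ w, w ≠ 0 ∧ polar Q u w = 0 ∧ polar Q v w = 0 ∧ Q w ≠ c := by
    obtain ⟨w₁, h1, h1u, h1v, -⟩ := exists_perp_ne (Q := Q) hn u v v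
    by_cases hQ1 : Q w₁ = c
    · obtain ⟨w₂, h2, h2u, h2v, h12⟩ := exists_perp_ne (Q := Q) hn u v w₁
      by_cases hQ2 : Q w₂ = c
      · have hQ : Q (w₁ + w₂) = c + c := by rw [QuadraticMap.map_add (⇑Q), hQ1, hQ2, h12, add_zero]
        refine ⟨w₁ + w₂, fun e => hc ?_, by rw [polar_add_right, h1u, h2u, add_zero],
          by rw [polar_add_right, h1v, h2v, add_zero], fun e => hc ?_⟩
        · rw [e, QuadraticMap.map_zero] at hQ
          exact (show ∀ c : ZMod 3, 0 = c + c → c = 0 by decide) c hQ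
        · exact (show ∀ c : ZMod 3, c + c = c → c = 0 by decide) c (hQ.symm.trans e)
      · exact ⟨w₂, h2, h2u, h2v, hQ2⟩
    · exact ⟨w₁, h1, h1u, h1v, hQ1⟩
  have hfix : ∀ x, Q x = c → app (refl Q u * refl Q v) x = x ∨ app (refl Q u * refl Q v) x = -x := by
    intro x hx
    have e := congrArg Subtype.val (hcz (ReflClass.rc x hx))
    have e' : refl Q u * refl Q v * refl Q x * (refl Q u * refl Q v)⁻¹ = refl Q x :=
      mul_inv_eq_iff_eq_mul.2 e.symm
    rw [refl_conj] at e'
    rcases (ReflClass.refl_eq_iff (by rwa [hx])).1 e' with k | k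
    · exact Or.inl k.symm
    · exact Or.inr (neg_eq_iff_eq_neg.1 k.symm)
  have gu : app (refl Q u * refl Q v) u = -u := by
    rw [app_mul, app_refl_of_ortho hp, app_refl_self hu0]
  have gv : app (refl Q u * refl Q v) v = -v := by
    rw [app_mul, app_refl_self hv0, map_neg, app_refl_of_ortho hp']
  have gw : app (refl Q u * refl Q v) w = w := by
    rw [app_mul, app_refl_of_ortho (v := v) (x := w) (by rwa [polar_comm]),
      app_refl_of_ortho (v := u) (x := w) (by rwa [polar_comm])]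
  have neg3 : ∀ z : Fin n → ZMod 3, z = -z → z = 0 := fun z hz => funext fun i =>
    (show ∀ r : ZMod 3, r = -r → r = 0 by decide) _ (congrFun hz i)
  by_cases hQw0 : Q w = 0
  · have hx : Q (u + w) = c := by rw [QuadraticMap.map_add (⇑Q), hu, hQw0, huw, add_zero, add_zero]
    rcases hfix _ hx with k | k <;> rw [map_add, gu, gw] at k
    · exact hu0 (by rw [neg3 u (add_right_cancel k).symm, QuadraticMap.map_zero])
    · rw [neg_add] at k
      exact hw0 (neg3 w (add_left_cancel k))
  · have hx : Q (u + v + w) = c := by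
      rw [QuadraticMap.map_add (⇑Q), QuadraticMap.map_add (⇑Q), hu, hv, hp, polar_add_left, huw, hvw]
      exact (show ∀ q c : ZMod 3, q ≠ 0 → q ≠ c → c ≠ 0 → c + c + 0 + q + (0 + 0) = c by decide) _ _
        hQw0 hQw hc
    rcases hfix _ hx with k | k <;> rw [map_add, map_add, gu, gv, gw] at k
    · have hz := neg3 (u + v) (by rw [neg_add]; exact (add_right_cancel k).symm)
      have hq := congrArg (fun z => polar Q u z) hz
      simp only [polar_add_right, hp, add_zero, polar_self', hu, polar_zero_right] at hq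
      exact hc ((mul_eq_zero.1 hq).resolve_left ReflClass.two_ne)
    · rw [neg_add, neg_add] at k
      exact hw0 (neg3 w (add_left_cancel k))

/-- A class of the reflection kind has the vectors of norm `c` up to sign as model. -/
theorem refl_points (hQ : (QuadraticMap.polarBilin Q).Nondegenerate) (hc : c ≠ 0) (hn : 4 ≤ n)
    (hE : KindRefl E Q c) : ∃ ψ, ReflPts E Q c ψ := by
  classical
  obtain ⟨e, he⟩ := hE
  set f : (Fin n → ZMod 3) →
      ↥(Cfsg.reflectionSubgroup (⇑Q) c) ⧸ Subgroup.center ↥(Cfsg.reflectionSubgroup (⇑Q) c) :=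
    fun z => if h : Q z = c then QuotientGroup.mk (ReflClass.rc z h) else 1 with hf
  have hfv : ∀ z (h : Q z = c), f z = QuotientGroup.mk (ReflClass.rc z h) := fun z h => dif_pos h
  have hfinj : ∀ u v, Q u = c → Q v = c → f u = f v → v = u ∨ v = -u := fun u v hu hv h => by
    rw [hfv u hu, hfv v hv] at h
    exact rc_mk_injective hn hc hu hv h
  have hfeq : ∀ u v, Q u = c → v = u ∨ v = -u → f u = f v := fun u v hu h => by
    have hv : Q v = c := by rcases h with rfl | rfl <;> simpa using hu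
    rw [hfv u hu, hfv v hv, (ReflClass.rc_eq_iff hc hu hv).2 h]
  have hfconj : ∀ u v, Q u = c → Q v = c →
      Q (v - (polar Q u v / c) • u) = c ∧ f u * f v * f u = f (v - (polar Q u v / c) • u) := by
    intro u v hu hv
    have happ : app (refl Q u) v = v - (polar Q u v / c) • u := by
      rw [app_refl, hu, polar_comm (⇑Q) v u, mul_comm, ← div_eq_mul_inv]
    have hz : Q (v - (polar Q u v / c) • u) = c := by rw [← happ, Q_app, hv]
    refine ⟨hz, ?_⟩
    rw [hfv u hu, hfv v hv, hfv _ hz, ← QuotientGroup.mk_mul, ← QuotientGroup.mk_mul]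
    congr 1
    apply Subtype.ext
    show refl Q u * refl Q v * refl Q u = refl Q (v - (polar Q u v / c) • u)
    have h := refl_conj (refl Q u) v
    rwa [refl_inv, happ] at h
  obtain ⟨ψ, hψ, hsurj⟩ := exists_chart e he {z : Fin n → ZMod 3 | Q z = c} f (by
    ext g
    constructor
    · rintro ⟨r, hr, rfl⟩
      obtain ⟨z, hz, rfl⟩ := ReflClass.exists_rc (show r ∈ ReflClass.cls Q c from hr)
      exact ⟨z, hz, hfv z hz⟩
    · rintro ⟨z, hz, rfl⟩
      rw [hfv z hz]
      exact ⟨_, ReflClass.rc_mem hz, rfl⟩)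
  refine ⟨ψ, hQ, hc, fun a ha => (hψ a ha).1, fun a ha b hb h => ?_, fun z hz => ?_,
    fun a ha b hb => ?_, fun a ha b hb => ?_⟩
  · refine e.injective ?_
    rw [(hψ a ha).2, (hψ b hb).2]
    exact (hfeq _ _ (hψ b hb).1 h).symm
  · obtain ⟨a, ha, hae⟩ := hsurj z hz
    refine ⟨a, ha, ?_⟩
    rcases hfinj _ _ (hψ a ha).1 hz ((hψ a ha).2.symm.trans hae) with k | k
    · exact Or.inl k.symm
    · exact Or.inr (by rw [k, neg_neg])
  · constructor
    · intro hab
      by_cases hp : polar Q (ψ a) (ψ b) = 0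
      · exact Or.inr hp
      left
      obtain ⟨hz, hcj⟩ := hfconj _ _ (hψ a ha).1 (hψ b hb).1
      rw [← (hψ a ha).2, ← (hψ b hb).2, ← map_mul, ← map_mul, hab.eq,
        show b * a * a = b by
          rw [mul_assoc, show a * a = 1 from e.injective (by
            rw [map_mul, map_one, (hψ a ha).2, hfv _ (hψ a ha).1, ← QuotientGroup.mk_mul,
              mul_self (ReflClass.isThreeTranspositionSet hc) (ReflClass.rc_mem _),
              QuotientGroup.mk_one]), mul_one], (hψ b hb).2] at hcj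
      rcases hfinj _ _ (hψ b hb).1 hz hcj with k | k
      · exfalso
        rw [sub_eq_self, smul_eq_zero] at k
        rcases k with k | k
        · exact hp ((div_eq_zero_iff.1 k).resolve_right hc)
        · exact hc (by rw [← show Q (ψ a) = c from (hψ a ha).1, k, QuadraticMap.map_zero])
      · have h0 : Q (ψ b) ≠ 0 := by rw [show Q (ψ b) = c from (hψ b hb).1]; exact hc
        refine e.injective ?_
        rw [(hψ a ha).2, (hψ b hb).2]
        exact hfeq _ _ (hψ a ha).1 (ReflClass.eq_or_neg_of_smul h0 (ReflClass.smul_of_double k))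
    · rintro (rfl | hp)
      · exact Commute.refl _
      · refine (commute_map_iff e.injective).1 ?_
        rw [(hψ a ha).2, (hψ b hb).2, hfv _ (hψ a ha).1, hfv _ (hψ b hb).1]
        exact ((ReflClass.rc_commute_iff hc _ _).2 (Or.inl hp)).map (QuotientGroup.mk' _)
  · obtain ⟨hz, hcj⟩ := hfconj _ _ (hψ a ha).1 (hψ b hb).1
    obtain ⟨x, hx, hxe⟩ := hsurj _ hz
    obtain rfl : x = a * b * a := e.injective (by
      rw [hxe, map_mul, map_mul, (hψ a ha).2, (hψ b hb).2, hcj])
    rcases hfinj _ _ (hψ _ hx).1 hz ((hψ _ hx).2.symm.trans hxe) with k | k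
    · exact Or.inl k.symm
    · exact Or.inr (by rw [k, neg_neg])

end Refl

/-- The six dimensional minus kind as a five dimensional reflection model. -/
theorem oMinus6_points (hE : KindOMinus E 2) :
    ∃ (Q : QuadraticForm (ZMod 3) (Fin 5 → ZMod 3)) (c : ZMod 3) (ψ : Y → Fin 5 → ZMod 3),
      ReflPts E Q c ψ ∧ polarGramDet (⇑Q) = c := by
  obtain ⟨Q, hQ, c, hc, hk, hd⟩ := SmallIso.oMinus6_refl hE
  obtain ⟨ψ, hψ⟩ := refl_points hQ hc (by norm_num) hk
  exact ⟨Q, c, ψ, hψ, hd⟩

/-- The four dimensional unitary kind as a five dimensional reflection model. -/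
theorem psu4_points (hE : KindPSU E 4) :
    ∃ (Q : QuadraticForm (ZMod 3) (Fin 5 → ZMod 3)) (c : ZMod 3) (ψ : Y → Fin 5 → ZMod 3),
      ReflPts E Q c ψ ∧ polarGramDet (⇑Q) = -c := by
  obtain ⟨Q, hQ, c, hc, hk, hd⟩ := SmallIso.psu4_refl hE
  obtain ⟨ψ, hψ⟩ := refl_points hQ hc (by norm_num) hk
  exact ⟨Q, c, ψ, hψ, hd⟩

end CfsgLib.ThreeTrans.Classif.KindPoints
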