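import Mathlib
import Cfsg.Prelude.Def_Sporadic
import Cfsg.Agent.Lib.ThreeTrans.Classif.Kinds
import Cfsg.Agent.Lib.ThreeTrans.Primitive
import Cfsg.Agent.Lib.ThreeTrans.WidthOne
import Cfsg.Agent.Lib.ThreeTrans.ReflSeven
import Cfsg.Agent.Lib.ThreeTrans.TypeTop.Facts
import Cfsg.Agent.Lib.ThreeTrans.TypeTop.ParityTop
import Cfsg.Agent.Lib.Orth.CharTwo
import Cfsg.Agent.Lib.POmega.Forms

/-!
Which members of the list of classes of 3-transpositions generate simple groups.
-/

set_option autoImplicit false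

namespace CfsgLib.ThreeTrans.Classif.SimpleCase

open CfsgLib.ThreeTrans CfsgLib.Orth QuadraticMap
open scoped commutatorElement

section
variable {G : Type*} [Group G] [IsSimpleGroup G]

/-- A non-abelian simple group has only the trivial map to a commutative group. -/
theorem eq_one_of_abelian (hna : ∃ x y : G, x * y ≠ y * x) {A : Type*} [CommGroup A] (f : G →* A)
    (g : G) : f g = 1 := by
  rcases f.normal_ker.eq_bot_or_eq_top with h | h
  · obtain ⟨x, y, hxy⟩ := hna
    exact absurd ((MonoidHom.ker_eq_bot_iff f).1 h (by rw [map_mul, map_mul, mul_comm])) hxy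
  · exact MonoidHom.mem_ker.1 (h ▸ Subgroup.mem_top g)

theorem center_eq_bot (hna : ∃ x y : G, x * y ≠ y * x) : Subgroup.center G = ⊥ := by
  refine (Subgroup.Normal.eq_bot_or_eq_top inferInstance).resolve_right fun h => ?_
  obtain ⟨x, y, hxy⟩ := hna
  exact hxy ((Subgroup.mem_center_iff.1 (h ▸ Subgroup.mem_top y)) x)

theorem commutator_eq_top (hna : ∃ x y : G, x * y ≠ y * x) : commutator G = ⊤ := by
  refine (Subgroup.Normal.eq_bot_or_eq_top inferInstance).resolve_left fun h => ?_
  obtain ⟨x, y, hxy⟩ := hna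
  refine hxy (commutatorElement_eq_one_iff_mul_comm.1 (Subgroup.mem_bot.1 ?_))
  rw [← h]
  exact Subgroup.commutator_mem_commutator (Subgroup.mem_top x) (Subgroup.mem_top y)

variable [Finite G] {D : Set G}

theorem exists_two (hna : ∃ x y : G, x * y ≠ y * x) (hD : Cfsg.IsThreeTranspositionClass D) :
    ∃ a ∈ D, ∃ b ∈ D, a ≠ b := by
  by_contra! h
  obtain ⟨d, hd, -⟩ := hD.2.1
  have hall : ∀ g : G, g ∈ Subgroup.zpowers d := by
    intro g
    have hg : g ∈ Subgroup.closure D := hD.2.2.symm ▸ Subgroup.mem_top g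
    refine (Subgroup.closure_le _).2 (fun x hx => ?_) hg
    rw [h x hx d hd]
    exact Subgroup.mem_zpowers d
  obtain ⟨x, y, hxy⟩ := hna
  obtain ⟨i, rfl⟩ := hall x
  obtain ⟨j, rfl⟩ := hall y
  exact hxy ((Commute.refl d).zpow_zpow i j).eq

theorem exists_commuting_pair (hna : ∃ x y : G, x * y ≠ y * x)
    (hD : Cfsg.IsThreeTranspositionClass D) : ∃ a ∈ D, ∃ b ∈ D, a ≠ b ∧ Commute a b := by
  by_contra! h
  have hs := hD.1
  have hc := conjClosed_of_class hD
  have hE : WidthOne.Braided D := by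
    refine ⟨fun x hx => mul_self hs hx, fun x hx y hy => ?_, fun x hx y hy => conj_mem_left hc hx hy⟩
    rcases eq_or_ne x y with rfl | hne
    · rfl
    · exact braid hs hx hy (h x hx y hy hne)
  have hP := WidthOne.isPGroup_products hE
  set K := Subgroup.closure {z : G | ∃ x ∈ D, ∃ y ∈ D, z = x * y} with hKdef
  have hK : K.Normal := by
    refine ⟨fun n hn g => ?_⟩
    have := Subgroup.mem_map_of_mem (MulAut.conj g).toMonoidHom hn
    rw [hKdef, MonoidHom.map_closure] at this
    refine Subgroup.closure_mono ?_ this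
    rintro _ ⟨z, ⟨x, hx, y, hy, rfl⟩, rfl⟩
    exact ⟨_, hc.conj g x hx, _, hc.conj g y hy, by simp [mul_assoc]⟩
  rcases hK.eq_bot_or_eq_top with hb | ht
  · obtain ⟨a, ha, b, hb', hne⟩ := exists_two hna hD
    have hm : a * b ∈ K := Subgroup.subset_closure ⟨a, ha, b, hb', rfl⟩
    rw [hb, Subgroup.mem_bot, mul_eq_one_iff_eq' hs hb'] at hm
    exact hne hm
  · have hP' : IsPGroup 3 G := by
      rw [ht] at hP
      exact hP.of_equiv Subgroup.topEquiv
    haveI := Fact.mk Nat.prime_three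
    haveI : Group.IsNilpotent G := hP'.isNilpotent
    have hsolv : Group.IsSolvable G := inferInstance
    obtain ⟨x, y, hxy⟩ := hna
    exact hxy (IsSimpleGroup.comm_iff_isSolvable.2 hsolv x y)

/-- A class of 3-transpositions generating a non-abelian simple group is good. -/
theorem good_of_simple (hna : ∃ x y : G, x * y ≠ y * x) (hD : Cfsg.IsThreeTranspositionClass D) :
    Good D := by
  have hw := exists_commuting_pair hna hD
  have hT : ClassTwo D := classTwo_of hD (exists_two hna hD)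
  have hZ := center_eq_bot hna
  have hsimp : IsSimpleGroup (commutator G) := by
    rw [commutator_eq_top hna]
    exact (Subgroup.topEquiv (G := G)).isSimpleGroup
  exact ⟨⟨hT, hT.primitive_of_simple_derived hw hZ hsimp, hw⟩, hZ⟩

theorem not_kindSym (hna : ∃ x y : G, x * y ≠ y * x) {n : ℕ} (hn : 5 ≤ n) : ¬ KindSym D n := by
  rintro ⟨e, -⟩
  haveI : Nontrivial (Fin n) := Fin.nontrivial_iff_two_le.2 (by omega)
  obtain ⟨σ, hσ⟩ := Equiv.Perm.sign_surjective (Fin n) (-1)
  have h := eq_one_of_abelian hna (Equiv.Perm.sign.comp e.toMonoidHom) (e.symm σ)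
  simp [hσ] at h

theorem not_orth_two (hna : ∃ x y : G, x * y ≠ y * x) {ι : Type} [Fintype ι] [DecidableEq ι]
    {Q : QuadraticForm (ZMod 2) (ι → ZMod 2)} (hQ : Q.polarBilin.Nondegenerate)
    (h4 : Fintype.card ι ≠ 4) (h1 : 1 ≤ Fintype.card ι) (e : G ≃* O Q) : False := by
  have hgen := reflClosure_eq_top hQ (Or.inr h4)
  obtain ⟨v, hv⟩ := exists_anisotropic hQ h1
  have h := eq_one_of_abelian hna ((dicksonHom hQ hgen).comp e.toMonoidHom) (e.symm (refl Q v))
  simp only [MonoidHom.comp_apply, MulEquiv.coe_toMonoidHom, MulEquiv.apply_symm_apply,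
    dicksonHom_refl hQ hgen hv] at h
  exact absurd h (by decide)

theorem not_kindOPlus (hna : ∃ x y : G, x * y ≠ y * x) {m : ℕ} (hm : 4 ≤ m) :
    ¬ KindOPlus D m := by
  rintro ⟨e, -⟩
  refine not_orth_two hna (plusQ_nondegenerate (F := ZMod 2) m)
    (by simp; omega) (by simp; omega) ?_
  rw [O, plusQ_coe]
  exact e

theorem not_kindOMinus (hna : ∃ x y : G, x * y ≠ y * x) {m : ℕ} (hm : 2 ≤ m) :
    ¬ KindOMinus D m := by
  rintro ⟨e, -⟩
  refine not_orth_two hna (CfsgLib.POmega.minusQ_nondegenerate_any (F := ZMod 2) (m := m) (a := 1)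
    (b := 1) (by decide)) (by simp; omega) (by simp) ?_
  rw [O, minusQ_coe]
  exact e

end

section
variable {n : ℕ} {Q : QuadraticForm (ZMod 3) (Fin n → ZMod 3)} {c : ZMod 3}

local notation "V" => Fin n → ZMod 3

/-- The centre of the reflection group consists of scalars. -/
theorem center_scalar (hQ : Q.polarBilin.Nondegenerate) (hn : 5 ≤ n) (hc : c ≠ 0)
    {z : ↥(Cfsg.reflectionSubgroup (⇑Q) c)} (hz : z ∈ Subgroup.center _) :
    ∃ ε : ZMod 3, (ε = 1 ∨ ε = -1) ∧ ∀ x, app (z : O Q) x = ε • x := by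
  classical
  have h2 := ReflClass.two_ne
  have hsign : ∀ v, Q v = c → app (z : O Q) v = v ∨ app (z : O Q) v = -v := by
    intro v hv
    have hcm : (z : O Q) * refl Q v = refl Q v * (z : O Q) :=
      (congrArg Subtype.val (Subgroup.mem_center_iff.1 hz (ReflClass.rc v hv))).symm
    have h1 := refl_conj (z : O Q) v
    rw [hcm, mul_inv_cancel_right] at h1
    exact (ReflClass.refl_eq_iff (Q := Q) (by rw [Q_app, hv]; exact hc)).1 h1
  have hsign' : ∀ v, Q v = c → ∃ ε : ZMod 3, (ε = 1 ∨ ε = -1) ∧ app (z : O Q) v = ε • v := by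
    intro v hv
    rcases hsign v hv with h | h
    · exact ⟨1, Or.inl rfl, by rw [one_smul, h]⟩
    · exact ⟨-1, Or.inr rfl, by rw [neg_one_smul, h]⟩
  -- two vectors of norm `c` which are not orthogonal have the same sign
  have hfar : ∀ u v, Q u = c → Q v = c → polar Q u v ≠ 0 → ∀ a b : ZMod 3, (a = 1 ∨ a = -1) →
      (b = 1 ∨ b = -1) → app (z : O Q) u = a • u → app (z : O Q) v = b • v → a = b := by
    intro u v _ _ huv a b ha hb hua hvb
    have h := polar_app (Q := Q) (z : O Q) u v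
    rw [hua, hvb, polar_smul_left, polar_smul_right, smul_eq_mul, smul_eq_mul, ← mul_assoc] at h
    have : a * b = 1 := mul_right_cancel₀ huv (by rw [one_mul]; exact h)
    rcases ha with rfl | rfl <;> rcases hb with rfl | rfl <;> simp_all <;> decide
  obtain ⟨u, hu⟩ := exists_value_ne hQ h2 (by simp; omega) hc
  obtain ⟨ε, hε, hεu⟩ := hsign' u hu
  have hall : ∀ w, Q w = c → app (z : O Q) w = ε • w := by
    intro w hw
    obtain ⟨δ, hδ, hδw⟩ := hsign' w hw
    suffices δ = ε by rw [hδw, this]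
    by_cases huw : polar Q u w = 0
    · have hu0 : u ≠ 0 := fun h => hc (by rw [← hu, h, QuadraticMap.map_zero])
      obtain ⟨t, hut, hwt, ht⟩ := exists_ortho_value hQ h2 (by simpa using hn) hu0
        (show Q w ≠ 0 by rwa [hw]) huw (-c)
      have hx : Q (u + w + t) = c := by
        simp only [QuadraticMap.map_add (⇑Q), polar_add_left, hu, hw, ht, huw, hut, hwt]
        ring
      obtain ⟨γ, hγ, hγx⟩ := hsign' _ hx
      have e1 : polar Q u (u + w + t) ≠ 0 := by
        rw [polar_add_right, polar_add_right, polar_self', hu, huw, hut, add_zero, add_zero]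
        exact mul_ne_zero h2 hc
      have e2 : polar Q w (u + w + t) ≠ 0 := by
        rw [polar_add_right, polar_add_right, polar_self', hw, polar_comm, huw, hwt, zero_add,
          add_zero]
        exact mul_ne_zero h2 hc
      rw [hfar u _ hu hx e1 ε γ hε hγ hεu hγx, hfar w _ hw hx e2 δ γ hδ hγ hδw hγx]
    · exact (hfar u w hu hw huw ε δ hε hδ hεu hδw).symm
  refine ⟨ε, hε, fun p => ?_⟩
  by_contra hne
  set y := app (z : O Q) p - ε • p with hy
  have hy0 : y ≠ 0 := sub_ne_zero.2 hne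
  have hperp : ∀ v, Q v = c → polar Q y v = 0 := by
    intro v hv
    have h := polar_app (Q := Q) (z : O Q) p v
    rw [hall v hv, polar_smul_right, smul_eq_mul] at h
    have hεε : ε * ε = 1 := by rcases hε with rfl | rfl <;> simp
    rw [hy, polar_sub_left, polar_smul_left, smul_eq_mul, ← h, ← mul_assoc, hεε, one_mul, sub_self]
  by_cases hQy : Q y = 0
  · obtain ⟨a, ha⟩ := exists_polar_eq_one hQ hy0
    have hv : Q (a + (c - Q a) • y) = c := by
      rw [QuadraticMap.map_add (⇑Q), QuadraticMap.map_smul, polar_smul_right, polar_comm, ha, hQy,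
        smul_eq_mul, smul_eq_mul]
      ring
    have h := hperp _ hv
    rw [polar_add_right, polar_smul_right, ha, polar_self', hQy, smul_eq_mul] at h
    simp at h
  · obtain ⟨t, hyt, ht⟩ := ReflClass.exists_perp hQ hn hc hQy (c - Q y)
    have hv : Q (y + t) = c := by
      rw [QuadraticMap.map_add (⇑Q), ht, hyt]; ring
    have h := hperp _ hv
    rw [polar_add_right, polar_self', hyt, add_zero] at h
    exact hQy ((mul_eq_zero.1 h).resolve_left h2)

/-- In even dimension the centre of the reflection group has determinant one. -/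
theorem det_center (hQ : Q.polarBilin.Nondegenerate) (hn : 5 ≤ n) (hev : Even n) (hc : c ≠ 0)
    {z : ↥(Cfsg.reflectionSubgroup (⇑Q) c)} (hz : z ∈ Subgroup.center _) :
    detHom Q (z : O Q) = 1 := by
  obtain ⟨ε, hε, h⟩ := center_scalar hQ hn hc hz
  apply Units.ext
  show Matrix.det _ = 1
  have hm : (((z : O Q) : Matrix.GeneralLinearGroup (Fin n) (ZMod 3)) :
      Matrix (Fin n) (Fin n) (ZMod 3)) = ε • (1 : Matrix (Fin n) (Fin n) (ZMod 3)) := by
    apply Matrix.ext_of_mulVec_single
    intro i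
    rw [Matrix.smul_mulVec, Matrix.one_mulVec]
    exact h _
  show Matrix.det (((z : O Q) : Matrix.GeneralLinearGroup (Fin n) (ZMod 3)) :
      Matrix (Fin n) (Fin n) (ZMod 3)) = 1
  rw [hm, Matrix.det_smul, Matrix.det_one, mul_one, Fintype.card_fin]
  rcases hε with rfl | rfl
  · exact one_pow n
  · exact hev.neg_one_pow

end

/-- All non-degenerate forms in odd dimension over three elements give one projective group. -/
theorem pomega_transport {m : ℕ} (Q : QuadraticForm (ZMod 3) (Fin (2 * m + 1) → ZMod 3))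
    (hQ : Q.polarBilin.Nondegenerate) :
    Nonempty (commutator (O Q) ⧸ Subgroup.center (commutator (O Q)) ≃*
      Cfsg.POmega (ZMod 3) (Cfsg.quadFormOdd m (ZMod 3))) := by
  classical
  open CfsgLib.OmegaSylow76 in
  have key : ∃ Q' : QuadraticForm (ZMod 3) (Fin (2 * m + 1) → ZMod 3),
      Nonempty (O Q ≃* O Q') ∧ Nonempty (O Q' ≃* O (CfsgLib.POmega.oddQ m (ZMod 3))) := by
    have h2 : (2 : ZMod 3) ≠ 0 := ReflClass.two_ne
    have h0 := CfsgLib.POmega.oddQ_nondegenerate h2 m
    let e : (Unit ⊕ (Fin m ⊕ Fin m)) ≃ Fin (2 * m + 1) := Fintype.equivFinOfCardEq (by simp; omega)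
    have hn' : (-Q).polarBilin.Nondegenerate := by
      have k : ∀ x, (∀ y, polar (⇑(-Q)) x y = 0) → x = 0 := fun x hx => hQ.1 x fun y => by
        have := hx y
        simp [QuadraticMap.polar] at this ⊢
        linear_combination -this
      exact ⟨k, fun y hy => k y fun x => by rw [polar_comm]; exact hy x⟩
    have hd : ∀ a b : ZMod 3, a ≠ 0 → b ≠ 0 → IsSquare (a * b) ∨ IsSquare (a * -b) := by decide
    have hne0 : disc (CfsgLib.POmega.oddQ m (ZMod 3)) e ≠ 0 :=
      CfsgLib.QuadFin.gram_det_ne_zero _ (reindex_nondegenerate _ h0 _)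
    have hneQ : disc Q (Equiv.refl _) ≠ 0 :=
      CfsgLib.QuadFin.gram_det_ne_zero _ (reindex_nondegenerate _ hQ _)
    have hneg : disc (-Q) (Equiv.refl _) = -disc Q (Equiv.refl _) := by
      simp only [disc]
      rw [show (⇑(reindex (-Q) (Equiv.refl (Fin (2 * m + 1)))) : _ → ZMod 3) =
        fun v => (-1 : ZMod 3) * reindex Q (Equiv.refl (Fin (2 * m + 1))) v from
          funext fun v => by simp [reindex],
        CfsgLib.QuadFin.gram_det_smul, Fintype.card_fin,
        Odd.neg_one_pow ⟨m, rfl⟩]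
      ring
    rcases hd _ _ hne0 hneQ with h | h
    · obtain ⟨g, hg⟩ := exists_iso_of_disc h2 hQ h0 (Equiv.refl _) e h
      exact ⟨Q, ⟨MulEquiv.refl _⟩, ⟨(isoO g hg).symm⟩⟩
    · obtain ⟨g, hg⟩ := exists_iso_of_disc h2 hn' h0 (Equiv.refl _) e (by rw [hneg]; exact h)
      exact ⟨-Q, ⟨MulEquiv.subgroupCongr (ReflSeven.isometryGroup_neg Q).symm⟩, ⟨(isoO g hg).symm⟩⟩
  obtain ⟨Q', ⟨a⟩, ⟨b⟩⟩ := key
  let f := ReflSeven.commutatorEquiv (a.trans b)
  have hcen : (Subgroup.center (commutator (O Q))).map f.toMonoidHom =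
      Subgroup.center (commutator (O (CfsgLib.POmega.oddQ m (ZMod 3)))) := by
    ext y
    simp only [Subgroup.mem_map, Subgroup.mem_center_iff]
    constructor
    · rintro ⟨x, hx, rfl⟩ g
      obtain ⟨g', rfl⟩ := f.surjective g
      show f g' * f x = f x * f g'
      rw [← map_mul, ← map_mul, hx g']
    · intro hy
      refine ⟨f.symm y, fun g => f.injective ?_, f.apply_symm_apply y⟩
      rw [map_mul, map_mul, f.apply_symm_apply]
      exact hy _
  rw [← CfsgLib.POmega.oddQ_coe]
  exact ⟨QuotientGroup.congr _ _ f hcen⟩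

section
variable {G : Type*} [Group G] [Finite G] [IsSimpleGroup G] {D : Set G}

theorem of_kindRefl (hna : ∃ x y : G, x * y ≠ y * x) {n : ℕ}
    {Q : QuadraticForm (ZMod 3) (Fin n → ZMod 3)} {c : ZMod 3} (hn : 5 ≤ n)
    (hQ : Q.polarBilin.Nondegenerate) (hc : c ≠ 0) (h : KindRefl D Q c) :
    ∃ m : ℕ, Nonempty (G ≃* Cfsg.POmega (ZMod 3) (Cfsg.quadFormOdd m (ZMod 3))) := by
  classical
  obtain ⟨e, -⟩ := h
  set R := Cfsg.reflectionSubgroup (⇑Q) c
  have hi : R.index = 2 := ReflClass.index_eq_two hQ hn hc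
  haveI : R.Normal := Subgroup.normal_of_index_eq_two hi
  haveI : IsMulCommutative (O Q ⧸ R) := by
    have : IsCyclic (O Q ⧸ R) := isCyclic_of_prime_card (p := 2) (by rw [← hi]; rfl)
    exact IsCyclic.isMulCommutative
  have hle : commutator (O Q) ≤ R :=
    Subgroup.Normal.quotient_commutative_iff_commutator_le.1 inferInstance
  let Z := Subgroup.center R
  haveI hS : IsSimpleGroup (R ⧸ Z) := e.symm.isSimpleGroup
  have hna' : ∃ x y : R ⧸ Z, x * y ≠ y * x := by
    obtain ⟨x, y, hxy⟩ := hna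
    exact ⟨e x, e y, fun k => hxy (e.injective (by rw [map_mul, map_mul, k]))⟩
  let π := QuotientGroup.mk' Z
  let f : commutator (O Q) →* R ⧸ Z := π.comp (Subgroup.inclusion hle)
  have hrange : f.range = ⊤ := by
    have hnorm : f.range.Normal := by
      refine ⟨fun y hy g => ?_⟩
      obtain ⟨w, rfl⟩ := hy
      obtain ⟨g, rfl⟩ := QuotientGroup.mk'_surjective Z g
      refine ⟨⟨(g : O Q) * w * (g : O Q)⁻¹,
        (inferInstance : (commutator (O Q)).Normal).conj_mem _ w.2 _⟩, ?_⟩
      show π (Subgroup.inclusion hle _) = π g * π (Subgroup.inclusion hle w) * (π g)⁻¹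
      rw [← map_inv π, ← map_mul π, ← map_mul π]
      rfl
    refine hnorm.eq_bot_or_eq_top.resolve_left fun hb => ?_
    obtain ⟨x, y, hxy⟩ := hna'
    obtain ⟨a, rfl⟩ := QuotientGroup.mk'_surjective Z x
    obtain ⟨b, rfl⟩ := QuotientGroup.mk'_surjective Z y
    refine hxy (commutatorElement_eq_one_iff_mul_comm.1 ?_)
    let a' : O Q := a
    let b' : O Q := b
    have hmem : ⁅a', b'⁆ ∈ commutator (O Q) :=
      Subgroup.commutator_mem_commutator (Subgroup.mem_top _) (Subgroup.mem_top _)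
    have h1 : f ⟨_, hmem⟩ ∈ f.range := ⟨_, rfl⟩
    rw [hb, Subgroup.mem_bot] at h1
    rw [← map_commutatorElement, ← h1]
    rfl
  rcases Nat.even_or_odd n with hev | ⟨m, hm⟩
  · exfalso
    have h2 := ReflClass.two_ne
    obtain ⟨v, hv⟩ := exists_value_ne hQ h2 (by simp; omega) hc
    obtain ⟨w, hw⟩ := MonoidHom.range_eq_top.1 hrange (π (ReflClass.rc v hv))
    have hz : (Subgroup.inclusion hle w)⁻¹ * ReflClass.rc v hv ∈ Z := QuotientGroup.eq.1 hw
    have hd := det_center hQ hn hev hc hz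
    have hwdet : detHom Q (w : O Q) = 1 := Units.ext (CfsgLib.POmega.det_omega _ w.2)
    have hd' : detHom Q ((w : O Q)⁻¹ * refl Q v) = 1 := hd
    rw [map_mul, map_inv, hwdet, inv_one, one_mul, detHom_refl (by rwa [hv])] at hd'
    exact absurd hd' (by decide)
  · subst hm
    obtain ⟨P⟩ := pomega_transport Q hQ
    have hsurj : Function.Surjective f := MonoidHom.range_eq_top.1 hrange
    have hker : f.ker = Subgroup.center (commutator (O Q)) := by
      refine le_antisymm (fun a ha => Subgroup.mem_center_iff.2 fun g => ?_) fun a ha => ?_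
      · have ha' : Subgroup.inclusion hle a ∈ Z := (QuotientGroup.eq_one_iff _).1 ha
        exact Subgroup.inclusion_injective hle
          (by rw [map_mul, map_mul]; exact Subgroup.mem_center_iff.1 ha' _)
      · have hmem : f a ∈ Subgroup.center (R ⧸ Z) := Subgroup.mem_center_iff.2 fun y => by
          obtain ⟨g, rfl⟩ := hsurj y
          rw [← map_mul, ← map_mul, Subgroup.mem_center_iff.1 ha g]
        rwa [center_eq_bot hna', Subgroup.mem_bot] at hmem
    exact ⟨m, ⟨((e.trans (QuotientGroup.quotientKerEquivOfSurjective f hsurj).symm).trans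
      (QuotientGroup.quotientMulEquivOfEq hker)).trans P⟩⟩

end

end CfsgLib.ThreeTrans.Classif.SimpleCase

namespace CfsgLib.ThreeTrans.Classif

open SimpleCase

/-- A simple group generated by a class of 3-transpositions, given the list of good classes. -/
theorem simple_case {G : Type*} [Group G] [Finite G] [IsSimpleGroup G]
    (hna : ∃ x y : G, x * y ≠ y * x) {D : Set G} (hD : Cfsg.IsThreeTranspositionClass D)
    (hcl : ∀ D' : Set G, Good D' → Known D') :
    (∃ n : ℕ, Nonempty (G ≃* Matrix.symplecticGroup (Fin n) (ZMod 2))) ∨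
      (∃ (F : Type) (_ : Field F) (_ : Fintype F) (n : ℕ),
        Fintype.card F = 4 ∧ Nonempty (G ≃* Cfsg.PSU n F 2)) ∨
      (∃ m : ℕ, Nonempty (G ≃* Cfsg.POmega (ZMod 3) (Cfsg.quadFormOdd m (ZMod 3)))) ∨
      Cfsg.IsFi22 G ∨ Cfsg.IsFi23 G := by
  have hgood := good_of_simple hna hD
  have hgrp := group_of_class hD
  have hprim := hgood.set.prim
  rcases hcl D hgood with ⟨n, hn, h⟩ | ⟨m, -, e, -⟩ | ⟨n, -, F, i1, i2, hF, e, -⟩ |
    (⟨m, hm, h⟩ | ⟨m, hm, h⟩) | ⟨n, hn, Q, hQ, c, hc, h⟩ | h | h | h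
  · exact absurd h (not_kindSym hna hn)
  · exact Or.inl ⟨m, ⟨e⟩⟩
  · exact Or.inr (Or.inl ⟨F, i1, i2, n, hF, ⟨e⟩⟩)
  · exact absurd h (not_kindOPlus hna hm)
  · exact absurd h (not_kindOMinus hna hm)
  · exact Or.inr (Or.inr (Or.inl (of_kindRefl hna (by omega) hQ hc h)))
  · exact Or.inr (Or.inr (Or.inr (Or.inl ⟨inferInstance, (Tower.orders22 hgrp hprim h).2⟩)))
  · exact Or.inr (Or.inr (Or.inr (Or.inr ⟨inferInstance, by
      rw [TypeTop.order23 hgrp hprim h]⟩)))
  · obtain ⟨χ, hχ⟩ := TypeTop.exists_parityHom24 hgrp hprim h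
    obtain ⟨d, hd, -⟩ := hD.2.1
    have h1 := (hχ d hd).symm.trans (eq_one_of_abelian hna χ d)
    exact absurd h1 (by decide)

end CfsgLib.ThreeTrans.Classif
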