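import Mathlib
import Cfsg.Agent.Lib.ThreeTrans.Tower.Srg
import Cfsg.Agent.Lib.ThreeTrans.Classif.Kinds

/-!
Integrality of traces in a graph with constant parameters, and its form for the commuting graph of a
class of 3-transpositions: the divisibility conditions given by conjugation with one member and with
products of two members.
-/

set_option autoImplicit false
set_option linter.unusedSectionVars false

namespace CfsgLib.ThreeTrans.Classif

open Finset

section Trace

variable {V : Type*} [Fintype V] [DecidableEq V]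

/-- The trace of a matrix with `M ^ (o + 1) = M` is an algebraic integer. -/
theorem isIntegral_trace_of_pow (M : Matrix V V ℂ) {o : ℕ} (ho : 0 < o) (h : M ^ (o + 1) = M) :
    IsIntegral ℤ M.trace := by
  rw [Matrix.trace_eq_sum_roots_charpoly]
  refine IsIntegral.multiset_sum fun x hx => ?_
  obtain ⟨w, hw0, hw⟩ := Matrix.exists_mulVec_eq_zero_iff.2
    (show (Matrix.scalar V x - M).det = 0 by
      rw [← Matrix.eval_charpoly]; exact Polynomial.isRoot_of_mem_roots hx)
  have hMw : M.mulVec w = x • w := by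
    rw [Matrix.sub_mulVec, sub_eq_zero] at hw
    rw [← hw]
    ext i
    simp [Matrix.scalar_apply, Matrix.mulVec_diagonal]
  have hpow : ∀ n : ℕ, (M ^ n).mulVec w = x ^ n • w := by
    intro n
    induction n with
    | zero => simp
    | succ n ih => rw [pow_succ, ← Matrix.mulVec_mulVec, hMw, Matrix.mulVec_smul, ih, smul_smul, pow_succ']
  have h1 := hpow (o + 1)
  rw [h, hMw] at h1
  have h2 : x ^ (o + 1) = x := (smul_left_injective ℂ hw0 h1).symm
  rcases eq_or_ne x 0 with rfl | hx0
  · exact isIntegral_zero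
  · refine IsIntegral.of_pow ho ?_
    rw [show x ^ o = 1 from mul_right_cancel₀ hx0 (by rw [one_mul, ← pow_succ, h2])]
    exact isIntegral_one

/-- The matrix of a permutation. -/
private def permMat (σ : Equiv.Perm V) : Matrix V V ℂ := Matrix.of fun u w => if σ u = w then 1 else 0

private theorem permMat_mul (σ : Equiv.Perm V) (X : Matrix V V ℂ) (u w : V) :
    (permMat σ * X) u w = X (σ u) w := by
  simp [permMat, Matrix.mul_apply, ite_mul]

private theorem mul_permMat (σ : Equiv.Perm V) (X : Matrix V V ℂ) (u w : V) :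
    (X * permMat σ) u w = X u (σ.symm w) := by
  simp [permMat, Matrix.mul_apply, mul_ite, ← Equiv.eq_symm_apply]

private theorem permMat_pow (σ : Equiv.Perm V) : ∀ n : ℕ, permMat σ ^ n = permMat (σ ^ n) := by
  intro n
  induction n with
  | zero =>
    ext u w
    simp [permMat, Matrix.one_apply]
  | succ n ih =>
    ext u w
    rw [pow_succ', ih, permMat_mul, pow_succ]
    simp only [permMat, Matrix.of_apply, Equiv.Perm.mul_apply]
    exact if_congr Iff.rfl rfl rfl

variable {R : V → V → Prop} [DecidableRel R] {k l m : ℕ}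

/-- The eigenvalues' difference divides the trace numerator of every automorphism. -/
theorem trace_dvd [Nonempty V] (h : Tower.IsSrg R k l m) (hmk : m < k) (σ : Equiv.Perm V)
    (inv : ∀ u w, R (σ u) (σ w) ↔ R u w) {r s : ℤ} (hsum : r + s = (l : ℤ) - m)
    (hprod : r * s = (m : ℤ) - k) (hne : r ≠ s) :
    (r - s) ∣ ((univ.filter fun u => R u (σ u)).card : ℤ) - k -
      s * (((univ.filter fun u => σ u = u).card : ℤ) - 1) := by
  classical
  set N₁ := (univ.filter fun u => R u (σ u)).card with hN₁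
  set N₀ := (univ.filter fun u => σ u = u).card with hN₀
  let A : Matrix V V ℂ := Matrix.of fun u w => if R u w then 1 else 0
  let J : Matrix V V ℂ := Matrix.of fun _ _ => 1
  let P : Matrix V V ℂ := permMat σ
  have hv0 : (Fintype.card V : ℂ) ≠ 0 := by exact_mod_cast Fintype.card_ne_zero
  have hid : (m : ℂ) * Fintype.card V = (k : ℂ) * k - ((l : ℂ) - m) * k - ((k : ℂ) - m) := by
    exact_mod_cast (h.param hmk).1
  have hsum' : (r : ℂ) + s = (l : ℂ) - m := by exact_mod_cast hsum
  have hprod' : (r : ℂ) * s = (m : ℂ) - k := by exact_mod_cast hprod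
  have hne' : (r : ℂ) - s ≠ 0 := sub_ne_zero.2 (by exact_mod_cast hne)
  have hAA : A * A = ((k : ℂ) - m) • (1 : Matrix V V ℂ) + ((l : ℂ) - m) • A + (m : ℂ) • J := by
    ext u w
    have e : (A * A) u w = ((univ.filter fun z => R u z ∧ R z w).card : ℂ) := by
      simp only [Matrix.mul_apply, A, Matrix.of_apply, ite_mul, one_mul, zero_mul]
      rw [Finset.card_filter, Nat.cast_sum]
      refine Finset.sum_congr rfl fun z _ => ?_
      by_cases h1 : R u z <;> by_cases h2 : R z w <;> simp [h1, h2]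
    have e2 := congrArg (fun t : ℤ => (t : ℂ)) (h.common_count u w)
    push_cast at e2
    rw [e, e2]
    simp only [Matrix.add_apply, Matrix.smul_apply, Matrix.one_apply, A, J, Matrix.of_apply, smul_eq_mul]
    split_ifs <;> ring
  have hAJ : A * J = (k : ℂ) • J := by
    ext u w
    simp only [Matrix.mul_apply, A, J, Matrix.of_apply, mul_one, Matrix.smul_apply, smul_eq_mul]
    rw [Finset.sum_boole, h.deg]
  have hJA : J * A = (k : ℂ) • J := by
    ext u w
    simp only [Matrix.mul_apply, A, J, Matrix.of_apply, one_mul, Matrix.smul_apply, smul_eq_mul, mul_one]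
    rw [Finset.sum_boole, show (univ.filter fun x => R x w) = univ.filter (R w) from
      filter_congr fun z _ => ⟨h.symm z w, h.symm w z⟩, h.deg]
  have hJJ : J * J = (Fintype.card V : ℂ) • J := by
    ext u w
    simp [Matrix.mul_apply, J]
  -- the idempotent
  set c : ℂ := ((k : ℂ) - s) / Fintype.card V with hc
  set E : Matrix V V ℂ := ((r : ℂ) - s)⁻¹ • (A - (s : ℂ) • 1 - c • J) with hE
  have hEE : E * E = E := by
    have e1 : (A - (s : ℂ) • 1 - c • J) * (A - (s : ℂ) • 1 - c • J) =
        ((r : ℂ) - s) • (A - (s : ℂ) • 1 - c • J) := by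
      simp only [sub_mul, mul_sub, Matrix.smul_mul, Matrix.mul_smul, one_mul, mul_one, hAA, hAJ, hJA, hJJ]
      have hcv : c * (Fintype.card V : ℂ) = (k : ℂ) - s := by rw [hc, div_mul_cancel₀ _ hv0]
      match_scalars
      · linear_combination hprod'
      · linear_combination (-1 : ℂ) * hsum'
      · have hm : (m : ℂ) * Fintype.card V = ((k : ℂ) - s) * ((k : ℂ) - r) := by
          linear_combination hid + (k : ℂ) * hsum' - hprod'
        have hm2 : (m : ℂ) = c * ((k : ℂ) - r) := by
          rw [hc, div_mul_eq_mul_div, eq_div_iff hv0]; exact hm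
        linear_combination hm2 + c * hcv
    rw [hE, Matrix.smul_mul, Matrix.mul_smul, e1, smul_smul, smul_smul,
      inv_mul_cancel_right₀ hne']
  have hPA : P * A = A * P := by
    ext u w
    show (permMat σ * A) u w = (A * permMat σ) u w
    rw [permMat_mul, mul_permMat]
    simp only [A, Matrix.of_apply]
    have := inv u (σ.symm w)
    rw [Equiv.apply_symm_apply] at this
    simp only [this]
  have hPJ : P * J = J := by
    ext u w
    show (permMat σ * J) u w = J u w
    rw [permMat_mul]; rfl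
  have hJP : J * P = J := by
    ext u w
    show (J * permMat σ) u w = J u w
    rw [mul_permMat]; rfl
  have hcomm : Commute P E := by
    refine Commute.smul_right ?_ _
    show P * _ = _ * P
    simp only [mul_sub, sub_mul, Matrix.mul_smul, Matrix.smul_mul, mul_one, one_mul, hPA, hPJ, hJP]
  have hM : (P * E) ^ (orderOf σ + 1) = P * E := by
    rw [hcomm.mul_pow, IsIdempotentElem.pow_succ_eq _ hEE]
    show permMat σ ^ _ * E = _
    rw [permMat_pow, pow_succ, pow_orderOf_eq_one, one_mul]
  -- the trace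
  have htA : (P * A).trace = (N₁ : ℂ) := by
    show ∑ u, (permMat σ * A) u u = _
    simp only [permMat_mul, A, Matrix.of_apply]
    rw [Finset.sum_boole, hN₁, show (univ.filter fun u => R (σ u) u) = univ.filter fun u => R u (σ u) from
      filter_congr fun z _ => ⟨h.symm _ _, h.symm _ _⟩]
  have htP : P.trace = (N₀ : ℂ) := by
    show ∑ u, permMat σ u u = _
    simp only [permMat, Matrix.of_apply]
    rw [Finset.sum_boole]
  have htJ : (P * J).trace = (Fintype.card V : ℂ) := by
    rw [hPJ]; simp [Matrix.trace, J]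
  have htE : ((r : ℂ) - s) * (P * E).trace = ((N₁ : ℤ) - k - s * ((N₀ : ℤ) - 1) : ℤ) := by
    rw [hE, Matrix.mul_smul, Matrix.trace_smul, mul_sub, mul_sub, Matrix.mul_smul, Matrix.mul_smul, mul_one,
      Matrix.trace_sub, Matrix.trace_sub, Matrix.trace_smul, Matrix.trace_smul, htA, htP, htJ,
      smul_eq_mul, smul_eq_mul, smul_eq_mul, ← mul_assoc, mul_inv_cancel₀ hne', one_mul, hc,
      div_mul_cancel₀ _ hv0]
    push_cast; ring
  -- a rational algebraic integer
  set q : ℚ := (((N₁ : ℤ) - k - s * ((N₀ : ℤ) - 1) : ℤ) : ℚ) / ((r : ℚ) - s) with hq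
  have hqE : algebraMap ℚ ℂ q = (P * E).trace := by
    rw [eq_ratCast, hq, Rat.cast_div, Rat.cast_intCast, Rat.cast_sub, Rat.cast_intCast, Rat.cast_intCast,
      div_eq_iff hne', ← htE, mul_comm]
  have hint : IsIntegral ℤ q :=
    (isIntegral_algebraMap_iff (B := ℂ) (algebraMap ℚ ℂ).injective).1
      (hqE ▸ isIntegral_trace_of_pow _ (orderOf_pos σ) hM)
  obtain ⟨z, hz⟩ := IsIntegrallyClosed.isIntegral_iff.1 hint
  refine ⟨z, ?_⟩
  have hz' : (z : ℚ) = (((N₁ : ℤ) - k - s * ((N₀ : ℤ) - 1) : ℤ) : ℚ) / ((r : ℚ) - s) := by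
    rw [← hq, ← hz]; rfl
  rw [eq_div_iff (sub_ne_zero.2 (by exact_mod_cast hne))] at hz'
  have : (((r - s) * z : ℤ) : ℚ) = (((N₁ : ℤ) - k - s * ((N₀ : ℤ) - 1) : ℤ) : ℚ) := by
    rw [← hz']; push_cast; ring
  exact_mod_cast this.symm

/-- Outside the conference case the eigenvalues are integers. -/
theorem exists_eigen [Nonempty V] (h : Tower.IsSrg R k l m) (hmk : m < k)
    (hconf : 2 * (k : ℤ) + ((Fintype.card V : ℤ) - 1) * ((l : ℤ) - m) ≠ 0) :
    ∃ r s : ℤ, r + s = (l : ℤ) - m ∧ r * s = (m : ℤ) - k ∧ s < r := by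
  obtain ⟨n, hn⟩ := (h.param hmk).2
  set c : ℤ := (l : ℤ) - m
  set D : ℤ := c * c + 4 * ((k : ℤ) - m) with hD
  set X : ℤ := 2 * (k : ℤ) + ((Fintype.card V : ℤ) - 1) * c
  have hn0 : n ≠ 0 := fun e => hconf (pow_eq_zero_iff (two_ne_zero) |>.1 (by rw [← hn, e]; ring))
  obtain ⟨t, ht⟩ : n ∣ X := (Int.pow_dvd_pow_iff two_ne_zero).1 ⟨D, by rw [← hn]; ring⟩
  have hDt : D = t * t := by
    refine mul_left_cancel₀ (mul_ne_zero hn0 hn0) ?_
    rw [hn, ht]; ring
  -- parity
  obtain ⟨w, hw⟩ : Even (|t| + c) := by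
    have h1 : Even (t * t - c * c) := ⟨2 * ((k : ℤ) - m), by rw [← hDt, hD]; ring⟩
    rw [Int.even_sub, Int.even_mul, Int.even_mul, or_self, or_self] at h1
    rw [Int.even_add, even_abs]
    exact h1
  have htt : |t| * |t| = c * c + 4 * ((k : ℤ) - m) := by rw [abs_mul_abs_self, ← hDt, hD]
  have hpos : 0 < |t| := by
    rcases eq_or_ne t 0 with rfl | ht0
    · exfalso
      have := mul_self_nonneg c
      simp at htt
      have : (m : ℤ) < k := by exact_mod_cast hmk
      nlinarith
    · exact abs_pos.2 ht0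
  refine ⟨w, c - w, by ring, ?_, ?_⟩
  · have e : |t| = 2 * w - c := by omega
    rw [e] at htt
    nlinarith
  · omega

end Trace

/-! ### The commuting graph of a class -/

section Group

variable {G : Type*} [Group G] {D : Set G}

open CfsgLib.ThreeTrans.LocalSymThree (nbr)

/-- The adjacency of the commuting graph. -/
def CommRel (D : Set G) (a b : D) : Prop := (b : G) ∈ nbr D (a : G)

noncomputable instance decidableCommRel (D : Set G) : DecidableRel (CommRel D) := Classical.decRel _

/-- Conjugation as a permutation of `D`. -/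
def conjPerm (hc : ConjClosed D) (g : G) : Equiv.Perm D :=
  (MulAut.conj g).toEquiv.subtypeEquiv fun a => ⟨hc.conj g a, fun h => by
    have h1 := hc.conj' g h
    change g⁻¹ * (g * a * g⁻¹) * g ∈ D at h1
    rwa [show g⁻¹ * (g * a * g⁻¹) * g = a by group] at h1⟩

theorem coe_conjPerm (hc : ConjClosed D) (g : G) (a : D) :
    ((conjPerm hc g a : D) : G) = g * a * g⁻¹ := rfl

theorem card_filter_commRel [Fintype D] (p : D → Prop) [DecidablePred p] (S : Set G) (hS : S ⊆ D)
    (h : ∀ a : D, p a ↔ (a : G) ∈ S) : (univ.filter p).card = S.ncard := by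
  rw [← Set.ncard_coe_finset, ← Set.ncard_image_of_injective _ Subtype.val_injective]
  congr 1
  ext x
  constructor
  · rintro ⟨a, ha, rfl⟩; exact (h a).1 (by simpa using ha)
  · exact fun hx => ⟨⟨x, hS hx⟩, by simpa using (h ⟨x, hS hx⟩).2 hx, rfl⟩

variable {v k l m : ℕ}

theorem Params.isSrg [Fintype D] (hP : Params D v k l m) : Tower.IsSrg (CommRel D) k l m where
  symm u _ h := LocalSymThree.nbr_symm u.2 h
  irr _ h := h.2.1 rfl
  deg u := by
    rw [card_filter_commRel (CommRel D u) (nbr D u) (fun _ hx => hx.1) (fun _ => Iff.rfl)]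
    exact hP.deg u u.2
  adj u w h := by
    rw [card_filter_commRel _ (nbr D u ∩ nbr D w) (fun _ hx => hx.1.1) (fun a =>
      ⟨fun ha => ⟨ha.1, LocalSymThree.nbr_symm a.2 ha.2⟩,
        fun ha => ⟨ha.1, LocalSymThree.nbr_symm w.2 ha.2⟩⟩)]
    exact hP.lam u u.2 w h
  far u w hne h := by
    rw [card_filter_commRel _ (nbr D u ∩ nbr D w) (fun _ hx => hx.1.1) (fun a =>
      ⟨fun ha => ⟨ha.1, LocalSymThree.nbr_symm a.2 ha.2⟩,
        fun ha => ⟨ha.1, LocalSymThree.nbr_symm w.2 ha.2⟩⟩)]
    exact hP.mu u u.2 w w.2 fun hc => h ⟨w.2, fun e => hne (Subtype.ext e.symm), hc⟩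

variable (hG : Good D)
include hG

theorem Good.exists_commute : ∃ a ∈ D, ∃ b ∈ D, b ∈ nbr D a := by
  obtain ⟨a, ha, b, hb, hne, hc⟩ := hG.set.pair
  exact ⟨a, ha, b, hb, hb, hne.symm, hc⟩

theorem Good.exists_far : ∃ a ∈ D, ∃ b ∈ D, ¬ Commute a b := by
  by_contra! hall
  obtain ⟨a, ha, b, hb, hne, -⟩ := hG.set.pair
  have hmem : ∀ x ∈ D, x = 1 := fun x hx => by
    have := mem_center_of_commute hG.set.hD.gen (x := x) fun d hd => hall x hx d hd
    rwa [hG.triv, Subgroup.mem_bot] at this
  exact hne ((hmem a ha).trans (hmem b hb).symm)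

variable [Finite G]

/-- The number of members from the other parameters. -/
theorem Params.card_eq (hP : Params D v k l m) (hmk : m < k) :
    k + 1 ≤ v ∧ l + 1 ≤ k ∧ m * (v - k - 1) = k * (k - l - 1) := by
  classical
  have := Fintype.ofFinite D
  obtain ⟨a, ha, b, hb, hab⟩ := hG.exists_commute
  have : Nonempty D := ⟨⟨a, ha⟩⟩
  have hv : Fintype.card D = v := by rw [← Nat.card_eq_fintype_card, Nat.card_coe_set_eq, hP.card]
  have h1 := (hP.isSrg.param hmk).1
  rw [hv] at h1
  have h2 : k + 1 ≤ v := by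
    have e : (insert a (nbr D a)).ncard = k + 1 := by
      rw [Set.ncard_insert_of_notMem (fun h => h.2.1 rfl) (Set.toFinite _), hP.deg a ha]
    rw [← e, ← hP.card]
    exact Set.ncard_le_ncard (Set.insert_subset ha fun x hx => hx.1) (Set.toFinite _)
  have h3 : l + 1 ≤ k := by
    have e : (insert b (nbr D a ∩ nbr D b)).ncard = l + 1 := by
      rw [Set.ncard_insert_of_notMem (fun h => h.2.2.1 rfl) (Set.toFinite _), hP.lam a ha b hab]
    rw [← e, ← hP.deg a ha]
    exact Set.ncard_le_ncard (Set.insert_subset hab fun x hx => hx.1) (Set.toFinite _)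
  refine ⟨h2, h3, ?_⟩
  have : ((m * (v - k - 1) : ℕ) : ℤ) = ((k * (k - l - 1) : ℕ) : ℤ) := by
    push_cast [Nat.sub_sub, Nat.cast_sub h2, Nat.cast_sub h3]
    linarith
  exact_mod_cast this

variable (hP : Params D v k l m) (hmk : m < k) {r s : ℤ} (hsum : r + s = (l : ℤ) - m)
  (hprod : r * s = (m : ℤ) - k) (hne : r ≠ s)
include hP hmk hsum hprod hne

/-- The divisibility for conjugation by `g`, the fixed and the moved members counted in `D`. -/
theorem dvd_of_conj (g : G) {n₁ n₀ : ℕ} (h₁ : {x ∈ D | g * x * g⁻¹ ∈ nbr D x}.ncard = n₁)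
    (h₀ : {x ∈ D | g * x * g⁻¹ = x}.ncard = n₀) : (r - s) ∣ (n₁ : ℤ) - k - s * ((n₀ : ℤ) - 1) := by
  classical
  have := Fintype.ofFinite D
  obtain ⟨a, ha, -⟩ := hG.exists_commute
  have : Nonempty D := ⟨⟨a, ha⟩⟩
  have hc := hG.set.hD.closed
  have h := trace_dvd hP.isSrg hmk (conjPerm hc g) (fun u w => by
    show _ ∈ nbr D _ ↔ _ ∈ nbr D _
    rw [coe_conjPerm, coe_conjPerm, InnerTwins.nbr_conj hc]
    exact ⟨fun ⟨y, hy, e⟩ => (mul_left_cancel (mul_right_cancel e) : y = (w : G)) ▸ hy,
      fun hy => ⟨_, hy, rfl⟩⟩) hsum hprod hne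
  rw [card_filter_commRel _ {x ∈ D | g * x * g⁻¹ ∈ nbr D x} (fun _ hx => hx.1) (fun x =>
      ⟨fun hx => ⟨x.2, by rw [← coe_conjPerm hc]; exact hx⟩,
        fun hx => by show _ ∈ nbr D _; rw [coe_conjPerm]; exact hx.2⟩), h₁,
    card_filter_commRel _ {x ∈ D | g * x * g⁻¹ = x} (fun _ hx => hx.1) (fun x =>
      ⟨fun hx => ⟨x.2, by rw [← coe_conjPerm hc, hx]⟩, fun hx => Subtype.ext hx.2⟩), h₀] at h
  exact h

/-- Conjugation by one member. -/
theorem dvd_one : (r - s) ∣ -(k : ℤ) - s * k := by
  have hc := hG.set.hD.closed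
  have hD := hc.set
  obtain ⟨d, hd, -⟩ := hG.exists_commute
  have hinv := inv_eq hD hd
  have key : ∀ x ∈ D, ¬ Commute d x → d * x * d⁻¹ = x * d * x := fun x hx h => by
    rw [hinv]; exact braid hD hd hx h
  have hfix : ∀ x, d * x * d⁻¹ = x ↔ Commute d x := fun x => mul_inv_eq_iff_eq_mul
  have h₁ : {x ∈ D | d * x * d⁻¹ ∈ nbr D x}.ncard = 0 := by
    rw [Set.ncard_eq_zero, Set.eq_empty_iff_forall_notMem]
    rintro x ⟨hx, -, hne', hco⟩
    by_cases h : Commute d x
    · exact hne' ((hfix x).2 h)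
    · rw [key x hx h] at hco
      refine h ?_
      have e := (commute_conj_iff x x d).1 (by rw [inv_eq hD hx, mul_self hD hx, one_mul]; exact hco)
      exact e.symm
  have h₀ : {x ∈ D | d * x * d⁻¹ = x}.ncard = k + 1 := by
    rw [show {x ∈ D | d * x * d⁻¹ = x} = insert d (nbr D d) from ?_,
      Set.ncard_insert_of_notMem (fun h => h.2.1 rfl) (Set.toFinite _), hP.deg d hd]
    ext x
    constructor
    · rintro ⟨hx, e⟩
      rcases eq_or_ne x d with rfl | hxd
      · exact Set.mem_insert _ _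
      · exact Set.mem_insert_of_mem _ ⟨hx, hxd, (hfix x).1 e⟩
    · rintro (rfl | ⟨hx, -, hco⟩)
      · exact ⟨hd, (hfix _).2 (Commute.refl _)⟩
      · exact ⟨hx, (hfix x).2 hco⟩
  have := dvd_of_conj hG hP hmk hsum hprod hne d h₁ h₀
  simpa using this

omit hP hmk hsum hprod hne [Finite G] in
/-- A member commuting with a product of two distinct members commutes with both. -/
theorem commute_of_commute_mul {a b x : G} (ha : a ∈ D) (hb : b ∈ D) (hab : a ≠ b) (hx : x ∈ D)
    (h : Commute (a * b) x) : Commute a x ∧ Commute b x := by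
  have hD := hG.set.hD.closed.set
  have hxb : Commute a x → Commute b x := fun h1 => by
    have := h1.mul_left h
    rwa [mul_self_mul hD ha] at this
  by_cases h1 : Commute a x
  · exact ⟨h1, hxb h1⟩
  exfalso
  by_cases h2 : Commute b x
  · have := h.mul_left h2
    rw [mul_assoc, mul_self hD hb, mul_one] at this
    exact h1 this
  -- neither
  have ea := braid hD ha hx h1
  have eb := braid hD hb hx h2
  have e : x * (a * b) * x = a * b := by
    rw [mul_assoc x, h.eq, mul_self_mul hD hx]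
  have e' : x * (a * b) * x = (a * x * a) * (b * x * b) := by
    rw [ea, eb]
    simp only [mul_assoc, mul_self_mul hD hx]
  rw [e] at e'
  have e3 : b = x * (a * b) * x * b := mul_left_cancel (a := a) (e'.trans (by simp only [mul_assoc]))
  rw [e] at e3
  have e4 : a * b = 1 := by
    have := congrArg (· * b) e3
    simpa [mul_assoc, mul_self hD hb] using this.symm
  exact hab ((mul_eq_one_iff_eq' hD hb).1 e4)

omit hP hmk hsum hprod hne [Finite G] in
/-- A moved member commutes with its image only if it commutes with neither factor and they commute. -/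
theorem commute_conj_mul_iff {a b x : G} (ha : a ∈ D) (hb : b ∈ D) (hab : a ≠ b) (hx : x ∈ D) :
    ((a * b) * x * (a * b)⁻¹ ∈ nbr D x) ↔ Commute a b ∧ ¬ Commute a x ∧ ¬ Commute b x := by
  have hD := hG.set.hD.closed.set
  have hai := inv_eq hD ha
  have hbi := inv_eq hD hb
  have hxi := inv_eq hD hx
  have hσ : a * b * x * (a * b)⁻¹ = a * (b * x * b) * a := by rw [mul_inv_rev, hai, hbi]; group
  have hbx : ¬ Commute b x → b * x * b = x * b * x := fun h => braid hD hb hx h
  have hax : ¬ Commute a x → a * x * a = x * a * x := fun h => braid hD ha hx h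
  have hself : ∀ c, Commute x (x * c * x) ↔ Commute x c := fun c => by
    have := commute_conj_iff x x c
    simpa [hxi, mul_assoc, mul_self hD hx] using this
  have hmem : a * (b * x * b) * a ∈ D := conj_mem_left hG.set.hD.closed ha (conj_mem_left hG.set.hD.closed hb hx)
  rw [hσ]
  by_cases h1 : Commute a x <;> by_cases h2 : Commute b x
  · have e : a * (b * x * b) * a = x := by
      rw [h2.eq, mul_assoc x b b, mul_self hD hb, mul_one, h1.eq, mul_assoc, mul_self hD ha, mul_one]
    rw [e]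
    exact ⟨fun h => absurd rfl h.2.1, fun h => absurd h1 h.2.1⟩
  · -- `a` commutes with `x`
    have e : a * (b * x * b) * a = x * (a * b * a) * x := by
      rw [hbx h2]
      calc a * (x * b * x) * a = (a * x) * b * (x * a) := by group
        _ = (x * a) * b * (a * x) := by rw [h1.eq]
        _ = x * (a * b * a) * x := by group
    refine ⟨fun h => absurd ?_ h2, fun h => absurd h1 h.2.1⟩
    have h3 := (hself _).1 (e ▸ h.2.2)
    have h4 := (commute_conj_iff a x b).1 (by
      rw [hai, h1.eq, mul_assoc x a a, mul_self hD ha, mul_one]; exact h3)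
    exact h4.symm
  · -- `b` commutes with `x`
    have e : a * (b * x * b) * a = x * a * x := by
      rw [h2.eq, mul_assoc x b b, mul_self hD hb, mul_one, hax h1]
    refine ⟨fun h => absurd ?_ h1, fun h => absurd h2 h.2.2⟩
    exact ((hself a).1 (e ▸ h.2.2)).symm
  · -- neither
    have key : Commute x (a * (b * x * b) * a) ↔ Commute a b := by
      have e1 := commute_conj_iff a (a * x * a) (b * x * b)
      rw [hai] at e1
      rw [show a * (a * x * a) * a = x by
        simp only [← mul_assoc, mul_self hD ha, one_mul]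
        simp only [mul_assoc, mul_self hD ha, mul_one]] at e1
      rw [e1, hax h1, hbx h2]
      have e2 := commute_conj_iff x a b
      rwa [hxi] at e2
    refine ⟨fun h => ⟨key.1 h.2.2, h1, h2⟩, fun h => ⟨hmem, fun e => ?_, key.2 h.1⟩⟩
    have h3 : Commute (a * b) x := by
      rw [← hσ] at e
      exact mul_inv_eq_iff_eq_mul.1 e
    exact h1 (commute_of_commute_mul hG ha hb hab hx h3).1

/-- Conjugation by the product of two members which do not commute. -/
theorem dvd_far : (r - s) ∣ -(k : ℤ) - s * ((m : ℤ) - 1) := by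
  obtain ⟨a, ha, b, hb, hab⟩ := hG.exists_far
  have hne' : a ≠ b := fun e => hab (e ▸ Commute.refl a)
  have h₁ : {x ∈ D | a * b * x * (a * b)⁻¹ ∈ nbr D x}.ncard = 0 := by
    rw [Set.ncard_eq_zero, Set.eq_empty_iff_forall_notMem]
    rintro x ⟨hx, h⟩
    exact hab ((commute_conj_mul_iff hG ha hb hne' hx).1 h).1
  have h₀ : {x ∈ D | a * b * x * (a * b)⁻¹ = x}.ncard = m := by
    rw [show {x ∈ D | a * b * x * (a * b)⁻¹ = x} = nbr D a ∩ nbr D b from ?_, hP.mu a ha b hb hab]
    ext x
    constructor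
    · rintro ⟨hx, e⟩
      obtain ⟨h1, h2⟩ := commute_of_commute_mul hG ha hb hne' hx (mul_inv_eq_iff_eq_mul.1 e)
      exact ⟨⟨hx, fun e' => hab (e' ▸ h2).symm, h1⟩, ⟨hx, fun e' => hab (e' ▸ h1), h2⟩⟩
    · rintro ⟨⟨hx, -, h1⟩, -, -, h2⟩
      exact ⟨hx, mul_inv_eq_iff_eq_mul.2 (h1.mul_left h2)⟩
  have := dvd_of_conj hG hP hmk hsum hprod hne (a * b) h₁ h₀
  simpa using this

/-- Conjugation by the product of two commuting members. -/
theorem dvd_near : (r - s) ∣ ((v : ℤ) - 2 * k + l) - k - s * ((l : ℤ) + 1) := by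
  obtain ⟨a, ha, b, hb, hab⟩ := hG.exists_commute
  have hc : Commute a b := hab.2.2
  have hne' : a ≠ b := hab.2.1.symm
  have hba := LocalSymThree.nbr_symm ha hab
  have hfix : {x ∈ D | a * b * x * (a * b)⁻¹ = x} = insert a (nbr D a) ∩ insert b (nbr D b) := by
    ext x
    constructor
    · rintro ⟨hx, e⟩
      obtain ⟨h1, h2⟩ := commute_of_commute_mul hG ha hb hne' hx (mul_inv_eq_iff_eq_mul.1 e)
      exact ⟨(eq_or_ne x a).imp id fun h => ⟨hx, h, h1⟩, (eq_or_ne x b).imp id fun h => ⟨hx, h, h2⟩⟩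
    · rintro ⟨hxa, hxb⟩
      have h1 : x ∈ D ∧ Commute a x := by
        rcases hxa with rfl | h
        exacts [⟨ha, Commute.refl _⟩, ⟨h.1, h.2.2⟩]
      have h2 : Commute b x := by
        rcases hxb with rfl | h
        exacts [Commute.refl _, h.2.2]
      exact ⟨h1.1, mul_inv_eq_iff_eq_mul.2 (h1.2.mul_left h2)⟩
  have hint : (insert a (nbr D a) ∩ insert b (nbr D b)).ncard = l + 2 := by
    rw [Set.insert_inter_of_mem (Set.mem_insert_of_mem _ hba), Set.inter_insert_of_mem hab,
      Set.ncard_insert_of_notMem ?_ (Set.toFinite _),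
      Set.ncard_insert_of_notMem (fun h => h.2.2.1 rfl) (Set.toFinite _), hP.lam a ha b hab]
    rintro (h | h)
    exacts [hne' h, h.1.2.1 rfl]
  have hsub : insert a (nbr D a) ∪ insert b (nbr D b) ⊆ D :=
    Set.union_subset (Set.insert_subset ha fun x hx => hx.1) (Set.insert_subset hb fun x hx => hx.1)
  set n₁ := {x ∈ D | a * b * x * (a * b)⁻¹ ∈ nbr D x}.ncard with hn₁
  have hcount : (n₁ : ℤ) = (v : ℤ) - 2 * k + l := by
    have hset : {x ∈ D | a * b * x * (a * b)⁻¹ ∈ nbr D x} = D \ (insert a (nbr D a) ∪ insert b (nbr D b)) := by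
      ext x
      constructor
      · rintro ⟨hx, h⟩
        obtain ⟨-, h1, h2⟩ := (commute_conj_mul_iff hG ha hb hne' hx).1 h
        refine ⟨hx, ?_⟩
        rintro ((rfl | h') | (rfl | h'))
        exacts [h1 (Commute.refl _), h1 h'.2.2, h2 (Commute.refl _), h2 h'.2.2]
      · rintro ⟨hx, h⟩
        refine ⟨hx, (commute_conj_mul_iff hG ha hb hne' hx).2 ⟨hc, fun h1 => h (Or.inl ?_),
          fun h2 => h (Or.inr ?_)⟩⟩
        · exact (eq_or_ne x a).imp id fun h' => ⟨hx, h', h1⟩
        · exact (eq_or_ne x b).imp id fun h' => ⟨hx, h', h2⟩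
    have e1 := Set.ncard_sdiff_add_ncard_of_subset hsub (Set.toFinite D)
    have e2 := Set.ncard_union_add_ncard_inter (insert a (nbr D a)) (insert b (nbr D b))
      (Set.toFinite _) (Set.toFinite _)
    rw [hint, Set.ncard_insert_of_notMem (fun h => h.2.1 rfl) (Set.toFinite _),
      Set.ncard_insert_of_notMem (fun h => h.2.1 rfl) (Set.toFinite _), hP.deg a ha, hP.deg b hb] at e2
    rw [← hset, ← hn₁, hP.card] at e1
    omega
  have := dvd_of_conj hG hP hmk hsum hprod hne (a * b) hn₁.symm (n₀ := l + 2) (by rw [hfix, hint])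
  rw [hcount] at this
  have e : (((l + 2 : ℕ) : ℤ) - 1) = (l : ℤ) + 1 := by push_cast; ring
  rwa [e] at this

omit hP hmk hsum hprod hne in
/-- The three conditions at once, outside the case `k = 2 (l + 1)`. -/
theorem Params.divisibility (hP : Params D v k l m) (hm : 0 < m) (hmk : m < k) (hconf : k ≠ 2 * (l + 1)) :
    ∃ r s : ℤ, r + s = (l : ℤ) - m ∧ r * s = (m : ℤ) - k ∧ s < r ∧ (r - s) ∣ -(k : ℤ) - s * k ∧
      (r - s) ∣ -(k : ℤ) - s * ((m : ℤ) - 1) ∧
      (r - s) ∣ ((v : ℤ) - 2 * k + l) - k - s * ((l : ℤ) + 1) := by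
  classical
  have := Fintype.ofFinite D
  obtain ⟨a, ha, -⟩ := hG.exists_commute
  have : Nonempty D := ⟨⟨a, ha⟩⟩
  have hv : Fintype.card D = v := by rw [← Nat.card_eq_fintype_card, Nat.card_coe_set_eq, hP.card]
  obtain ⟨h2, h3, he⟩ := Params.card_eq hG hP hmk
  have hnc : 2 * (k : ℤ) + ((Fintype.card D : ℤ) - 1) * ((l : ℤ) - m) ≠ 0 := by
    intro h0
    rw [hv] at h0
    have heq : (m : ℤ) * ((v : ℤ) - k - 1) = (k : ℤ) * ((k : ℤ) - l - 1) := by
      have := congrArg (Nat.cast : ℕ → ℤ) he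
      push_cast [Nat.sub_sub, Nat.cast_sub h2, Nat.cast_sub h3] at this
      linarith
    -- with `j = m - l`: `2 m = (k - 1 + j) j`
    set j : ℤ := (m : ℤ) - l with hj
    have h4 : 2 * (m : ℤ) = ((k : ℤ) - 1 + j) * j := by
      refine mul_left_cancel₀ (show (k : ℤ) ≠ 0 by omega) ?_
      linear_combination (m : ℤ) * h0 + j * heq + (0 : ℤ) * hj
    have hk1 : (1 : ℤ) ≤ k := by omega
    have hmk' : (m : ℤ) + 1 ≤ k := by exact_mod_cast hmk
    have hv' : (k : ℤ) + 1 ≤ v := by exact_mod_cast h2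
    have hj1 : 1 ≤ j := by
      by_contra hj0
      rw [not_le] at hj0
      have : 0 ≤ ((v : ℤ) - 1) * ((l : ℤ) - m) := mul_nonneg (by linarith) (by omega)
      linarith
    have hj2 : j < 2 := by
      by_contra hj2
      rw [not_lt] at hj2
      nlinarith
    have hj3 : j = 1 := by omega
    rw [hj3] at h4
    have : (k : ℤ) = 2 * ((l : ℤ) + 1) := by linarith
    exact hconf (by exact_mod_cast this)
  obtain ⟨r, s, h4, h5, h6⟩ := exists_eigen hP.isSrg hmk hnc
  exact ⟨r, s, h4, h5, h6, dvd_one hG hP hmk h4 h5 h6.ne', dvd_far hG hP hmk h4 h5 h6.ne',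
    dvd_near hG hP hmk h4 h5 h6.ne'⟩

end Group

end CfsgLib.ThreeTrans.Classif
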