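import Cfsg.Agent.Lib.ThreeTrans.PolarTwins.Models
import Cfsg.Agent.Lib.ThreeTrans.Classif.Kinds

/-!
The transvections of the five dimensional unitary group over four elements as codes: a vector is a
number below 1024, four possible digits in each of five places, and a point is the code of its
vector whose first non-zero digit is one.
-/

set_option autoImplicit false
set_option linter.unusedSimpArgs false

namespace CfsgLib.ThreeTrans.Classif.UFive

/-- Product of two digits, the digits `1, 2, 3` being `1, ω, ω²`. -/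
def fmul (a b : ℕ) : ℕ := if a = 0 then 0 else if b = 0 then 0 else (a + b - 2) % 3 + 1

/-- Digit number `i`. -/
def dig (n i : ℕ) : ℕ := (n >>> (2 * i)) % 4

/-- The conjugate of a digit. -/
def fsq (a : ℕ) : ℕ := fmul a a

/-- One summand of the form. -/
def hterm (u v i : ℕ) : ℕ := fmul (dig u i) (fsq (dig v i))

/-- The hermitian form on codes. -/
def hf (u v : ℕ) : ℕ := hterm u v 0 ^^^ hterm u v 1 ^^^ hterm u v 2 ^^^ hterm u v 3 ^^^ hterm u v 4

/-- Scalar multiple of a code. -/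
def smulCode (c n : ℕ) : ℕ :=
  fmul c (dig n 0) + 4 * fmul c (dig n 1) + 16 * fmul c (dig n 2) + 64 * fmul c (dig n 3) +
    256 * fmul c (dig n 4)

/-- First non-zero digit. -/
def lead (n : ℕ) : ℕ :=
  if dig n 0 ≠ 0 then dig n 0 else if dig n 1 ≠ 0 then dig n 1 else if dig n 2 ≠ 0 then dig n 2
  else if dig n 3 ≠ 0 then dig n 3 else dig n 4

/-- The code of the point of a vector. -/
def canon (n : ℕ) : ℕ := smulCode (fsq (lead n)) n

/-- Image of the point `x` under the transvection at the point `p`. -/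
def tr (p x : ℕ) : ℕ := canon (x ^^^ smulCode (hf x p) p)

/-- The isotropic points. -/
def pts : List ℕ :=
  [5, 9, 13, 17, 20, 33, 36, 49, 52, 65, 68, 80, 85, 89, 93, 101, 105, 109, 117, 121, 125, 129, 132,
    144, 149, 153, 157, 165, 169, 173, 181, 185, 189, 193, 196, 208, 213, 217, 221, 229, 233, 237,
    245, 249, 253, 257, 260, 272, 277, 281, 285, 293, 297, 301, 309, 313, 317, 320, 325, 329, 333,
    337, 340, 353, 356, 369, 372, 389, 393, 397, 401, 404, 417, 420, 433, 436, 453, 457, 461, 465,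
    468, 481, 484, 497, 500, 513, 516, 528, 533, 537, 541, 549, 553, 557, 565, 569, 573, 576, 581,
    585, 589, 593, 596, 609, 612, 625, 628, 645, 649, 653, 657, 660, 673, 676, 689, 692, 709, 713,
    717, 721, 724, 737, 740, 753, 756, 769, 772, 784, 789, 793, 797, 805, 809, 813, 821, 825, 829,
    832, 837, 841, 845, 849, 852, 865, 868, 881, 884, 901, 905, 909, 913, 916, 929, 932, 945, 948,
    965, 969, 973, 977, 980, 993, 996, 1009, 1012]

theorem fmul_lt : ∀ a < 4, ∀ b < 4, fmul a b < 4 := by decide +kernel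

theorem dig_lt (n i : ℕ) : dig n i < 4 := Nat.mod_lt _ (by norm_num)

theorem dig_xor (n m i : ℕ) : dig (n ^^^ m) i = dig n i ^^^ dig m i := by
  unfold dig
  rw [Nat.shiftRight_xor_distrib]
  exact Nat.xor_mod_two_pow (n := 2)

theorem dig_enc {a b c d e : ℕ} (ha : a < 4) (hb : b < 4) (hc : c < 4) (hd : d < 4) (he : e < 4) :
    dig (a + 4 * b + 16 * c + 64 * d + 256 * e) 0 = a ∧
    dig (a + 4 * b + 16 * c + 64 * d + 256 * e) 1 = b ∧
    dig (a + 4 * b + 16 * c + 64 * d + 256 * e) 2 = c ∧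
    dig (a + 4 * b + 16 * c + 64 * d + 256 * e) 3 = d ∧
    dig (a + 4 * b + 16 * c + 64 * d + 256 * e) 4 = e := by
  simp only [dig, Nat.shiftRight_eq_div_pow]
  norm_num
  omega

theorem dig_smul {c : ℕ} (hc : c < 4) (n : ℕ) :
    smulCode c n < 1024 ∧ ∀ i < 5, dig (smulCode c n) i = fmul c (dig n i) := by
  have h := fun i => fmul_lt c hc _ (dig_lt n i)
  refine ⟨?_, fun i hi => ?_⟩
  · have := h 0; have := h 1; have := h 2; have := h 3; have := h 4
    unfold smulCode
    omega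
  · obtain ⟨g0, g1, g2, g3, g4⟩ := dig_enc (h 0) (h 1) (h 2) (h 3) (h 4)
    interval_cases i <;> assumption

theorem dig_join {n : ℕ} (hn : n < 1024) :
    dig n 0 + 4 * dig n 1 + 16 * dig n 2 + 64 * dig n 3 + 256 * dig n 4 = n := by
  simp only [dig, Nat.shiftRight_eq_div_pow]
  norm_num
  omega

theorem pts_lt : ∀ m ∈ pts, m < 1024 ∧ m ≠ 0 ∧ hf m m = 0 := by decide +kernel

theorem canon_smul : ∀ m ∈ pts, ∀ c < 4, c ≠ 0 → canon (smulCode c m) = m := by decide +kernel

theorem canon_mem : ∀ n < 1024, n ≠ 0 → hf n n = 0 →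
    canon n ∈ pts ∧ fsq (lead n) < 4 ∧ fsq (lead n) ≠ 0 := by decide +kernel

theorem hterm_lt (u v i : ℕ) : hterm u v i < 4 :=
  fmul_lt _ (dig_lt u i) _ (fmul_lt _ (dig_lt v i) _ (dig_lt v i))

theorem hf_lt (u v : ℕ) : hf u v < 4 := by
  have h := fun i => hterm_lt u v i
  exact Nat.xor_lt_two_pow (n := 2) (Nat.xor_lt_two_pow (n := 2) (Nat.xor_lt_two_pow (n := 2)
    (Nat.xor_lt_two_pow (n := 2) (h 0) (h 1)) (h 2)) (h 3)) (h 4)

section Field

variable {F : Type} [Field F]

/-- The field element of a digit. -/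
def el (w : F) : ℕ → F
  | 0 => 0
  | 1 => 1
  | 2 => w
  | _ => w ^ 2

/-- The vector of a code. -/
def dec (w : F) (n : ℕ) : Fin 5 → F := fun i => el w (dig n i)

/-- The properties of the digits, given a cube root of unity other than one in a field of four. -/
structure Good4 (w : F) : Prop where
  add : ∀ a < 4, ∀ b < 4, el w (a ^^^ b) = el w a + el w b
  mul : ∀ a < 4, ∀ b < 4, el w (fmul a b) = el w a * el w b
  inj : ∀ a < 4, ∀ b < 4, el w a = el w b → a = b
  surj : ∀ x : F, ∃ a < 4, el w a = x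

theorem exists_good4 [Fintype F] (hF : Fintype.card F = 4) : ∃ w : F, Good4 w := by
  classical
  obtain ⟨w, hw⟩ : ∃ w : F, w ∉ ({0, 1} : Finset F) := by
    by_contra h
    push Not at h
    have := Finset.card_le_card (fun x _ => h x : (Finset.univ : Finset F) ⊆ {0, 1})
    rw [Finset.card_univ, hF] at this
    simp at this
  simp only [Finset.mem_insert, Finset.mem_singleton, not_or] at hw
  obtain ⟨h0, h1⟩ := hw
  have h3 : w ^ 3 = 1 := by
    have := FiniteField.pow_card_sub_one_eq_one w h0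
    rwa [hF] at this
  have hq : w ^ 2 + w + 1 = 0 := by
    have h : (w - 1) * (w ^ 2 + w + 1) = 0 := by linear_combination h3
    exact (mul_eq_zero.1 h).resolve_left (sub_ne_zero.2 h1)
  have h2 : (2 : F) = 0 := by
    have e := FiniteField.pow_card_sub_one_eq_one (-1 : F) (neg_ne_zero.2 one_ne_zero)
    rw [hF] at e
    linear_combination -e
  have hw2 : w ^ 2 ≠ 0 := pow_ne_zero 2 h0
  have h12 : w ^ 2 ≠ 1 := fun e => h1 (by linear_combination h3 - w * e)
  have hww : w ^ 2 ≠ w := fun e => h1 (mul_left_cancel₀ h0 (by linear_combination e))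
  have hinj : ∀ a < 4, ∀ b < 4, el w a = el w b → a = b := by
    intro a ha b hb h
    interval_cases a <;> interval_cases b <;>
      first
        | rfl
        | exact absurd h (by simp [el, h0, h1, hw2, h12, hww, Ne.symm h0, Ne.symm h1, Ne.symm hw2,
            Ne.symm h12, Ne.symm hww])
  refine ⟨w, fun a ha b hb => ?_, fun a ha b hb => ?_, hinj, fun x => ?_⟩
  · interval_cases a <;> interval_cases b <;> simp [el] <;>
      first
        | linear_combination h2
        | linear_combination (w : F) * h2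
        | linear_combination (w ^ 2 : F) * h2
        | linear_combination (-1 : F) * h2
        | linear_combination (-w) * h2
        | linear_combination (-w ^ 2) * h2
        | linear_combination hq
        | linear_combination hq - h2
        | linear_combination hq - w * h2
        | linear_combination hq - w ^ 2 * h2
        | linear_combination (-1 : F) * hq
        | linear_combination (-1 : F) * hq + h2
        | linear_combination (-1 : F) * hq + w * h2
        | linear_combination (-1 : F) * hq + w ^ 2 * h2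
  · interval_cases a <;> interval_cases b <;> simp [el, fmul] <;>
      first
        | ring1
        | linear_combination h3
        | linear_combination (-1 : F) * h3
        | linear_combination w * h3
        | linear_combination (-w) * h3
  · have hb : Function.Bijective (fun a : Fin 4 => el w a) := by
      rw [Fintype.bijective_iff_injective_and_card]
      exact ⟨fun a b h => Fin.ext (hinj a a.2 b b.2 h), by rw [hF, Fintype.card_fin]⟩
    obtain ⟨a, ha⟩ := hb.2 x
    exact ⟨a, a.2, ha⟩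

variable {w : F} (hw : Good4 w)
include hw

theorem el_eq_zero {a : ℕ} (ha : a < 4) : el w a = 0 ↔ a = 0 :=
  ⟨fun h => hw.inj a ha 0 (by norm_num) (h.trans rfl), fun h => by rw [h]; rfl⟩

theorem dec_inj {n m : ℕ} (hn : n < 1024) (hm : m < 1024) (h : dec w n = dec w m) : n = m := by
  have e : ∀ i : Fin 5, dig n i = dig m i := fun i =>
    hw.inj _ (dig_lt n i) _ (dig_lt m i) (congrFun h i)
  have e0 : dig n 0 = dig m 0 := e 0
  have e1 : dig n 1 = dig m 1 := e 1
  have e2 : dig n 2 = dig m 2 := e 2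
  have e3 : dig n 3 = dig m 3 := e 3
  have e4 : dig n 4 = dig m 4 := e 4
  rw [← dig_join hn, ← dig_join hm, e0, e1, e2, e3, e4]

theorem dec_surj (v : Fin 5 → F) : ∃ n < 1024, dec w n = v := by
  choose a ha hav using hw.surj
  set d : Fin 5 → ℕ := fun i => a (v i) with hd
  obtain ⟨g0, g1, g2, g3, g4⟩ :=
    dig_enc (ha (v 0)) (ha (v 1)) (ha (v 2)) (ha (v 3)) (ha (v 4))
  refine ⟨d 0 + 4 * d 1 + 16 * d 2 + 64 * d 3 + 256 * d 4, ?_, ?_⟩
  · have := ha (v 0); have := ha (v 1); have := ha (v 2); have := ha (v 3); have := ha (v 4)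
    simp only [hd]
    omega
  · funext i
    fin_cases i <;> simp [dec, g0, g1, g2, g3, g4, hd, hav]

theorem dec_xor (n m : ℕ) : dec w (n ^^^ m) = dec w n + dec w m :=
  funext fun i => by
    show el w _ = el w _ + el w _
    rw [dig_xor, hw.add _ (dig_lt n i) _ (dig_lt m i)]

theorem dec_smul {c : ℕ} (hc : c < 4) (n : ℕ) :
    dec w (smulCode c n) = el w c • dec w n :=
  funext fun i => by
    show el w _ = el w c * el w _
    rw [(dig_smul hc n).2 i i.2, hw.mul c hc _ (dig_lt n i)]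

theorem hf_eq (u v : ℕ) : el w (hf u v) = Cfsg.hermForm 5 F 2 (dec w u) (dec w v) := by
  have ht : ∀ i, el w (hterm u v i) = el w (dig u i) * el w (dig v i) ^ 2 := fun i => by
    rw [hterm, fsq, hw.mul _ (dig_lt u i) _ (fmul_lt _ (dig_lt v i) _ (dig_lt v i)),
      hw.mul _ (dig_lt v i) _ (dig_lt v i), pow_two]
  have hx : ∀ {a b : ℕ}, a < 4 → b < 4 → a ^^^ b < 4 := fun ha hb => Nat.xor_lt_two_pow (n := 2) ha hb
  have h := fun i => hterm_lt u v i
  rw [hf, hw.add _ (hx (hx (hx (h 0) (h 1)) (h 2)) (h 3)) _ (h 4),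
    hw.add _ (hx (hx (h 0) (h 1)) (h 2)) _ (h 3), hw.add _ (hx (h 0) (h 1)) _ (h 2),
    hw.add _ (h 0) _ (h 1), ht, ht, ht, ht, ht, Cfsg.hermForm, Fin.sum_univ_five]
  rfl

omit hw in
theorem dec_zero : dec w 0 = 0 :=
  funext fun i => by
    show el w (dig 0 i) = 0
    rw [show dig 0 (i : ℕ) = 0 by simp [dig]]
    rfl

/-- The point of a multiple. -/
theorem canon_eq {z m : ℕ} (hz : z < 1024) (hm : m ∈ pts) {x : F} (hx : x ≠ 0)
    (h : dec w z = x • dec w m) : canon z = m := by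
  obtain ⟨c, hc, rfl⟩ := hw.surj x
  have hc0 : c ≠ 0 := fun e => hx (by rw [e]; rfl)
  have hlt := (pts_lt m hm).1
  rw [← dec_smul hw hc] at h
  rw [dec_inj hw hz (dig_smul hc m).1 h]
  exact canon_smul m hm c hc hc0

/-- Every isotropic vector is a multiple of a point. -/
theorem exists_point {v : Fin 5 → F} (hv : v ≠ 0) (hvv : Cfsg.hermForm 5 F 2 v v = 0) :
    ∃ m ∈ pts, ∃ x : F, x ≠ 0 ∧ dec w m = x • v := by
  obtain ⟨n, hn, rfl⟩ := dec_surj hw v
  have hn0 : n ≠ 0 := fun e => hv (by rw [e, dec_zero])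
  rw [← hf_eq hw, el_eq_zero hw (hf_lt n n)] at hvv
  obtain ⟨h1, h2, h3⟩ := canon_mem n hn hn0 hvv
  exact ⟨_, h1, el w (fsq (lead n)), fun e => h3 ((el_eq_zero hw h2).1 e),
    by rw [canon, dec_smul hw h2]⟩

end Field

universe u

/-- The transvections of `PSU(5,2)` are the points, commuting the orthogonality. -/
theorem exists_code {Y : Type u} [Group Y] {E : Set Y} (hE : KindPSU (G := Y) E 5) :
    ∃ κ : Y → ℕ, Set.BijOn κ E {n | n ∈ pts} ∧
      (∀ a ∈ E, ∀ b ∈ E, (Commute a b ↔ hf (κ a) (κ b) = 0)) ∧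
      ∀ a ∈ E, ∀ b ∈ E, κ (a * b * a) = tr (κ a) (κ b) := by
  classical
  obtain ⟨F, _, _, hF, e, he⟩ := hE
  obtain ⟨w, hw⟩ := exists_good4 hF
  obtain ⟨τ, hB, hτ, h4, h2, key, hT⟩ := PolarTwins.Models.psu_model (n := 5) hF (by norm_num)
  have hform : ∀ u v, Cfsg.hermForm 5 F 2 u v = CfsgLib.UnitaryEmbed.hermSesq 5 τ v u := fun u v =>
    (CfsgLib.UnitaryEmbed.hermSesq_apply τ hτ v u).symm
  set π : ↥(Cfsg.SU 5 F 2) → Cfsg.PSU 5 F 2 := QuotientGroup.mk with hπ
  set T : Set ↥(Cfsg.SU 5 F 2) := {g |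
    (((g : Matrix.SpecialLinearGroup (Fin 5) F) : Matrix (Fin 5) (Fin 5) F) - 1).rank = 1} with hT'
  have hTg := group_of_class (Cfsg.Agent.S1631.main hF (show 4 ≤ 5 by norm_num))
  have hpt : ∀ a ∈ E, ∃ m ∈ pts, ∃ A, PolarTwins.Models.Tv τ A (dec w m) ∧ e a = π A := by
    intro a ha
    obtain ⟨A, hA, hAe⟩ : e a ∈ π '' T := by
      rw [← he]; exact Set.mem_image_of_mem _ ha
    obtain ⟨v, hv⟩ := (key A).1 hA
    obtain ⟨m, hm, x, hx, hmv⟩ := exists_point hw hv.1 (by rw [hform]; exact hv.2.1)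
    refine ⟨m, hm, A, ⟨?_, ?_, ?_⟩, hAe.symm⟩
    · rw [hmv]; exact smul_ne_zero hx hv.1
    · rw [hmv, map_smul, map_smulₛₗ, LinearMap.smul_apply, hv.2.1, smul_zero, smul_zero]
    · rw [hmv]; exact Cfsg.Agent.S1631.tv_smul h4 hx hv.2.2
  choose! κ hκ A hA hAe using hpt
  have hcent : ∀ {a : Y}, a ∈ E → ∀ {B : ↥(Cfsg.SU 5 F 2)} {u : Fin 5 → F},
      PolarTwins.Models.Tv τ B u → π B = e a → ∃ x : F, x ≠ 0 ∧ dec w (κ a) = x • u := by
    intro a ha B u hBu hBe
    have hAB := PolarTwins.Models.tv_eq_of_mk hB hτ (by norm_num) hT (hA a ha) hBu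
      ((hAe a ha).symm.trans hBe.symm)
    obtain ⟨x, hx⟩ := PolarTwins.Models.centre_unique hB (hA a ha).1 (hA a ha).2.2 (hAB ▸ hBu.2.2)
    exact ⟨x, fun h0 => (hA a ha).1 (by rw [hx, h0, zero_smul]), hx⟩
  have hconj : ∀ a ∈ E, ∀ b ∈ E, PolarTwins.Models.Tv τ (A a * A b * A a)
      (CfsgLib.Unitary.suEquiv 5 F 2 (A a) (dec w (κ b))) ∧ a * b * a ∈ E := by
    intro a ha b hb
    have h := PolarTwins.Models.tv_conj_eq hB hτ (by norm_num) hT (C := A a) (hA b hb)
    have hinv : (A a)⁻¹ = A a :=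
      inv_eq_of_mul_eq_one_right (mul_self hTg.1 ((key _).2 ⟨_, hA a ha⟩))
    rw [hinv] at h
    refine ⟨h, ?_⟩
    have hm : e (a * b * a) ∈ e '' E := by
      rw [he, map_mul, map_mul, hAe a ha, hAe b hb]
      exact ⟨_, (key _).2 ⟨_, h⟩, rfl⟩
    obtain ⟨c, hc, hce⟩ := hm
    rwa [e.injective hce] at hc
  refine ⟨κ, ⟨fun a ha => hκ a ha, fun a ha b hb h => ?_, fun m hm => ?_⟩, fun a ha b hb => ?_,
    fun a ha b hb => ?_⟩
  · apply e.injective
    rw [hAe a ha, hAe b hb]
    have hb' : PolarTwins.Models.Tv τ (A b) (dec w (κ a)) := h ▸ hA b hb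
    rw [Cfsg.Agent.S1631.isTv_eq (hA a ha).2.2 hb'.2.2 |> CfsgLib.Unitary.suEquiv_injective]
  · obtain ⟨h1, h0, hmm⟩ := pts_lt m hm
    have hne : dec w m ≠ 0 := fun h => h0 (dec_inj hw h1 (by norm_num) (h.trans dec_zero.symm))
    obtain ⟨B, hBv⟩ := hT _ hne (by rw [← hform, ← hf_eq hw, hmm]; rfl)
    obtain ⟨a, ha, hae⟩ : π B ∈ e '' E := by rw [he]; exact ⟨B, (key B).2 ⟨_, hBv⟩, rfl⟩
    obtain ⟨x, hx, hxe⟩ := hcent ha hBv hae.symm
    refine ⟨a, ha, ?_⟩
    have := canon_eq hw (pts_lt _ (hκ a ha)).1 hm hx hxe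
    rw [← this]
    exact (canon_eq hw (pts_lt _ (hκ a ha)).1 (hκ a ha) one_ne_zero (one_smul _ _).symm).symm
  · rw [show Commute a b ↔ Commute (e a) (e b) from
        ⟨fun h => h.map e, fun h => e.injective (by simpa using h.eq)⟩,
      hAe a ha, hAe b hb, hπ,
      PolarTwins.Models.commute_mk_iff hB hτ (by norm_num) hT h4 (hA a ha) (hA b hb),
      ← el_eq_zero hw (hf_lt _ _), hf_eq hw, hform]
    exact ⟨CfsgLib.Unitary.herm_zero hB, CfsgLib.Unitary.herm_zero hB⟩
  · obtain ⟨h, hm⟩ := hconj a ha b hb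
    obtain ⟨x, hx, hxe⟩ := hcent hm h (by rw [map_mul, map_mul, hAe a ha, hAe b hb]; rfl)
    have hla := (pts_lt _ (hκ a ha)).1
    have hlb := (pts_lt _ (hκ b hb)).1
    have hlt := (dig_smul (hf_lt (κ b) (κ a)) (κ a)).1
    refine (canon_eq hw (Nat.xor_lt_two_pow (n := 10) hlb hlt) (hκ _ hm) (inv_ne_zero hx) ?_).symm
    rw [hxe, inv_smul_smul₀ hx, dec_xor hw, dec_smul hw (hf_lt _ _), hf_eq hw, hform,
      (hA a ha).2.2, one_mul]

end CfsgLib.ThreeTrans.Classif.UFive
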