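import Cfsg.Agent.Lib.ThreeTrans.Classif.UFiveCode

/-!
Seventeen products of transvections fixing two commuting points of the five dimensional unitary
space, pairwise telling apart every possible pair of neighbourhoods of the two points inside the
common partners of two members which do not commute.
-/

set_option autoImplicit false

namespace CfsgLib.ThreeTrans.Classif.UFive

/-- The first (`false`) or the second (`true`) of the two fixed points. -/
def side (s : Bool) : ℕ := if s then 80 else 5

/-- The points commuting with a fixed point, other than itself. -/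
def sideNbr (s : Bool) : List ℕ :=
  if s then
   [
    5, 9, 13, 85, 89, 93, 165, 169, 173, 245, 249, 253, 257, 260, 337, 340, 417, 420, 497, 500,
    513, 516, 593, 596, 673, 676, 753, 756, 769, 772, 849, 852, 929, 932, 1009, 1012]
  else
   [
    80, 85, 101, 117, 144, 149, 165, 181, 208, 213, 229, 245, 272, 277, 293, 309, 320, 325, 389,
    453, 528, 533, 549, 565, 576, 581, 645, 709, 784, 789, 805, 821, 832, 837, 901, 965]

/-- The totally isotropic lines at a fixed point, without it. -/
def lines (s : Bool) : List (List ℕ) :=
  if s then
   [
    [5, 85, 165, 245], [9, 89, 169, 249], [13, 93, 173, 253], [257, 337, 417, 497],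
    [260, 340, 420, 500], [513, 593, 673, 753], [516, 596, 676, 756], [769, 849, 929, 1009],
    [772, 852, 932, 1012]]
  else
   [
    [80, 85, 165, 245], [101, 181, 208, 213], [117, 144, 149, 229], [272, 277, 549, 821],
    [293, 565, 784, 789], [309, 528, 533, 805], [320, 325, 645, 965], [389, 709, 832, 837],
    [453, 576, 581, 901]]

/-- The products, as lists of centres. -/
def words : List (List ℕ) :=
  [
    [], [165], [85], [101, 181, 272, 549], [101, 181, 309, 533], [245], [9, 89, 596, 756],
    [257, 417, 769, 929], [101, 181, 389, 832], [9, 169, 340, 420], [272, 277, 528, 533],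
    [101, 208, 581, 901], [101, 181, 320, 645], [9, 169, 852, 932], [101, 181, 576, 901],
    [272, 277, 293, 565], [272, 549, 528, 805]]

/-- For the products `i < j`: whether to square the quotient, the point to look at, a point next to it,
and which of the two fixed transvections to multiply with. -/
def certs : List (List (Bool × Bool × ℕ × ℕ)) :=
  [
    [(false, true, 9, 1), (false, true, 9, 1), (false, false, 101, 0), (false, false, 101, 0),
    (false, true, 9, 1), (false, true, 9, 0), (false, true, 257, 0), (false, false, 101, 0),
    (false, true, 9, 0), (false, false, 272, 0), (false, false, 101, 0), (false, false, 101, 0),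
    (false, true, 9, 0), (false, false, 101, 0), (false, false, 272, 0), (false, false, 272, 0)],
    [(false, false, 101, 0), (false, false, 101, 2), (false, false, 101, 2),
    (false, false, 101, 0), (false, true, 9, 1), (false, true, 9, 1), (false, false, 101, 2),
    (false, true, 257, 1), (false, false, 101, 2), (false, false, 272, 2), (false, false, 101, 2),
    (false, true, 257, 1), (false, false, 101, 2), (false, false, 101, 2), (false, false, 101, 2)],
    [(false, false, 101, 2), (false, false, 101, 2), (false, false, 101, 0), (false, true, 257, 1),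
    (false, true, 9, 1), (false, false, 272, 2), (false, true, 9, 1), (false, false, 101, 2),
    (false, false, 101, 2), (false, false, 272, 2), (false, true, 9, 1), (false, false, 272, 2),
    (false, false, 101, 2), (false, false, 101, 2)],
    [(false, false, 272, 0), (false, false, 272, 2), (true, true, 9, 1), (true, true, 9, 1),
    (false, false, 101, 0), (true, true, 9, 1), (false, false, 101, 0), (false, false, 101, 0),
    (false, false, 101, 0), (true, true, 9, 1), (false, false, 101, 0), (false, false, 101, 0),
    (false, false, 101, 0)],
    [(false, false, 272, 2), (true, true, 9, 1), (true, true, 9, 1), (false, false, 101, 0),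
    (true, true, 9, 1), (false, false, 101, 0), (false, false, 101, 0), (false, false, 101, 0),
    (true, true, 9, 1), (false, false, 101, 0), (false, false, 101, 0), (false, false, 101, 0)],
    [(false, true, 9, 1), (false, true, 9, 1), (false, false, 101, 2), (false, true, 9, 1),
    (false, false, 101, 2), (false, false, 101, 2), (false, false, 101, 2), (false, true, 9, 1),
    (false, false, 101, 2), (false, false, 101, 2), (false, false, 101, 2)],
    [(false, true, 9, 0), (true, true, 9, 1), (false, true, 9, 0), (true, true, 9, 1),
    (true, true, 9, 1), (true, true, 9, 1), (false, false, 101, 0), (true, true, 9, 1),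
    (true, true, 9, 1), (true, true, 9, 1)],
    [(true, true, 9, 1), (false, true, 9, 0), (true, true, 9, 1), (true, true, 9, 1),
    (true, true, 9, 1), (false, true, 9, 0), (true, true, 9, 1), (true, true, 9, 1),
    (true, true, 9, 1)],
    [(true, true, 9, 1), (false, false, 101, 0), (false, false, 101, 0), (false, false, 272, 0),
    (true, true, 9, 1), (false, false, 272, 0), (false, false, 101, 0), (false, false, 101, 0)],
    [(true, true, 9, 1), (true, true, 9, 1), (true, true, 9, 1), (false, true, 257, 0),
    (true, true, 9, 1), (true, true, 9, 1), (true, true, 9, 1)],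
    [(false, false, 101, 0), (false, false, 101, 0), (true, true, 9, 1), (false, false, 101, 0),
    (false, false, 272, 0), (false, false, 272, 0)],
    [(false, false, 101, 0), (true, true, 9, 1), (false, false, 101, 0), (false, false, 101, 0),
    (false, false, 101, 0)],
    [(true, true, 9, 1), (false, false, 272, 0), (false, false, 101, 0), (false, false, 101, 0)],
    [(true, true, 9, 1), (true, true, 9, 1), (true, true, 9, 1)],
    [(false, false, 101, 0), (false, false, 101, 0)],
    [(false, false, 272, 0)]]

/-- Image of a point under a product. -/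
def act (w : List ℕ) (x : ℕ) : ℕ := w.foldr tr x

/-- The fixed transvections to multiply with. -/
def extra (e : ℕ) : List ℕ :=
  if e = 1 then [5] else if e = 2 then [80] else if e = 3 then [5, 80] else []

/-- The product numbered `i`. -/
def wordAt (i : ℕ) : List ℕ := words.getD i []

/-- The certificate of `i < j`. -/
def certAt (i j : ℕ) : Bool × Bool × ℕ × ℕ := (certs.getD i []).getD (j - i - 1) (false, false, 0, 0)

/-- The product used to tell `i` and `j` apart. -/
def testWord (i j : ℕ) : List ℕ :=
  let h := (wordAt i).reverse ++ wordAt j
  (if (certAt i j).1 then h ++ h else h) ++ extra (certAt i j).2.2.2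

theorem sideNbr_spec : ∀ s, (sideNbr s).Nodup ∧ (sideNbr s).length = 36 ∧ side s ∈ pts ∧
    (∀ x ∈ sideNbr s, x ∈ pts) ∧
    ∀ x ∈ pts, (x ∈ sideNbr s ↔ x ≠ side s ∧ hf (side s) x = 0) := by decide +kernel

theorem fixed_pair : hf 5 80 = 0 ∧ hf 80 5 = 0 ∧
    ∀ x, x ∈ sideNbr false ∧ x ∈ sideNbr true ↔ x ∈ [85, 165, 245] := by
  have h1 : ∀ x ∈ sideNbr false, x ∈ sideNbr true → x ∈ [85, 165, 245] := by decide +kernel
  have h2 : ∀ x ∈ [85, 165, 245], x ∈ sideNbr false ∧ x ∈ sideNbr true := by decide +kernel
  exact ⟨by decide +kernel, by decide +kernel, fun x => ⟨fun h => h1 x h.1 h.2, h2 x⟩⟩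

theorem lines_spec : ∀ s, (∀ x ∈ sideNbr s, ∃ L ∈ lines s, x ∈ L) ∧
    ∀ L ∈ lines s, ∀ t ∈ L, t ∈ sideNbr s ∧ ∀ x ∈ L, t = x ∨ hf t x = 0 := by decide +kernel

theorem lines_closed : ∀ s, ∀ L ∈ lines s, ∀ x ∈ L, ∀ t ∈ sideNbr s, (t = x ∨ hf t x = 0) → t ∈ L := by
  decide +kernel

/-- The common partners of a point and one not commuting with it meet every line once. -/
theorem mu_lines : ∀ s, ∀ p ∈ pts, hf (side s) p ≠ 0 → ∀ L ∈ lines s,
    (L.filter fun t => hf p t = 0).length = 1 := by decide +kernel

theorem word_spec : ∀ i < 17, (∀ e ∈ wordAt i, e ∈ pts) ∧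
    act (wordAt i) 5 = 5 ∧ act (wordAt i) 80 = 80 := by decide +kernel

set_option synthInstance.maxSize 1024 in
/-- The test of `i < j`: at one of the fixed points the product keeps a line and moves all of it. -/
theorem test_spec : ∀ i < 17, ∀ j < 17, i < j →
    (certAt i j).2.2.1 ∈ sideNbr (certAt i j).2.1 ∧
    ∀ L ∈ lines (certAt i j).2.1, (certAt i j).2.2.1 ∈ L → ∀ x ∈ L,
      hf (act (testWord i j) x) x = 0 ∧ act (testWord i j) x ≠ x := by
  decide +kernel

end CfsgLib.ThreeTrans.Classif.UFive
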